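/-
Hyperbolic pairs, the type (number of pairs, core dimension) of a quadratic space, and counts of level sets.
-/
import Cfsg.Agent.Lib.Orthogonal.Hyper
import Cfsg.Agent.Lib.Orthogonal.Perp

set_option autoImplicit false

namespace Cfsg.Agent.OrthDeg

open QuadraticMap Module Cfsg.Agent.Orth

variable {F V : Type*} [Field F] [AddCommGroup V] [Module F V]

/-- A hyperbolic pair. -/
structure IsPair (Q : QuadraticForm F V) (e d : V) : Prop where
  qe : Q e = 0
  qd : Q d = 0
  ed : polar Q e d = 1

variable {Q : QuadraticForm F V}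

theorem IsPair.symm {e d : V} (h : IsPair Q e d) : IsPair Q d e := ⟨h.qd, h.qe, by rw [b_comm, h.ed]⟩

theorem IsPair.de {e d : V} (h : IsPair Q e d) : polar Q d e = 1 := h.symm.ed

theorem IsPair.ne {e d : V} (h : IsPair Q e d) : e ≠ 0 := fun h0 => by
  have h1 := h.ed
  rw [h0, b_zero_left] at h1
  exact zero_ne_one h1

theorem IsPair.ee {e d : V} (h : IsPair Q e d) : polar Q e e = 0 := by rw [b_self, h.qe, mul_zero]

theorem IsPair.dd {e d : V} (h : IsPair Q e d) : polar Q d d = 0 := h.symm.ee

/-- The orthogonal of a pair. -/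
def pperp (Q : QuadraticForm F V) (e d : V) : Submodule F V := perp Q (Submodule.span F {e, d})

theorem mem_pperp {e d x : V} : x ∈ pperp Q e d ↔ polar Q e x = 0 ∧ polar Q d x = 0 := by
  rw [pperp, mem_perp_span]; simp

/-- The part of a vector orthogonal to the pair. -/
theorem pperp_part {e d : V} (h : IsPair Q e d) (x : V) :
    x - polar Q x d • e - polar Q x e • d ∈ pperp Q e d := by
  rw [mem_pperp]
  constructor
  · rw [b_sub_right, b_sub_right, b_smul_right, b_smul_right, h.ee, h.ed, b_comm x e]; ring
  · rw [b_sub_right, b_sub_right, b_smul_right, b_smul_right, h.dd, h.de, b_comm x d]; ring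

theorem pperp_coords {e d : V} (h : IsPair Q e d) (a b : F) {y : V} (hy : y ∈ pperp Q e d) :
    polar Q (a • e + b • d + y) d = a ∧ polar Q (a • e + b • d + y) e = b ∧
      Q (a • e + b • d + y) = a * b + Q y := by
  obtain ⟨h1, h2⟩ := mem_pperp.1 hy
  refine ⟨?_, ?_, ?_⟩
  · rw [b_add_left, b_add_left, b_smul_left, b_smul_left, h.ed, h.dd, b_comm y d, h2]; ring
  · rw [b_add_left, b_add_left, b_smul_left, b_smul_left, h.ee, h.de, b_comm y e, h1]; ring
  · rw [q_add, q_add, q_smul, q_smul, b_add_left, b_smul_left, b_smul_left, b_smul_left, b_smul_right, h.qe,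
      h.qd, h.ed, h1, h2]
    ring

/-- Splitting off a hyperbolic pair. -/
noncomputable def pairSplit {e d : V} (h : IsPair Q e d) : V ≃ₗ[F] F × F × pperp Q e d where
  toFun x := (polar Q x d, polar Q x e, ⟨x - polar Q x d • e - polar Q x e • d, pperp_part h x⟩)
  map_add' x y := by
    refine Prod.ext (b_add_left x y d) (Prod.ext (b_add_left x y e) (Subtype.ext ?_))
    simp only [Prod.snd_add, Submodule.coe_add, b_add_left]
    module
  map_smul' c x := by
    refine Prod.ext (b_smul_left c x d) (Prod.ext (b_smul_left c x e) (Subtype.ext ?_))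
    simp only [Prod.smul_snd, RingHom.id_apply, Submodule.coe_smul, b_smul_left]
    module
  invFun p := p.1 • e + p.2.1 • d + p.2.2
  left_inv x := by
    show polar Q x d • e + polar Q x e • d + (x - polar Q x d • e - polar Q x e • d) = x
    module
  right_inv p := by
    obtain ⟨a, b, y, hy⟩ := p
    obtain ⟨h1, h2, -⟩ := pperp_coords h a b hy
    refine Prod.ext h1 (Prod.ext h2 (Subtype.ext ?_))
    show a • e + b • d + y - polar Q (a • e + b • d + y) d • e - polar Q (a • e + b • d + y) e • d = y
    rw [h1, h2]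
    module

theorem pairSplit_spec {e d : V} (h : IsPair Q e d) (x : V) :
    hyp (restr Q (pperp Q e d)) (pairSplit h x) = Q x := by
  rw [hyp_apply, restr_apply]
  show polar Q x d * polar Q x e + Q (x - polar Q x d • e - polar Q x e • d) = Q x
  have h1 := (pperp_coords h (polar Q x d) (polar Q x e) (pperp_part h x)).2.2
  rw [show polar Q x d • e + polar Q x e • d + (x - polar Q x d • e - polar Q x e • d) = x by module] at h1
  exact h1.symm

variable [FiniteDimensional F V]

theorem IsPair.nondeg_span {e d : V} (h : IsPair Q e d) :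
    ∀ a ∈ Submodule.span F {e, d}, (∀ b ∈ Submodule.span F {e, d}, polar Q a b = 0) → a = 0 :=
  hyp_pair_nondeg h.qe h.qd h.ed

theorem pperp_nondeg (hQ : (polarBilin Q).Nondegenerate) {e d : V} (h : IsPair Q e d) :
    (polarBilin (restr Q (pperp Q e d))).Nondegenerate := nondeg_restr (perp_nondeg hQ h.nondeg_span)

theorem finrank_pperp {e d : V} (h : IsPair Q e d) : finrank F V = finrank F (pperp Q e d) + 2 := by
  rw [(pairSplit h).finrank_eq, finrank_prod, finrank_prod, finrank_self]; omega

section Counts

variable [Finite F]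

/-- Level sets of the sum with a hyperbolic plane. -/
theorem card_level_hyp {W : Type*} [AddCommGroup W] [Module F W] [Finite W] (QW : QuadraticForm F W) (t : F) :
    Nat.card {v // hyp QW v = t} =
      Nat.card F * Nat.card {w // QW w = t} + (Nat.card F - 1) * Nat.card W := by
  classical
  have e₁ : {v : {v // hyp QW v = t} // v.1.1 = 0} ≃ F × {w // QW w = t} :=
    { toFun := fun v => (v.1.1.2.1, ⟨v.1.1.2.2, by
        have h := v.1.2
        rwa [hyp_apply, v.2, zero_mul, zero_add] at h⟩)
      invFun := fun p => ⟨⟨(0, p.1, p.2.1), by rw [hyp_apply, zero_mul, zero_add]; exact p.2.2⟩, rfl⟩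
      left_inv := fun ⟨⟨⟨x, y, w⟩, _⟩, hx⟩ => by
        dsimp at hx; subst hx; rfl
      right_inv := fun _ => rfl }
  have e₂ : {v : {v // hyp QW v = t} // ¬ v.1.1 = 0} ≃ {x : F // x ≠ 0} × W :=
    { toFun := fun v => (⟨v.1.1.1, v.2⟩, v.1.1.2.2)
      invFun := fun p => ⟨⟨(p.1.1, (t - QW p.2) / p.1.1, p.2), by
        rw [hyp_apply, mul_div_cancel₀ _ p.1.2, sub_add_cancel]⟩, p.1.2⟩
      left_inv := fun ⟨⟨⟨x, y, w⟩, h⟩, hx⟩ => by
        rw [hyp_apply] at h
        refine Subtype.ext (Subtype.ext (Prod.ext rfl (Prod.ext ?_ rfl)))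
        show (t - QW w) / x = y
        rw [div_eq_iff hx]
        linear_combination -h
      right_inv := fun _ => rfl }
  rw [← Nat.card_congr (Equiv.sumCompl fun v : {v // hyp QW v = t} => v.1.1 = 0), Nat.card_sum,
    Nat.card_congr e₁, Nat.card_congr e₂, Nat.card_prod, Nat.card_prod,
    Nat.card_congr (Equiv.optionSubtypeNe (0 : F)).symm, Finite.card_option, Nat.add_sub_cancel]

theorem card_submodule (Y : Submodule F V) : Nat.card Y = Nat.card F ^ finrank F Y :=
  Module.natCard_eq_pow_finrank

theorem card_level_pair {e d : V} (h : IsPair Q e d) (t : F) :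
    Nat.card {v // Q v = t} = Nat.card F * Nat.card {y : pperp Q e d // Q (y : V) = t}
      + (Nat.card F - 1) * Nat.card F ^ finrank F (pperp Q e d) := by
  haveI : Finite V := Module.finite_of_finite F
  have hl := card_level_hyp (restr Q (pperp Q e d)) t
  simp only [restr_apply] at hl
  rw [← card_submodule, ← hl]
  exact Nat.card_congr ((pairSplit h).toEquiv.subtypeEquiv fun v => by
    rw [LinearEquiv.coe_toEquiv, pairSplit_spec])

/-- Number of zeros with m planes and a core of dimension c. -/
def zc (q c : ℕ) : ℕ → ℕ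
  | 0 => 1
  | m + 1 => (q - 1) * q ^ (2 * m + c) + q * zc q c m

theorem zc_pos (q c : ℕ) (hq : 0 < q) : ∀ m, 0 < zc q c m
  | 0 => Nat.one_pos
  | m + 1 => Nat.add_pos_right _ (Nat.mul_pos hq (zc_pos q c hq m))

theorem zc_one_lt (q c : ℕ) (hq : 2 ≤ q) (m : ℕ) : 1 < zc q c (m + 1) := by
  have h := Nat.mul_le_mul hq (zc_pos q c (by omega) m)
  show 1 < _ + q * zc q c m
  omega

/-- The closed form. -/
theorem zc_spec (q c : ℕ) (hq : 0 < q) : ∀ m,
    q * zc q c m + q ^ (m + c) = q ^ (m + 1) + q ^ (2 * m + c)
  | 0 => by simp [zc]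
  | m + 1 => by
    have ih := zc_spec q c hq m
    obtain ⟨p, rfl⟩ : ∃ p, q = p + 1 := ⟨q - 1, by omega⟩
    rw [zc, Nat.add_sub_cancel]
    simp only [pow_add, pow_mul, pow_one, pow_two, pow_succ] at ih ⊢
    linear_combination (p + 1) * ih

/-- Q has m hyperbolic planes over a core of dimension c. -/
def HasType (Q : QuadraticForm F V) (c m : ℕ) : Prop :=
  finrank F V = 2 * m + c ∧ Nat.card {v // Q v = 0} = zc (Nat.card F) c m

theorem HasType.exists_pair (hQ : (polarBilin Q).Nondegenerate) {c m : ℕ} (h : HasType Q c (m + 1)) :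
    ∃ e d, IsPair Q e d := by
  haveI : Finite V := Module.finite_of_finite F
  have h1 : 1 < Nat.card {v // Q v = 0} := h.2 ▸ zc_one_lt _ c Finite.one_lt_card m
  haveI := Finite.one_lt_card_iff_nontrivial.1 h1
  obtain ⟨⟨e, he⟩, hne⟩ := exists_ne (⟨0, map_zero Q⟩ : {v // Q v = 0})
  obtain ⟨d, hd, hd0⟩ := exists_partner hQ (fun h0 => hne (Subtype.ext h0)) he
  exact ⟨e, d, he, hd0, hd⟩

theorem HasType.restrict {c m : ℕ} (h : HasType Q c (m + 1)) {e d : V} (p : IsPair Q e d) :
    HasType (restr Q (pperp Q e d)) c m := by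
  have h1 := finrank_pperp p
  have hd : finrank F (pperp Q e d) = 2 * m + c := by have := h.1; omega
  refine ⟨hd, ?_⟩
  have h2 := card_level_pair p (0 : F)
  rw [h.2, hd, zc, add_comm ((Nat.card F - 1) * _)] at h2
  exact (Nat.eq_of_mul_eq_mul_left (Nat.card_pos (α := F)) (Nat.add_right_cancel h2)).symm

theorem exists_indep_of_two_le (h : 2 ≤ finrank F V) {v : V} (hv : v ≠ 0) :
    ∃ w, w ∉ Submodule.span F {v} := by
  by_contra! hall
  have h1 := Submodule.finrank_mono (show (⊤ : Submodule F V) ≤ Submodule.span F {v} from fun x _ => hall x)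
  rw [finrank_top, finrank_span_singleton hv] at h1
  omega

/-- Every value is taken at least q + 1 times by an anisotropic plane. -/
theorem aniso_level (hQ : (polarBilin Q).Nondegenerate) (hd : finrank F V = 2)
    (han : ∀ v, Q v = 0 → v = 0) {t : F} (ht : t ≠ 0) : Nat.card F + 1 ≤ Nat.card {v // Q v = t} := by
  classical
  haveI : Finite V := Module.finite_of_finite F
  haveI := Fintype.ofFinite F
  obtain ⟨v, hv⟩ := exists_value hQ (by omega) t
  have hv0 : v ≠ 0 := fun h0 => ht (by rw [← hv, h0, map_zero])
  obtain ⟨w, hw⟩ := exists_indep_of_two_le (hd.symm.le) hv0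
  obtain ⟨a, ha⟩ : ∃ a : Option F → V, ∀ o, a o = o.elim v fun s => w + s • v := ⟨_, fun _ => rfl⟩
  have hli : ∀ o o' (c c' : F), c • a o = c' • a o' → c ≠ 0 → o = o' := by
    intro o o' c c' h hc
    have key : ∀ r r' : F, r • w = r' • v → r = 0 := fun r r' h => by
      by_contra hr
      exact hw (Submodule.mem_span_singleton.2 ⟨r⁻¹ * r', by rw [mul_smul, ← h, smul_smul, inv_mul_cancel₀ hr, one_smul]⟩)
    rcases o with _ | s <;> rcases o' with _ | s' <;> simp only [ha, Option.elim] at h
    · rfl
    · have h1 := key c' (c - c' * s') (by linear_combination (norm := module) -h)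
      rw [h1, zero_smul] at h
      exact absurd ((smul_eq_zero.1 h).resolve_right hv0) hc
    · exact absurd (key c (c' - c * s) (by linear_combination (norm := module) h)) hc
    · have h1 := key (c - c') (c' * s' - c * s) (by linear_combination (norm := module) h)
      rw [sub_eq_zero] at h1
      subst h1
      have h2 : (c * (s - s')) • v = 0 := by linear_combination (norm := module) h
      rcases mul_eq_zero.1 ((smul_eq_zero.1 h2).resolve_right hv0) with h3 | h3
      · exact absurd h3 hc
      · rw [sub_eq_zero.1 h3]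
  have hane : ∀ o, Q (a o) ≠ 0 := fun o h => by
    have h0 := han _ h
    rcases o with _ | s <;> simp only [ha, Option.elim] at h0
    · exact hv0 h0
    · exact hw (Submodule.mem_span_singleton.2 ⟨-s, by linear_combination (norm := module) -h0⟩)
  let f : Option F → {x // Q x = t} := fun o =>
    ⟨v - (polar Q v (a o) / Q (a o)) • a o, by
      rw [q_sub, q_smul, b_smul_right, hv]
      have := hane o
      field_simp
      ring⟩
  have hf : Function.Injective f := by
    intro o o' h
    have h1 : (polar Q v (a o) / Q (a o)) • a o = (polar Q v (a o') / Q (a o')) • a o' := by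
      have := congrArg Subtype.val h
      simpa [f] using this
    rcases ne_or_eq (polar Q v (a o) / Q (a o)) 0 with hc | hc
    · exact hli o o' _ _ h1 hc
    rcases ne_or_eq (polar Q v (a o') / Q (a o')) 0 with hc' | hc'
    · exact (hli o' o _ _ h1.symm hc').symm
    have b0 : polar Q v (a o) = 0 := (div_eq_zero_iff.1 hc).resolve_right (hane o)
    have b1 : polar Q v (a o') = 0 := (div_eq_zero_iff.1 hc').resolve_right (hane o')
    by_contra hne
    -- two independent vectors orthogonal to v
    have hspan : Submodule.span F {a o, a o'} = ⊤ := by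
      refine Submodule.eq_top_of_finrank_eq (le_antisymm ?_ ?_)
      · exact Submodule.finrank_le _
      · rw [hd]
        have hin : LinearIndependent F ![a o, a o'] := (LinearIndependent.pair_iff).2 fun s r hsr => by
          have hs : s = 0 := by
            by_contra hs
            exact hne (hli o o' s (-r) (by linear_combination (norm := module) hsr) hs)
          rw [hs, zero_smul, zero_add] at hsr
          exact ⟨hs, (smul_eq_zero.1 hsr).resolve_right fun h0 => hane o' (by rw [h0, map_zero])⟩
        have h2 := finrank_span_eq_card hin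
        rw [Matrix.range_cons, Matrix.range_cons, Matrix.range_empty, Set.union_empty, Set.singleton_union,
          Fintype.card_fin] at h2
        exact h2.ge
    refine hv0 (eq_zero_of_b hQ fun x => ?_)
    have hx : x ∈ Submodule.span F {a o, a o'} := hspan ▸ Submodule.mem_top
    obtain ⟨s, r, rfl⟩ := Submodule.mem_span_pair.1 hx
    rw [b_add_right, b_smul_right, b_smul_right, b0, b1]; ring
  have h := Nat.card_le_card_of_injective f hf
  rwa [Finite.card_option] at h

/-- The error in the lower bound for level sets, scaled by q. -/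
def levelErr (q : ℤ) : ℕ → ℕ → ℤ
  | 0, m => -q ^ m
  | 1, m => -q ^ (m + 1)
  | _, m => q ^ (m + 1)

theorem levelErr_succ (q : ℤ) (c m : ℕ) : levelErr q c (m + 1) = q * levelErr q c m := by
  match c with
  | 0 => simp [levelErr, pow_succ]; ring
  | 1 => simp [levelErr, pow_succ]; ring
  | _ + 2 => simp [levelErr, pow_succ]; ring

/-- Lower bound for the number of vectors of a given nonzero value. -/
theorem level_bound : ∀ (m : ℕ) {V : Type*} [AddCommGroup V] [Module F V] [FiniteDimensional F V]
    {Q : QuadraticForm F V}, (polarBilin Q).Nondegenerate → ∀ {c : ℕ}, c ≤ 2 → HasType Q c m →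
      ∀ {t : F}, t ≠ 0 →
      (Nat.card F : ℤ) ^ (2 * m + c) + levelErr (Nat.card F) c m ≤ Nat.card F * Nat.card {v // Q v = t}
  | 0, V, _, _, _, Q, hQ, c, hc, h, t, ht => by
    have hnn : (0 : ℤ) ≤ (Nat.card F : ℤ) * Nat.card {v // Q v = t} := by positivity
    match c, hc with
    | 0, _ => simpa [levelErr] using hnn
    | 1, _ => simpa [levelErr] using hnn
    | 2, _ =>
      have han : ∀ v, Q v = 0 → v = 0 := fun v hv => by
        haveI := (Nat.card_eq_one_iff_unique.1 h.2).1
        exact congrArg Subtype.val (Subsingleton.elim (⟨v, hv⟩ : {v // Q v = 0}) ⟨0, map_zero Q⟩)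
      have h1 : (Nat.card F : ℤ) + 1 ≤ Nat.card {v // Q v = t} := by
        exact_mod_cast aniso_level hQ h.1 han ht
      show (Nat.card F : ℤ) ^ 2 + (Nat.card F : ℤ) ^ 1 ≤ _
      nlinarith
  | m + 1, V, _, _, _, Q, hQ, c, hc, h, t, ht => by
    obtain ⟨e, d, p⟩ := h.exists_pair hQ
    have hY := h.restrict p
    have ih := level_bound m (pperp_nondeg hQ p) hc hY ht
    rw [card_level_pair p t, hY.1, levelErr_succ]
    have hq : 1 ≤ Nat.card F := Nat.card_pos
    have hq0 : (0 : ℤ) ≤ Nat.card F := Nat.cast_nonneg _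
    have h1 := mul_le_mul_of_nonneg_left ih hq0
    push_cast [Nat.cast_sub hq]
    simp only [restr_apply] at h1
    ring_nf at h1 ⊢
    linarith

end Counts

end Cfsg.Agent.OrthDeg
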