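/-
The degree bound as a partial sum of zero counts, and the inequalities it satisfies.
-/
import Cfsg.Agent.Lib.OrthDeg.Count
import Mathlib.Tactic.Linarith

set_option autoImplicit false

namespace Cfsg.Agent.OrthDeg

/-- Partial sums of zero counts. -/
def dd (q c : ℕ) : ℕ → ℕ
  | 0 => 0
  | m + 1 => zc q c m + dd q c m

/-- The minimal degree. -/
def mdeg (q c m : ℕ) : ℕ := dd q c m - c / 2

theorem dd_pos (q c : ℕ) (hq : 0 < q) (m : ℕ) : 1 ≤ dd q c (m + 1) :=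
  le_trans (zc_pos q c hq m) (Nat.le_add_right _ _)

theorem mdeg_succ (q c : ℕ) (hq : 0 < q) (hc : c ≤ 3) (m : ℕ) :
    mdeg q c (m + 2) = zc q c (m + 1) + mdeg q c (m + 1) := by
  have h := dd_pos q c hq m
  show zc q c (m + 1) + dd q c (m + 1) - c / 2 = zc q c (m + 1) + (dd q c (m + 1) - c / 2)
  omega

theorem sub_one_dd_le (q c : ℕ) : ∀ m, (q - 1) * dd q c m ≤ zc q c m
  | 0 => by simp [dd]
  | m + 1 => by
    have ih := sub_one_dd_le q c m
    rcases q with _ | p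
    · simp
    show (p + 1 - 1) * (zc _ c m + dd _ c m) ≤ _ + (p + 1) * zc _ c m
    rw [Nat.add_sub_cancel] at ih ⊢
    rw [mul_add, add_mul, one_mul]
    omega

theorem dd_le_zc (q c : ℕ) (hq : 2 ≤ q) (m : ℕ) : dd q c m ≤ zc q c m :=
  le_trans (Nat.le_mul_of_pos_left _ (by omega)) (sub_one_dd_le q c m)

theorem two_le_zc (q c : ℕ) (hq : 2 ≤ q) (m : ℕ) : q ≤ zc q c (m + 1) :=
  le_trans (Nat.le_mul_of_pos_right _ (zc_pos q c (by omega) m)) (Nat.le_add_left _ _)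

theorem dd_two_le (q c : ℕ) (hq : 2 ≤ q) : ∀ j, 2 ≤ j → dd q c j + 2 ≤ zc q c j := by
  intro j hj
  induction j, hj using Nat.le_induction with
  | base =>
    show zc q c 1 + (zc q c 0 + 0) + 2 ≤ (q - 1) * q ^ (2 * 1 + c) + q * zc q c 1
    have h1 := two_le_zc q c hq 0
    have h2 : 4 ≤ q ^ (2 * 1 + c) :=
      le_trans (by nlinarith) (Nat.pow_le_pow_right (by omega : 0 < q) (by omega : 2 ≤ 2 * 1 + c))
    have h3 : 4 ≤ (q - 1) * q ^ (2 * 1 + c) := le_trans h2 (Nat.le_mul_of_pos_left _ (by omega))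
    have h4 := Nat.mul_le_mul_right (zc q c 1) (show 1 ≤ q by omega)
    rw [show zc q c 0 = 1 from rfl]
    omega
  | succ j hj ih =>
    show zc q c j + dd q c j + 2 ≤ _ + q * zc q c j
    have := Nat.mul_le_mul_right (zc q c j) hq
    omega

/-- Multiplicity one on the singular class. -/
theorem mdeg_le_two_sing (q c : ℕ) (hq : 2 ≤ q) {j : ℕ} (hj : 2 ≤ j) :
    mdeg q c (j + 1) ≤ 2 * (zc q c j - 1) := by
  have h1 : dd q c j + 2 ≤ zc q c j := dd_two_le q c hq j hj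
  have h2 : mdeg q c (j + 1) ≤ zc q c j + dd q c j := Nat.sub_le _ _
  omega

/-- A nonsingular orbit alone is too large outside the minus type. -/
theorem mdeg_le_orbit {q c j L : ℕ} (hcond : (c = 0 ∧ 4 ≤ q ∧ 3 ≤ j) ∨ (c = 1 ∧ 5 ≤ q ∧ 2 ≤ j))
    (hL : (q : ℤ) ^ (2 * j + c) + levelErr q c j ≤ q * L) : mdeg q c (j + 1) ≤ 2 * L := by
  have hq : 4 ≤ q := by omega
  have hm : mdeg q c (j + 1) ≤ dd q c (j + 1) := Nat.sub_le _ _
  have hd : (((q - 1) * dd q c (j + 1) : ℕ) : ℤ) ≤ ((q * zc q c j : ℕ) : ℤ) := by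
    norm_cast
    have h1 := sub_one_dd_le q c j
    show (q - 1) * (zc q c j + dd q c j) ≤ _
    rw [mul_add]
    have e : q * zc q c j = (q - 1) * zc q c j + zc q c j := by
      rw [← Nat.succ_mul, show (q - 1).succ = q by omega]
    omega
  have hz : (q : ℤ) * zc q c j + (q : ℤ) ^ (j + c) = (q : ℤ) ^ (j + 1) + (q : ℤ) ^ (2 * j + c) := by
    exact_mod_cast zc_spec q c (by omega) j
  rw [Nat.cast_mul, Nat.cast_mul, Nat.cast_sub (by omega : 1 ≤ q), Nat.cast_one] at hd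
  suffices h : (dd q c (j + 1) : ℤ) ≤ 2 * L by omega
  obtain ⟨x, hx⟩ : ∃ x : ℤ, (q : ℤ) ^ j = x := ⟨_, rfl⟩
  obtain ⟨Q', hQ'⟩ : ∃ Q' : ℤ, (q : ℤ) = Q' := ⟨_, rfl⟩
  have hQ4 : 4 ≤ Q' := by omega
  rw [hQ'] at hd hz hL hx
  refine le_of_mul_le_mul_left ?_ (show (0 : ℤ) < Q' * (Q' - 1) by nlinarith)
  have hd' := mul_le_mul_of_nonneg_left hd (show (0 : ℤ) ≤ Q' by omega)
  have hL' := mul_le_mul_of_nonneg_left hL (show (0 : ℤ) ≤ 2 * (Q' - 1) by omega)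
  rcases hcond with ⟨rfl, -, hj⟩ | ⟨rfl, hq5, hj⟩
  · have hx3 : Q' ^ 3 ≤ x := hx ▸ pow_le_pow_right₀ (by omega) hj
    simp only [levelErr, add_zero, pow_succ, two_mul, pow_add, pow_zero, hx, one_mul] at hz hL' hx3
    have h5 : Q' ^ 2 + Q' - 2 ≤ (Q' - 2) * x := by
      have k1 := mul_le_mul_of_nonneg_right (show (2 : ℤ) ≤ Q' - 2 by omega) (show (0 : ℤ) ≤ x by nlinarith)
      nlinarith
    have h6 := mul_le_mul_of_nonneg_right h5 (show (0 : ℤ) ≤ x by nlinarith)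
    nlinarith
  · have hQ5 : 5 ≤ Q' := by omega
    have hx2 : Q' ^ 2 ≤ x := hx ▸ pow_le_pow_right₀ (by omega) hj
    simp only [levelErr, pow_succ, two_mul, pow_add, pow_zero, hx, one_mul] at hz hL' hx2
    have h5 : 2 * Q' - 2 ≤ (Q' - 2) * x := by nlinarith
    have h6 := mul_le_mul_of_nonneg_right h5 (show (0 : ℤ) ≤ x * Q' by nlinarith)
    nlinarith

/-- Facts about a nonsingular level set in minus type. -/
theorem minus_orbit {q j L : ℕ} (hq : 2 ≤ q) (hL : (q : ℤ) ^ (2 * j + 2) + levelErr q 2 j ≤ q * L) :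
    zc q 2 j ≤ L ∧ mdeg q 2 (j + 1) ≤ 2 * L := by
  have hz : q * zc q 2 j + q ^ (j + 2) = q ^ (j + 1) + q ^ (2 * j + 2) := zc_spec q 2 (by omega) j
  have hL' : q ^ (2 * j + 2) + q ^ (j + 1) ≤ q * L := by
    simp only [levelErr] at hL
    exact_mod_cast hL
  have h1 : zc q 2 j ≤ L := Nat.le_of_mul_le_mul_left (by omega : q * zc q 2 j ≤ q * L) (by omega)
  refine ⟨h1, ?_⟩
  have h2 := dd_le_zc q 2 hq j
  show zc q 2 j + dd q 2 j - 2 / 2 ≤ 2 * L
  omega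

theorem minus_base_orbit {q L : ℕ} (hq : 2 ≤ q) (hL : (q : ℤ) ^ (2 * 2 + 2) + levelErr q 2 2 ≤ q * L) :
    mdeg q 2 3 ≤ L := by
  have hL' : q ^ (2 * 2 + 2) + q ^ (2 + 1) ≤ q * L := by
    simp only [levelErr] at hL
    exact_mod_cast hL
  have hm : q * mdeg q 2 3 = q ^ 6 + q ^ 2 := by
    obtain ⟨p, rfl⟩ : ∃ p, q = p + 1 := ⟨q - 1, by omega⟩
    simp only [mdeg, dd, zc, Nat.add_sub_cancel, Nat.reduceMul, Nat.reduceAdd, Nat.reduceDiv, ← add_assoc,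
      add_zero, mul_one]
    ring
  refine Nat.le_of_mul_le_mul_left (hm.trans_le ?_) (by omega : 0 < q)
  have : q ^ 2 ≤ q ^ 3 := Nat.pow_le_pow_right (by omega) (by omega)
  norm_num at hL'
  omega

end Cfsg.Agent.OrthDeg
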