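/-
Elements of Omega: root elements, transitivity with prescribed multipliers, torus squares, and the Omega of the
orthogonal of a hyperbolic pair inside the big one.
-/
import Cfsg.Agent.Lib.Orthogonal.Simple
import Cfsg.Agent.Lib.Classical.TwoGenOrth.Basic
import Cfsg.Agent.Lib.OrthDeg.Count

set_option autoImplicit false

namespace Cfsg.Agent.OrthDeg

open QuadraticMap Module Cfsg.Agent.Orth Cfsg.Agent.TwoGenOrth
open scoped commutatorElement

variable {F V : Type*} [Field F] [AddCommGroup V] [Module F V] {Q : QuadraticForm F V}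

/-- A chosen root element of Omega. -/
noncomputable def tr (Q : QuadraticForm F V) (u y : V) : omg Q := by
  classical
  exact if h : sg Q u y ∈ omg Q then ⟨sg Q u y, h⟩ else 1

/-- Action of Omega on vectors. -/
abbrev app (g : omg Q) (x : V) : V := g.1.1 x

theorem app_mul (g h : omg Q) (x : V) : app (g * h) x = app g (app h x) := rfl

theorem app_one (x : V) : app (1 : omg Q) x = x := rfl

theorem app_inv_app (g : omg Q) (x : V) : app g⁻¹ (app g x) = x := g.1.1.symm_apply_apply x

theorem app_app_inv (g : omg Q) (x : V) : app g (app g⁻¹ x) = x := g.1.1.apply_symm_apply x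

theorem q_app (g : omg Q) (x : V) : Q (app g x) = Q x := g.1.2 x

theorem b_app (g : omg Q) (x y : V) : polar Q (app g x) (app g y) = polar Q x y := b_map g.1.2 x y

theorem app_ne (g : omg Q) {x : V} (hx : x ≠ 0) : app g x ≠ 0 := (LinearEquiv.map_ne_zero_iff _).2 hx

theorem omg_ext {g h : omg Q} (hgh : ∀ x, app g x = app h x) : g = h :=
  Subtype.ext (Subtype.ext (LinearEquiv.ext hgh))

/-- Non-degenerate of dimension at least five. -/
structure Good [FiniteDimensional F V] (Q : QuadraticForm F V) : Prop where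
  nd : (polarBilin Q).Nondegenerate
  dim : 5 ≤ finrank F V

variable [FiniteDimensional F V] [Fintype F]

theorem tr_coe (hG : Good Q) {u y : V} (hu : Q u = 0) (hy : polar Q u y = 0) : (tr Q u y).1 = sg Q u y := by
  have h : sg Q u y ∈ omg Q := by
    have h1 := siegel_mem hG.nd hG.dim hu hy (sg_spec hu hy)
    rwa [siegelGroup_eq hG.nd hG.dim] at h1
  unfold tr
  rw [dif_pos h]

theorem tr_apply (hG : Good Q) {u y : V} (hu : Q u = 0) (hy : polar Q u y = 0) (x : V) :
    app (tr Q u y) x = x + polar Q x u • y - (polar Q x y + Q y * polar Q x u) • u := by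
  show (tr Q u y).1.1 x = _
  rw [tr_coe hG hu hy, sg_apply hu hy]

theorem tr_fix (hG : Good Q) {u y x : V} (hu : Q u = 0) (hy : polar Q u y = 0) (h1 : polar Q x u = 0)
    (h2 : polar Q x y = 0) : app (tr Q u y) x = x := by
  show (tr Q u y).1.1 x = _
  rw [tr_coe hG hu hy, sg_fix hu hy h1 h2]

theorem tr_zero (hG : Good Q) {u : V} (hu : Q u = 0) : tr Q u 0 = 1 :=
  Subtype.ext (by rw [tr_coe hG hu (b_zero_right u), sg_zero hu]; rfl)

theorem tr_self (hG : Good Q) {u : V} {c : F} (hu : Q u = 0) : tr Q u (c • u) = 1 :=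
  Subtype.ext (by rw [tr_coe hG hu (by rw [b_smul_right, b_self, hu, mul_zero, mul_zero]), sg_self hu]; rfl)

theorem tr_add (hG : Good Q) {u y y' : V} (hu : Q u = 0) (hy : polar Q u y = 0) (hy' : polar Q u y' = 0) :
    tr Q u (y + y') = tr Q u y * tr Q u y' :=
  Subtype.ext (by
    rw [Subgroup.coe_mul, tr_coe hG hu (by rw [b_add_right, hy, hy', add_zero]), tr_coe hG hu hy,
      tr_coe hG hu hy', sg_add hu hy hy'])

theorem tr_neg (hG : Good Q) {u y : V} (hu : Q u = 0) (hy : polar Q u y = 0) :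
    tr Q u (-y) = (tr Q u y)⁻¹ := by
  have hny : polar Q u (-y) = 0 := by rw [← neg_one_smul F y, b_smul_right, hy, mul_zero]
  rw [eq_inv_iff_mul_eq_one, ← tr_add hG hu hny hy, neg_add_cancel, tr_zero hG hu]

theorem tr_conj (hG : Good Q) (g : omg Q) {u y : V} (hu : Q u = 0) (hy : polar Q u y = 0) :
    g * tr Q u y * g⁻¹ = tr Q (app g u) (app g y) :=
  Subtype.ext (by
    rw [Subgroup.coe_mul, Subgroup.coe_mul, Subgroup.coe_inv, tr_coe hG hu hy,
      tr_coe hG (by rw [q_app, hu]) (by rw [b_app, hy]), sg_conj g.1 hu hy])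

theorem tr_scale (hG : Good Q) (c : F) {u y : V} (hu : Q u = 0) (hy : polar Q u y = 0) :
    tr Q (c • u) y = tr Q u (c • y) :=
  Subtype.ext (by
    rw [tr_coe hG (by rw [q_smul, hu, mul_zero]) (by rw [b_smul_left, hy, mul_zero]),
      tr_coe hG hu (by rw [b_smul_right, hy, mul_zero]), sg_scale c hu hy])

theorem tr_swap (hG : Good Q) {u y : V} (hu : Q u = 0) (hy : Q y = 0) (h : polar Q u y = 0) :
    tr Q u y = tr Q y (-u) :=
  Subtype.ext (by
    rw [tr_coe hG hu h, tr_coe hG hy (by rw [← neg_one_smul F, b_smul_right, b_comm, h, mul_zero]),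
      sg_swap hu hy h])

theorem tr_add_left (hG : Good Q) {u v z : V} (hu : Q u = 0) (hv : Q v = 0) (huv : polar Q u v = 0)
    (huz : polar Q u z = 0) (hvz : polar Q v z = 0) :
    tr Q (u + v) z = tr Q u z * tr Q v z * tr Q u ((-Q z) • v) :=
  Subtype.ext (by
    rw [Subgroup.coe_mul, Subgroup.coe_mul, tr_coe hG hu huz, tr_coe hG hv hvz,
      tr_coe hG hu (by rw [b_smul_right, huv, mul_zero]),
      tr_coe hG (by rw [q_add, hu, hv, huv]; ring) (by rw [b_add_left, huz, hvz, add_zero]),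
      sg_add_left hu hv huv huz hvz])

/-! ### Subspaces around a vector -/

omit [Fintype F] in
/-- A small non-degenerate subspace around a vector. -/
theorem exists_hull (hQ : (polarBilin Q).Nondegenerate) (w : V) :
    ∃ P : Submodule F V, w ∈ P ∧ finrank F P ≤ 2 ∧
      ∀ a ∈ P, (∀ b ∈ P, polar Q a b = 0) → a = 0 := by
  rcases eq_or_ne w 0 with rfl | hw
  · exact ⟨⊥, Submodule.zero_mem _, by simp, fun a ha _ => (Submodule.mem_bot F).1 ha⟩
  rcases ne_or_eq (polar Q w w) 0 with h | h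
  · refine ⟨Submodule.span F {w}, Submodule.mem_span_singleton_self w,
      (finrank_span_singleton hw).le.trans one_le_two, fun a ha hab => ?_⟩
    obtain ⟨s, rfl⟩ := Submodule.mem_span_singleton.1 ha
    have h1 := hab w (Submodule.mem_span_singleton_self w)
    rw [b_smul_left] at h1
    rw [(mul_eq_zero.1 h1).resolve_right h, zero_smul]
  obtain ⟨y, hy⟩ : ∃ y, polar Q w y ≠ 0 := by
    by_contra! hall
    exact hw (eq_zero_of_b hQ hall)
  refine ⟨Submodule.span F {w, y}, Submodule.subset_span (by simp), finrank_span_pair_le w y, fun a ha hab => ?_⟩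
  obtain ⟨s, t, rfl⟩ := Submodule.mem_span_pair.1 ha
  have h1 := hab w (Submodule.subset_span (by simp))
  have h2 := hab y (Submodule.subset_span (by simp))
  simp only [b_add_left, b_smul_left, h, b_comm y w, mul_zero, zero_add] at h1 h2
  have ht := (mul_eq_zero.1 h1).resolve_right hy
  rw [ht, zero_mul, add_zero] at h2
  rw [(mul_eq_zero.1 h2).resolve_right hy, ht, zero_smul, zero_smul, add_zero]

/-- A hyperbolic pair orthogonal to a vector. -/
theorem exists_pair_orth (hQ : (polarBilin Q).Nondegenerate) (hD : 5 ≤ finrank F V) (w : V) :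
    ∃ f g, IsPair Q f g ∧ polar Q w f = 0 ∧ polar Q w g = 0 := by
  obtain ⟨P, hw, hP2, hP⟩ := exists_hull hQ w
  obtain ⟨f, g, hf, hg, qf, qg, fg⟩ := exists_hyp_perp hQ hP (by omega)
  exact ⟨f, g, ⟨qf, qg, fg⟩, hf w hw, hg w hw⟩

/-- A second pair, orthogonal to a given vector. -/
theorem exists_pair_avoid (hQ : (polarBilin Q).Nondegenerate) (hD : 7 ≤ finrank F V) {e d : V}
    (p : IsPair Q e d) {w : V} (hw : w ∈ pperp Q e d) :
    ∃ f g, IsPair Q f g ∧ f ∈ pperp Q e d ∧ g ∈ pperp Q e d ∧ polar Q w f = 0 ∧ polar Q w g = 0 := by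
  have h1 := finrank_pperp p
  obtain ⟨f, g, hp, hf, hg⟩ := exists_pair_orth (pperp_nondeg hQ p) (by omega) ⟨w, hw⟩
  exact ⟨f, g, ⟨hp.qe, hp.qd, hp.ed⟩, f.2, g.2, hf, hg⟩

/-! ### Transitivity -/

omit [Fintype F] [FiniteDimensional F V] in
theorem indep_pperp {e d w : V} (p : IsPair Q e d) (hw : w ∈ pperp Q e d) (hw0 : w ≠ 0) :
    LinearIndependent F ![e, w] := by
  refine LinearIndependent.pair_iff.2 fun s t h => ?_
  have h1 := congrArg (fun x => polar Q d x) h
  simp only [b_add_right, b_smul_right, p.de, (mem_pperp.1 hw).2, b_zero_right, mul_one, mul_zero, add_zero] at h1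
  rw [h1, zero_smul, zero_add] at h
  exact ⟨h1, (smul_eq_zero.1 h).resolve_right hw0⟩

/-- Omega moves (e, w) to (c e, c w') whenever the norms allow it. -/
theorem transit (hG : Good Q) (hD : 7 ≤ finrank F V) {e d w w' : V} (p : IsPair Q e d)
    (hw : w ∈ pperp Q e d) (hw' : w' ∈ pperp Q e d) (h0 : w ≠ 0) (h0' : w' ≠ 0) {c : F} (hc : c ≠ 0)
    (hq : Q w = c * c * Q w') : ∃ g : omg Q, app g e = c • e ∧ app g w = c • w' := by
  have hind : LinearIndependent F ![c • e, c • w'] := by
    refine LinearIndependent.pair_iff.2 fun s t h => ?_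
    rw [smul_smul, smul_smul] at h
    obtain ⟨h1, h2⟩ := LinearIndependent.pair_iff.1 (indep_pperp p hw' h0') _ _ h
    exact ⟨(mul_eq_zero.1 h1).resolve_right hc, (mul_eq_zero.1 h2).resolve_right hc⟩
  obtain ⟨g, hg, hge, hgw⟩ := witt_two hG.nd (indep_pperp p hw h0) hind (by rw [q_smul, p.qe, mul_zero])
    (by rw [q_smul, hq]) (by rw [b_smul_left, b_smul_right, (mem_pperp.1 hw').1, (mem_pperp.1 hw).1]; ring)
  obtain ⟨f, f', hf, hfY, hfY', hwf, hwf'⟩ := exists_pair_avoid hG.nd hD p hw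
  obtain ⟨h, hh⟩ := omega_map hG.nd hG.dim ⟨g, hg⟩ hf.qe hf.qd hf.ed
  exact ⟨h, (hh e (mem_pperp.1 hfY).1 (mem_pperp.1 hfY').1).trans hge, (hh w hwf hwf').trans hgw⟩

/-- Omega is transitive on hyperbolic pairs. -/
theorem transit_pair (hG : Good Q) (hD : 7 ≤ finrank F V) {e d e' d' : V} (p : IsPair Q e d)
    (p' : IsPair Q e' d') : ∃ g : omg Q, app g e = e' ∧ app g d = d' :=
  omega_map_two hG.nd hD (pair_indep p.qe p.symm.ne (p.ed ▸ one_ne_zero))
    (pair_indep p'.qe p'.symm.ne (p'.ed ▸ one_ne_zero)) p.qe p.qd p'.qe p'.qd (p'.ed.trans p.ed.symm)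

/-- Omega is transitive on nonzero singular vectors. -/
theorem transit_sing (hG : Good Q) (hD : 7 ≤ finrank F V) {e e' : V} (h0 : e ≠ 0) (h0' : e' ≠ 0) (he : Q e = 0)
    (he' : Q e' = 0) : ∃ g : omg Q, app g e = e' := by
  obtain ⟨d, hd, hd0⟩ := exists_partner hG.nd h0 he
  obtain ⟨d', hd', hd0'⟩ := exists_partner hG.nd h0' he'
  obtain ⟨g, hg, -⟩ := transit_pair hG hD (e := e) (d := d) ⟨he, hd0, hd⟩ (e' := e') (d' := d') ⟨he', hd0', hd'⟩
  exact ⟨g, hg⟩

/-! ### Special elements -/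

theorem scale_mem (hG : Good Q) {e d : V} (p : IsPair Q e d) {s : F} (hs : s ≠ 0) :
    ∃ h : omg Q, app h e = (s * s) • e ∧ app h d = (s⁻¹ * s⁻¹) • d ∧
      ∀ y ∈ pperp Q e d, app h y = y := by
  obtain ⟨χ, hker, hχ⟩ := spinor_exists_ker hG.nd hG.dim
  have h1 : Q (e - d) = -1 := by rw [q_sub, p.qe, p.qd, p.ed]; ring
  have h2 : Q (e - s⁻¹ • d) = -s⁻¹ := by rw [q_sub, q_smul, b_smul_right, p.qe, p.qd, p.ed]; ring
  obtain ⟨r₁, hr₁m, hr₁⟩ := exists_isRefl (a := e - d) (Q := Q) (by rw [h1]; simp)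
  obtain ⟨r₂, hr₂m, hr₂⟩ := exists_isRefl (a := e - s⁻¹ • d) (Q := Q) (by rw [h2]; simp [hs])
  obtain ⟨σ, hσ⟩ : ∃ σ : oGroup Q, ⟨r₂, hr₂m⟩ * ⟨r₁, hr₁m⟩ = σ := ⟨_, rfl⟩
  have hσe : σ.1 e = s • e := by
    rw [← hσ]
    show r₂ (r₁ e) = _
    rw [hr₁.2, hr₂.2, h1, h2]
    simp only [b_sub_right, b_sub_left, b_smul_right, b_smul_left, p.ee, p.ed, p.de, p.dd]
    match_scalars <;> field_simp <;> ring
  have hσd : σ.1 d = s⁻¹ • d := by
    rw [← hσ]
    show r₂ (r₁ d) = _
    rw [hr₁.2, hr₂.2, h1, h2]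
    simp only [b_sub_right, b_sub_left, b_smul_right, b_smul_left, p.ee, p.ed, p.de, p.dd]
    match_scalars <;> field_simp <;> ring
  have hσy : ∀ y ∈ pperp Q e d, σ.1 y = y := fun y hy => by
    obtain ⟨he, hd⟩ := mem_pperp.1 hy
    rw [← hσ]
    show r₂ (r₁ y) = y
    rw [hr₁.fix (by rw [b_sub_right, b_comm y e, b_comm y d, he, hd, sub_zero]),
      hr₂.fix (by rw [b_sub_right, b_smul_right, b_comm y e, b_comm y d, he, hd]; ring)]
  have hm : σ * σ ∈ omg Q := by
    show σ * σ ∈ commutator _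
    rw [← hker, MonoidHom.mem_ker, map_mul, ← hσ, map_mul, hχ ⟨r₂, hr₂m⟩ _ hr₂, hχ ⟨r₁, hr₁m⟩ _ hr₁, show ∀ a b : SpinVal F, a * b * (a * b) = a * a * (b * b) from fun a b => mul_mul_mul_comm a b a b,
      reflVal_mul_self hr₂.1, reflVal_mul_self hr₁.1, one_mul]
  refine ⟨⟨σ * σ, hm⟩, ?_, ?_, fun y hy => ?_⟩
  · show σ.1 (σ.1 e) = _
    rw [hσe, map_smul, hσe, smul_smul]
  · show σ.1 (σ.1 d) = _
    rw [hσd, map_smul, hσd, smul_smul]
  · show σ.1 (σ.1 y) = _
    rw [hσy y hy, hσy y hy]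

/-- In an anisotropic plane some element of Omega moves every nonzero vector. -/
theorem exists_rot (hQ : (polarBilin Q).Nondegenerate) {R : Submodule F V} (hR2 : finrank F R = 2)
    (hR : ∀ a ∈ R, (∀ b ∈ R, polar Q a b = 0) → a = 0) (han : ∀ a ∈ R, Q a = 0 → a = 0) :
    ∃ h : omg Q, (∀ x ∈ perp Q R, app h x = x) ∧ (∀ x ∈ R, app h x ∈ R) ∧ ∀ x ∈ R, app h x = x → x = 0 := by
  obtain ⟨a, b, ha, hb, hab⟩ : ∃ a b, a ∈ R ∧ b ∈ R ∧ polar Q a b ≠ 0 ∧
      polar Q a b ^ 2 ≠ 4 * Q a * Q b ∧ a ∉ Submodule.span F {b} := by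
    obtain ⟨a, ha, ha0⟩ := R.ne_bot_iff.1 (fun h => by rw [h, finrank_bot] at hR2; omega)
    obtain ⟨b', hb'⟩ := exists_indep_of_two_le (F := F) (V := R) hR2.ge (v := ⟨a, ha⟩) (fun h => ha0 (congrArg Subtype.val h))
    have hB : ∃ b ∈ R, b ∉ Submodule.span F {a} ∧ polar Q a b ≠ 0 := by
      have hb'' : (b' : V) ∉ Submodule.span F {a} := fun h => by
        obtain ⟨t, ht⟩ := Submodule.mem_span_singleton.1 h
        exact hb' (Submodule.mem_span_singleton.2 ⟨t, Subtype.ext ht⟩)
      rcases ne_or_eq (polar Q a (b' : V)) 0 with h | h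
      · exact ⟨b', b'.2, hb'', h⟩
      refine ⟨b' + a, R.add_mem b'.2 ha, fun hm => hb'' ?_, ?_⟩
      · simpa using Submodule.sub_mem _ hm (Submodule.mem_span_singleton_self a)
      rw [b_add_right, h, zero_add]
      intro h2
      refine ha0 (hR a ha fun x hx => ?_)
      have hspan : Submodule.span F {a, (b' : V)} = R := by
        refine Submodule.eq_of_le_of_finrank_le (Submodule.span_le.2 (by simp [Set.insert_subset_iff, ha, b'.2])) ?_
        have hin : LinearIndependent F ![a, (b' : V)] :=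
          (LinearIndependent.pair_iff' ha0).2 fun t ht => hb'' (Submodule.mem_span_singleton.2 ⟨t, ht⟩)
        have h3 := finrank_span_eq_card hin
        rw [Matrix.range_cons, Matrix.range_cons, Matrix.range_empty, Set.union_empty, Set.singleton_union,
          Fintype.card_fin] at h3
        omega
      rw [← hspan] at hx
      obtain ⟨s, t, rfl⟩ := Submodule.mem_span_pair.1 hx
      rw [b_add_right, b_smul_right, b_smul_right, h2, h]; ring
    obtain ⟨b, hb, hba, hB⟩ := hB
    have hb0 : b ≠ 0 := fun h => hB (by rw [h, b_zero_right])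
    have hab' : a ∉ Submodule.span F {b} := fun h => by
      obtain ⟨t, ht⟩ := Submodule.mem_span_singleton.1 h
      exact hba (Submodule.mem_span_singleton.2 ⟨t⁻¹, by
        rw [← ht, smul_smul, inv_mul_cancel₀ (fun h0 => ha0 (by rw [← ht, h0, zero_smul])), one_smul]⟩)
    refine ⟨a, b, ha, hb, hB, fun hdet => ?_, hab'⟩
    -- the vector B a - 2 Q(a) b would be singular
    have hc : polar Q a b • a - (2 * Q a) • b = 0 := by
      refine han _ (R.sub_mem (R.smul_mem _ ha) (R.smul_mem _ hb)) ?_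
      rw [q_sub, q_smul, q_smul, b_smul_left, b_smul_right]
      linear_combination (-Q a) * hdet
    exact hab' (Submodule.mem_span_singleton.2 ⟨(polar Q a b)⁻¹ * (2 * Q a), by
      rw [mul_smul, ← sub_eq_zero.1 hc, smul_smul, inv_mul_cancel₀ hB, one_smul]⟩)
  obtain ⟨hB, hdet, hind⟩ := hab
  have hqa : Q a ≠ 0 := fun h => hB (by rw [han a ha h, b_zero_left])
  have hqb : Q b ≠ 0 := fun h => hB (by rw [han b hb h, b_zero_right])
  obtain ⟨ra, hram, hra⟩ := exists_isRefl hqa
  obtain ⟨rb, hrbm, hrb⟩ := exists_isRefl hqb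
  obtain ⟨h, hh⟩ : ∃ h : oGroup Q, ⁅(⟨ra, hram⟩ : oGroup Q), ⟨rb, hrbm⟩⁆ = h := ⟨_, rfl⟩
  have hm : h ∈ omg Q := hh ▸ Subgroup.commutator_mem_commutator (Subgroup.mem_top _) (Subgroup.mem_top _)
  have happ : ∀ x, h.1 x = ra (rb (ra (rb x))) := fun x => by
    have i1 : (⟨ra, hram⟩ : oGroup Q)⁻¹ = ⟨ra, hram⟩ := inv_eq_of_mul_eq_one_left (Subtype.ext hra.mul_self)
    have i2 : (⟨rb, hrbm⟩ : oGroup Q)⁻¹ = ⟨rb, hrbm⟩ := inv_eq_of_mul_eq_one_left (Subtype.ext hrb.mul_self)
    rw [← hh, commutatorElement_def, i1, i2]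
    rfl
  have ma : ∀ x ∈ R, ra x ∈ R := fun x hx => by rw [hra.2]; exact R.sub_mem hx (R.smul_mem _ ha)
  have mb : ∀ x ∈ R, rb x ∈ R := fun x hx => by rw [hrb.2]; exact R.sub_mem hx (R.smul_mem _ hb)
  refine ⟨⟨h, hm⟩, fun x hx => ?_, fun x hx => ?_, fun x hx hfix => ?_⟩
  · have h1 : polar Q x a = 0 := by rw [b_comm]; exact hx a ha
    have h2 : polar Q x b = 0 := by rw [b_comm]; exact hx b hb
    show h.1 x = x
    rw [happ, hrb.fix h2, hra.fix h1, hrb.fix h2, hra.fix h1]
  · show h.1 x ∈ R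
    rw [happ]
    exact ma _ (mb _ (ma _ (mb _ hx)))
  · have hsq : ∀ {r : V ≃ₗ[F] V} {v : V}, IsRefl r Q v → ∀ y, r (r y) = y := fun hr y => by
      rw [← LinearEquiv.mul_apply, hr.mul_self]; rfl
    have h1 : rb (ra (rb x)) = ra x := by
      have := congrArg ra (show h.1 x = x from hfix)
      rwa [happ, hsq hra] at this
    have h2 : ra (rb x) = rb (ra x) := by
      have := congrArg rb h1
      rwa [hsq hrb] at this
    rw [hra.2, hrb.2, hrb.2, hra.2] at h2
    simp only [b_sub_left, b_smul_left, b_comm b a] at h2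
    -- compare coefficients along a and b
    have key : (polar Q x b * polar Q a b / (Q a * Q b)) • a = (polar Q x a * polar Q a b / (Q a * Q b)) • b := by
      linear_combination (norm := (match_scalars <;> field_simp <;> ring)) h2
    have hxb : polar Q x b = 0 := by
      by_contra hxb
      have hcoef : polar Q x b * polar Q a b / (Q a * Q b) ≠ 0 :=
        div_ne_zero (mul_ne_zero hxb hB) (mul_ne_zero hqa hqb)
      exact hind (Submodule.mem_span_singleton.2 ⟨_, ((inv_smul_eq_iff₀ hcoef).2 key.symm).symm ▸ (smul_smul _ _ _).symm⟩)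
    have hxa : polar Q x a = 0 := by
      rw [hxb, zero_mul, zero_div, zero_smul] at key
      have hb0 : b ≠ 0 := fun h => hB (by rw [h, b_zero_right])
      have h3 := (smul_eq_zero.1 key.symm).resolve_right hb0
      exact (mul_eq_zero.1 ((div_eq_zero_iff.1 h3).resolve_right (mul_ne_zero hqa hqb))).resolve_right hB
    refine hR x hx fun y hy => ?_
    have hspan : Submodule.span F {a, b} = R := by
      refine Submodule.eq_of_le_of_finrank_le (Submodule.span_le.2 (by simp [Set.insert_subset_iff, ha, hb])) ?_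
      have hin : LinearIndependent F ![b, a] :=
        (LinearIndependent.pair_iff' fun h => hB (by rw [h, b_zero_right])).2 fun t ht =>
          hind (Submodule.mem_span_singleton.2 ⟨t, ht⟩)
      have h3 := finrank_span_eq_card hin
      rw [Matrix.range_cons, Matrix.range_cons, Matrix.range_empty, Set.union_empty, Set.singleton_union,
        Fintype.card_fin, Set.pair_comm] at h3
      omega
    rw [← hspan] at hy
    obtain ⟨s, t, rfl⟩ := Submodule.mem_span_pair.1 hy
    rw [b_add_right, b_smul_right, b_smul_right, hxa, hxb]; ring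

/-! ### The Omega of the orthogonal of a pair -/

omit [Fintype F] in
theorem app_pperp {e d : V} (g : oGroup Q) (he : g.1 e = e) (hd : g.1 d = d) {y : V} (hy : y ∈ pperp Q e d) :
    g.1 y ∈ pperp Q e d := by
  obtain ⟨h1, h2⟩ := mem_pperp.1 hy
  rw [mem_pperp]
  constructor
  · rw [← he, b_map g.2, h1]
  · rw [← hd, b_map g.2, h2]

/-- Extension by the identity on a pair. -/
noncomputable def extO {e d : V} (p : IsPair Q e d) : oGroup (restr Q (pperp Q e d)) →* oGroup Q where
  toFun g :=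
    ⟨((pairSplit p).trans ((LinearEquiv.refl F F).prodCongr ((LinearEquiv.refl F F).prodCongr g.1))).trans
      (pairSplit p).symm, fun x => by
      rw [← pairSplit_spec p, ← pairSplit_spec p x]
      simp only [LinearEquiv.trans_apply, LinearEquiv.apply_symm_apply, hyp_apply, LinearEquiv.prodCongr_apply,
        LinearEquiv.refl_apply, g.2 _]⟩
  map_one' := Subtype.ext (LinearEquiv.ext fun x => (pairSplit p).symm_apply_apply x)
  map_mul' a b := Subtype.ext (LinearEquiv.ext fun x => by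
    simp [LinearEquiv.mul_apply])

theorem extO_apply {e d : V} (p : IsPair Q e d) (g : oGroup (restr Q (pperp Q e d))) (x : V) :
    (extO p g).1 x = polar Q x d • e + polar Q x e • d
      + (g.1 ⟨x - polar Q x d • e - polar Q x e • d, pperp_part p x⟩ : V) := rfl

theorem extO_mem {e d : V} (p : IsPair Q e d) (g : omg (restr Q (pperp Q e d))) :
    extO p g.1 ∈ omg Q := by
  show extO p g.1 ∈ commutator _
  have h : (commutator (oGroup (restr Q (pperp Q e d)))).map (extO p) ≤ commutator (oGroup Q) := by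
    rw [commutator_def, commutator_def, Subgroup.map_commutator]
    exact Subgroup.commutator_mono le_top le_top
  exact h ⟨g.1, g.2, rfl⟩

/-- Omega of the orthogonal of a pair inside Omega. -/
noncomputable def extW {e d : V} (p : IsPair Q e d) : omg (restr Q (pperp Q e d)) →* omg Q :=
  ((extO p).comp (omg (restr Q (pperp Q e d))).subtype).codRestrict _ (extO_mem p)

theorem extW_apply {e d : V} (p : IsPair Q e d) (g : omg (restr Q (pperp Q e d))) (x : V) :
    app (extW p g) x = polar Q x d • e + polar Q x e • d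
      + ((app g (⟨x - polar Q x d • e - polar Q x e • d, pperp_part p x⟩ : pperp Q e d) : pperp Q e d) : V) := rfl

theorem extW_e {e d : V} (p : IsPair Q e d) (g : omg (restr Q (pperp Q e d))) : app (extW p g) e = e := by
  have h : (⟨e - polar Q e d • e - polar Q e e • d, pperp_part p e⟩ : pperp Q e d) = 0 :=
    Subtype.ext (by simp [p.ed, p.ee])
  rw [extW_apply, h, p.ed, p.ee]
  simp [app]

theorem extW_d {e d : V} (p : IsPair Q e d) (g : omg (restr Q (pperp Q e d))) : app (extW p g) d = d := by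
  have h : (⟨d - polar Q d d • e - polar Q d e • d, pperp_part p d⟩ : pperp Q e d) = 0 :=
    Subtype.ext (by simp [p.de, p.dd])
  rw [extW_apply, h, p.de, p.dd]
  simp [app]

theorem extW_tr (hG : Good Q) {e d : V} (p : IsPair Q e d) (hGY : Good (restr Q (pperp Q e d)))
    {u y : pperp Q e d} (hu : Q (u : V) = 0) (hy : polar Q (u : V) (y : V) = 0) :
    extW p (tr (restr Q (pperp Q e d)) u y) = tr Q (u : V) (y : V) := by
  refine omg_ext fun x => ?_
  obtain ⟨hue, hud⟩ := mem_pperp.1 u.2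
  obtain ⟨hye, hyd⟩ := mem_pperp.1 y.2
  have h1 : polar Q (x - polar Q x d • e - polar Q x e • d) (u : V) = polar Q x (u : V) := by
    rw [b_sub_left, b_sub_left, b_smul_left, b_smul_left, hue, hud]; ring
  have h2 : polar Q (x - polar Q x d • e - polar Q x e • d) (y : V) = polar Q x (y : V) := by
    rw [b_sub_left, b_sub_left, b_smul_left, b_smul_left, hye, hyd]; ring
  rw [extW_apply, tr_apply hGY hu hy, tr_apply hG hu hy]
  simp only [polar_restr, restr_apply, Submodule.coe_sub, Submodule.coe_add, Submodule.coe_smul, h1, h2]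
  module

end Cfsg.Agent.OrthDeg
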