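/-
Unitary representations of finite groups: fixed spaces, eigenspaces of abelian groups, projections.
-/
import Mathlib.Analysis.InnerProductSpace.Projection.FiniteDimensional
import Mathlib.Analysis.InnerProductSpace.PiL2
import Mathlib.LinearAlgebra.Trace
import Mathlib.RepresentationTheory.Irreducible
import Mathlib.Algebra.Group.AddChar

set_option autoImplicit false

namespace Cfsg.Agent.OrthDeg

open Module
open scoped ComplexConjugate InnerProductSpace

variable {G : Type*} [Group G] {W : Type*} [NormedAddCommGroup W] [InnerProductSpace ℂ W]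

/-- A representation preserving the inner product. -/
def IsUnitary (ρ : G →* (W →ₗ[ℂ] W)) : Prop := ∀ g x y, ⟪ρ g x, ρ g y⟫_ℂ = ⟪x, y⟫_ℂ

variable {ρ : G →* (W →ₗ[ℂ] W)}

theorem rho_mul (g h : G) (x : W) : ρ (g * h) x = ρ g (ρ h x) := by rw [map_mul]; rfl

theorem rho_one (x : W) : ρ 1 x = x := by rw [map_one]; rfl

theorem rho_inv_apply (g : G) (x : W) : ρ g⁻¹ (ρ g x) = x := by rw [← rho_mul, inv_mul_cancel, rho_one]

theorem rho_apply_inv (g : G) (x : W) : ρ g (ρ g⁻¹ x) = x := by rw [← rho_mul, mul_inv_cancel, rho_one]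

theorem rho_inj (g : G) : Function.Injective (ρ g) := fun x y h => by
  rw [← rho_inv_apply (ρ := ρ) g x, h, rho_inv_apply]

theorem rho_conj (g t : G) (x : W) : ρ (g * t * g⁻¹) (ρ g x) = ρ g (ρ t x) := by
  rw [rho_mul, rho_mul, rho_inv_apply]

theorem IsUnitary.norm_eq (hu : IsUnitary ρ) (g : G) (x : W) : ‖ρ g x‖ = ‖x‖ := by
  rw [@norm_eq_sqrt_re_inner ℂ, @norm_eq_sqrt_re_inner ℂ, hu]

theorem IsUnitary.inner_right (hu : IsUnitary ρ) (g : G) (x y : W) : ⟪x, ρ g y⟫_ℂ = ⟪ρ g⁻¹ x, y⟫_ℂ := by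
  rw [← hu g⁻¹ x (ρ g y), rho_inv_apply]

theorem IsUnitary.restrict (hu : IsUnitary ρ) {H : Type*} [Group H] (φ : H →* G) : IsUnitary (ρ.comp φ) :=
  fun h x y => hu (φ h) x y

/-- The vectors fixed by a set of elements. -/
def fixS (ρ : G →* (W →ₗ[ℂ] W)) (S : Set G) : Submodule ℂ W where
  carrier := {x | ∀ s ∈ S, ρ s x = x}
  add_mem' {x y} hx hy s hs := by rw [map_add, hx s hs, hy s hs]
  zero_mem' s _ := map_zero _
  smul_mem' c x hx s hs := by rw [map_smul, hx s hs]

theorem mem_fixS {S : Set G} {x : W} : x ∈ fixS ρ S ↔ ∀ s ∈ S, ρ s x = x := Iff.rfl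

theorem fix_mul {a b : G} {x : W} (ha : ρ a x = x) (hb : ρ b x = x) : ρ (a * b) x = x := by
  rw [rho_mul, hb, ha]

theorem fix_inv {a : G} {x : W} (ha : ρ a x = x) : ρ a⁻¹ x = x := by
  conv_lhs => rw [← ha]
  rw [rho_inv_apply]

/-- The subgroup fixing a vector. -/
def stabOf (ρ : G →* (W →ₗ[ℂ] W)) (x : W) : Subgroup G where
  carrier := {a | ρ a x = x}
  one_mem' := rho_one x
  mul_mem' := fix_mul
  inv_mem' := fix_inv

/-- An irreducible representation of degree at least two is nontrivial. -/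
theorem exists_ne_of_irreducible {k : ℕ} (σ : Representation ℂ G (Fin k → ℂ)) (h : σ.IsIrreducible)
    (hk : 2 ≤ k) : ∃ g x, σ g x ≠ x := by
  by_contra hall
  push Not at hall
  obtain ⟨v, hv⟩ : ∃ v : Fin k → ℂ, v ≠ 0 := ⟨fun _ => 1, fun h => one_ne_zero (congrFun h ⟨0, by omega⟩)⟩
  haveI : IsSimpleOrder (Subrepresentation σ) := h
  rcases eq_bot_or_eq_top (⟨Submodule.span ℂ {v}, fun g x hx => by rwa [hall]⟩ : Subrepresentation σ) with h1 | h1
  · exact hv (Submodule.span_singleton_eq_bot.1 (congrArg Subrepresentation.toSubmodule h1))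
  · have h2 := congrArg (fun p : Subrepresentation σ => Module.finrank ℂ p.toSubmodule) h1
    rw [show (⊤ : Subrepresentation σ).toSubmodule = ⊤ from rfl] at h2
    simp only [finrank_top, Module.finrank_fin_fun, finrank_span_singleton hv] at h2
    omega

/-- The space with an averaged inner product. -/
theorem exists_unitary [Finite G] {k : ℕ} (σ : Representation ℂ G (Fin k → ℂ)) :
    ∃ (W : Type) (_ : NormedAddCommGroup W) (_ : InnerProductSpace ℂ W) (τ : G →* (W →ₗ[ℂ] W))
      (e : W ≃ₗ[ℂ] (Fin k → ℂ)), IsUnitary τ ∧ ∀ g x, e (τ g x) = σ g (e x) := by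
  classical
  haveI := Fintype.ofFinite G
  let A := EuclideanSpace ℂ (Fin k)
  let L : (Fin k → ℂ) →ₗ[ℂ] PiLp 2 (fun _ : G => A) :=
    { toFun := fun x => WithLp.toLp 2 fun g => WithLp.toLp 2 (σ g x)
      map_add' := fun x y => by ext g i; simp [A]
      map_smul' := fun c x => by ext g i; simp [A] }
  have hL : Function.Injective L := fun x y h => by
    have h1 := congrArg (fun v : PiLp 2 (fun _ : G => A) => WithLp.ofLp (v 1)) h
    simpa [L] using h1
  let e₀ := LinearEquiv.ofInjective L hL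
  let I := (stdOrthonormalBasis ℂ (LinearMap.range L)).repr
  let e : EuclideanSpace ℂ (Fin (finrank ℂ (LinearMap.range L))) ≃ₗ[ℂ] (Fin k → ℂ) :=
    I.toLinearEquiv.symm.trans e₀.symm
  refine ⟨_, inferInstance, inferInstance,
    { toFun := fun g => e.symm.toLinearMap ∘ₗ σ g ∘ₗ e.toLinearMap
      map_one' := LinearMap.ext fun x => by simp
      map_mul' := fun a b => LinearMap.ext fun x => by simp },
    e, fun g x y => ?_, fun g x => e.apply_symm_apply _⟩
  have hin : ∀ x y, ⟪x, y⟫_ℂ = ⟪L (e x), L (e y)⟫_ℂ := fun x y => by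
    rw [← I.symm.inner_map_map x y, Submodule.coe_inner]
    have hx : ∀ z, ((I.symm z : LinearMap.range L) : PiLp 2 (fun _ : G => A)) = L (e z) := fun z =>
      (congrArg Subtype.val (e₀.apply_symm_apply (I.symm z))).symm.trans rfl
    rw [hx, hx]
  show ⟪e.symm (σ g (e x)), e.symm (σ g (e y))⟫_ℂ = ⟪x, y⟫_ℂ
  rw [hin x y, hin (e.symm _) (e.symm _), e.apply_symm_apply, e.apply_symm_apply]
  simp only [PiLp.inner_apply]
  refine Fintype.sum_equiv (Equiv.mulRight g) _ _ fun a => ?_
  simp [L, map_mul]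

variable [FiniteDimensional ℂ W]

theorem IsUnitary.perp_invariant (hu : IsUnitary ρ) {K : Submodule ℂ W} {g : G}
    (hK : ∀ x ∈ K, ρ g⁻¹ x ∈ K) {x : W} (hx : x ∈ Kᗮ) : ρ g x ∈ Kᗮ := fun y hy => by
  rw [hu.inner_right]
  exact hx _ (hK y hy)

/-- Projections are transported by the group. -/
theorem IsUnitary.proj_map (hu : IsUnitary ρ) {K K' : Submodule ℂ W} {g : G}
    (h : ∀ x, ρ g x ∈ K' ↔ x ∈ K) (x : W) : K'.starProjection (ρ g x) = ρ g (K.starProjection x) := by
  refine Submodule.eq_starProjection_of_mem_of_inner_eq_zero ((h _).2 (K.starProjection_apply_mem x))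
    fun y hy => ?_
  rw [← rho_apply_inv (ρ := ρ) g y, ← map_sub, hu, Submodule.starProjection_inner_eq_zero]
  exact (h _).1 (by rwa [rho_apply_inv])

/-- A space fixed pointwise absorbs the element. -/
theorem IsUnitary.proj_absorb (hu : IsUnitary ρ) {K : Submodule ℂ W} {g : G}
    (h : ∀ y ∈ K, ρ g y = y) (x : W) : K.starProjection (ρ g x) = K.starProjection x := by
  refine Submodule.eq_starProjection_of_mem_of_inner_eq_zero (K.starProjection_apply_mem x) fun y hy => ?_
  have h1 : ⟪ρ g x, y⟫_ℂ = ⟪x, y⟫_ℂ := by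
    conv_lhs => rw [← h y hy]
    exact hu g x y
  rw [inner_sub_left, h1, ← inner_sub_left, Submodule.starProjection_inner_eq_zero x y hy]

theorem IsUnitary.proj_eq_zero_of_smul (hu : IsUnitary ρ) {K : Submodule ℂ W} {g : G}
    (h : ∀ y ∈ K, ρ g y = y) {x : W} {c : ℂ} (hx : ρ g x = c • x) (hc : c ≠ 1) :
    K.starProjection x = 0 := by
  have h1 := hu.proj_absorb h x
  rw [hx, map_smul, ← sub_eq_zero] at h1
  rw [show c • K.starProjection x - K.starProjection x = (c - 1) • K.starProjection x by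
    rw [sub_smul, one_smul]] at h1
  exact (smul_eq_zero.1 h1).resolve_left (sub_ne_zero.2 hc)

omit [FiniteDimensional ℂ W] in
theorem proj_comp_le {K K' : Submodule ℂ W} [K.HasOrthogonalProjection] [K'.HasOrthogonalProjection]
    (h : K ≤ K') (x : W) : K.starProjection (K'.starProjection x) = K.starProjection x :=
  DFunLike.congr_fun (Submodule.starProjection_comp_starProjection_of_le h) x

theorem norm_proj_le {K K' : Submodule ℂ W} (h : K ≤ K') (x : W) :
    ‖K.starProjection x‖ ≤ ‖K'.starProjection x‖ := by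
  rw [← proj_comp_le h]
  exact K.norm_starProjection_apply_le _

/-- The average over a finite set closed under the group law projects onto the fixed space. -/
theorem IsUnitary.proj_fixS_eq_avg (hu : IsUnitary ρ) (A : Subgroup G) [Fintype A] (x : W) :
    (fixS ρ (A : Set G)).starProjection x = (Fintype.card A : ℂ)⁻¹ • ∑ a : A, ρ a x := by
  refine Submodule.eq_starProjection_of_mem_of_inner_eq_zero (fun b hb => ?_) fun y hy => ?_
  · rw [map_smul, map_sum]
    congr 1
    exact Fintype.sum_equiv (Equiv.mulLeft ⟨b, hb⟩) _ _ fun a => by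
      rw [← rho_mul]; rfl
  · have h1 : ∀ a : A, ⟪ρ a x, y⟫_ℂ = ⟪x, y⟫_ℂ := fun a => by
      conv_lhs => rw [← hy a a.2]
      exact hu _ x y
    rw [inner_sub_left, inner_smul_left, sum_inner, Finset.sum_congr rfl fun a _ => h1 a, Finset.sum_const,
      Finset.card_univ, nsmul_eq_mul, map_inv₀, map_natCast, ← mul_assoc,
      inv_mul_cancel₀ (Nat.cast_ne_zero.2 Fintype.card_ne_zero), one_mul, sub_self]

/-- A subspace stable under a subgroup contains the projections of its vectors to the fixed space. -/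
theorem IsUnitary.proj_fixS_mem (hu : IsUnitary ρ) (A : Subgroup G) [Fintype A] {K : Submodule ℂ W}
    (hK : ∀ a ∈ A, ∀ y ∈ K, ρ a y ∈ K) {x : W} (hx : x ∈ K) : (fixS ρ (A : Set G)).starProjection x ∈ K := by
  rw [hu.proj_fixS_eq_avg A]
  exact K.smul_mem _ (K.sum_mem fun a _ => hK a a.2 x hx)

omit [FiniteDimensional ℂ W] in
theorem isProj_starProjection (K : Submodule ℂ W) [K.HasOrthogonalProjection] :
    LinearMap.IsProj K (K.starProjection : W →ₗ[ℂ] W) :=
  ⟨fun x => K.starProjection_apply_mem x, fun _ hx => Submodule.starProjection_eq_self_iff.2 hx⟩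

theorem trace_proj (K : Submodule ℂ W) :
    LinearMap.trace ℂ W (K.starProjection : W →ₗ[ℂ] W) = (finrank ℂ K : ℂ) :=
  (isProj_starProjection K).trace

/-- An operator equal to the sum of projections on a subspace, seen in its dimension. -/
theorem finrank_of_sum_proj {ι : Type*} [Fintype ι] (E : ι → Submodule ℂ W) (K : Submodule ℂ W)
    (hle : ∀ i, E i ≤ K) (h : ∀ x ∈ K, ∑ i, (E i).starProjection x = x) :
    finrank ℂ K = ∑ i, finrank ℂ (E i) := by
  have hmap : (K.starProjection : W →ₗ[ℂ] W) = ∑ i, ((E i).starProjection : W →ₗ[ℂ] W) := by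
    refine LinearMap.ext fun x => ?_
    rw [LinearMap.sum_apply]
    show K.starProjection x = ∑ i, (E i).starProjection x
    rw [← h _ (K.starProjection_apply_mem x)]
    exact Finset.sum_congr rfl fun i _ => proj_comp_le (hle i) x
  have ht := congrArg (LinearMap.trace ℂ W) hmap
  rw [map_sum, trace_proj, Finset.sum_congr rfl fun i _ => trace_proj (E i), ← Nat.cast_sum] at ht
  exact_mod_cast ht

/-- Bessel's inequality against a subspace. -/
theorem sum_norm_proj_le {ι : Type*} [Fintype ι] {x : ι → W} (hx : Orthonormal ℂ x) (N : Submodule ℂ W) :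
    ∑ i, ‖N.starProjection (x i)‖ ^ 2 ≤ finrank ℂ N := by
  let b := stdOrthonormalBasis ℂ N
  have hb : Orthonormal ℂ fun j => (b j : W) := b.orthonormal.comp_linearIsometry N.subtypeₗᵢ
  have h1 : ∀ i, ‖N.starProjection (x i)‖ ^ 2 = ∑ j, ‖⟪(b j : W), x i⟫_ℂ‖ ^ 2 := fun i => by
    have h2 := b.sum_sq_norm_inner_right (N.orthogonalProjectionOnto (x i))
    rw [show ‖N.starProjection (x i)‖ = ‖N.orthogonalProjectionOnto (x i)‖ from rfl, ← h2]
    refine Finset.sum_congr rfl fun j _ => ?_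
    congr 2
    show ⟪(b j : W), N.starProjection (x i)⟫_ℂ = _
    rw [← Submodule.inner_starProjection_left_eq_right, Submodule.starProjection_eq_self_iff.2 (b j).2]
  simp only [h1]
  rw [Finset.sum_comm]
  calc ∑ j, ∑ i, ‖⟪(b j : W), x i⟫_ℂ‖ ^ 2 ≤ ∑ _j : Fin (finrank ℂ N), (1 : ℝ) := by
        refine Finset.sum_le_sum fun j _ => ?_
        have h3 := hx.sum_inner_products_le (b j : W) (s := Finset.univ)
        rw [hb.1 j, one_pow] at h3
        refine le_trans (le_of_eq (Finset.sum_congr rfl fun i _ => ?_)) h3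
        rw [norm_inner_symm]
    _ = _ := by simp

/-! ### Characters of an abelian group of operators -/

section Abelian

variable {A : Type*} [AddCommGroup A]

/-- The eigenspace in K of a character. -/
def eigS (ρ : G →* (W →ₗ[ℂ] W)) (t : A → G) (K : Submodule ℂ W) (χ : A → ℂ) : Submodule ℂ W where
  carrier := {x | x ∈ K ∧ ∀ a, ρ (t a) x = χ a • x}
  add_mem' {x y} hx hy := ⟨K.add_mem hx.1 hy.1, fun a => by rw [map_add, hx.2, hy.2, smul_add]⟩
  zero_mem' := ⟨K.zero_mem, fun a => by rw [map_zero, smul_zero]⟩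
  smul_mem' c x hx := ⟨K.smul_mem c hx.1, fun a => by rw [map_smul, hx.2, smul_comm]⟩

omit [FiniteDimensional ℂ W] in
theorem mem_eigS {t : A → G} {K : Submodule ℂ W} {χ : A → ℂ} {x : W} :
    x ∈ eigS ρ t K χ ↔ x ∈ K ∧ ∀ a, ρ (t a) x = χ a • x := Iff.rfl

/-- The characters are orthogonal and complete. -/
structure CharFam [Fintype A] [DecidableEq A] (χ : A → A → ℂ) : Prop where
  mul : ∀ w a b, χ w (a + b) = χ w a * χ w b
  zero : ∀ w, χ w 0 = 1
  norm : ∀ w a, conj (χ w a) = χ w (-a)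
  sum : ∀ a, ∑ w, χ w a = if a = 0 then (Fintype.card A : ℂ) else 0
  sep : ∀ w w', w ≠ w' → ∃ a, χ w a ≠ χ w' a

theorem IsUnitary.eig_orth [Fintype A] [DecidableEq A] (hu : IsUnitary ρ) {t : A → G} {χ : A → A → ℂ}
    (hχ : CharFam χ) {K K' : Submodule ℂ W} {w w' : A} (h : w ≠ w') {x y : W}
    (hx : x ∈ eigS ρ t K (χ w)) (hy : y ∈ eigS ρ t K' (χ w')) : ⟪x, y⟫_ℂ = 0 := by
  obtain ⟨a, ha⟩ := hχ.sep w w' h
  have h1 := hu (t a) x y
  rw [hx.2, hy.2, inner_smul_left, inner_smul_right, hχ.norm, ← mul_assoc] at h1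
  by_contra h0
  have h2 : χ w (-a) * χ w' a = 1 := mul_right_cancel₀ h0 (by rw [h1, one_mul])
  apply ha
  have h3 : χ w (-a) * χ w a = 1 := by rw [← hχ.mul, neg_add_cancel, hχ.zero]
  calc χ w a = (χ w (-a) * χ w' a) * χ w a := by rw [h2, one_mul]
    _ = χ w' a * (χ w (-a) * χ w a) := by ring
    _ = χ w' a := by rw [h3, mul_one]

theorem IsUnitary.eig_decomp [Fintype A] [DecidableEq A] (hu : IsUnitary ρ) {t : A → G}
    {χ : A → A → ℂ} (hχ : CharFam χ) (ht : ∀ a b, t (a + b) = t a * t b) (ht0 : t 0 = 1)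
    {K : Submodule ℂ W} (hK : ∀ a, ∀ x ∈ K, ρ (t a) x ∈ K) :
    (∀ x ∈ K, ∑ w, (eigS ρ t K (χ w)).starProjection x = x) ∧
      finrank ℂ K = ∑ w, finrank ℂ (eigS ρ t K (χ w)) := by
  have key : ∀ x ∈ K, ∑ w, (eigS ρ t K (χ w)).starProjection x = x := by
    intro x hx
    have hA : (Fintype.card A : ℂ) ≠ 0 := Nat.cast_ne_zero.2 Fintype.card_ne_zero
    let c : A → W := fun w => (Fintype.card A : ℂ)⁻¹ • ∑ a, χ w (-a) • ρ (t a) x
    have hc : ∀ w, c w ∈ eigS ρ t K (χ w) := fun w => by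
      refine ⟨K.smul_mem _ (K.sum_mem fun a _ => K.smul_mem _ (hK a x hx)), fun b => ?_⟩
      simp only [c, map_smul, map_sum, Finset.smul_sum, smul_smul, ← rho_mul, ← ht]
      refine Fintype.sum_equiv (Equiv.addLeft b) _ _ fun a => ?_
      simp only [Equiv.coe_addLeft]
      congr 1
      have h1 : χ w (-a) = χ w b * χ w (-(b + a)) := by rw [← hχ.mul]; congr 1; abel
      rw [h1]
      ring
    have hsum : ∑ w, c w = x := by
      simp only [c, ← Finset.smul_sum]
      rw [Finset.sum_comm, Finset.sum_eq_single 0]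
      · rw [← Finset.sum_smul, hχ.sum, neg_zero, if_pos rfl, ht0, rho_one, smul_smul, inv_mul_cancel₀ hA,
          one_smul]
      · intro a _ ha
        rw [← Finset.sum_smul, hχ.sum, if_neg (neg_ne_zero.2 ha), zero_smul]
      · exact fun h => absurd (Finset.mem_univ _) h
    have hproj : ∀ w, (eigS ρ t K (χ w)).starProjection x = c w := fun w => by
      refine Submodule.eq_starProjection_of_mem_of_inner_eq_zero (hc w) fun y hy => ?_
      conv_lhs => rw [← hsum]
      rw [inner_sub_left, sum_inner, Finset.sum_eq_single w, sub_self]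
      · exact fun w' _ hne => hu.eig_orth hχ hne (hc w') hy
      · exact fun h => absurd (Finset.mem_univ _) h
    simp only [hproj, hsum]
  exact ⟨key, finrank_of_sum_proj _ K (fun w x hx => hx.1) key⟩

end Abelian

end Cfsg.Agent.OrthDeg
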