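/-
Eigenspaces of the unipotent radical at a singular point.
-/
import Cfsg.Agent.Lib.OrthDeg.Unitary
import Cfsg.Agent.Lib.OrthDeg.Geometry
import Mathlib.Analysis.Normed.Field.Basic
import Mathlib.NumberTheory.LegendreSymbol.AddCharacter

set_option autoImplicit false

namespace Cfsg.Agent.OrthDeg

open QuadraticMap Module Cfsg.Agent.Orth Cfsg.Agent.TwoGenOrth
open scoped ComplexConjugate InnerProductSpace

variable {F V : Type*} [Field F] [Fintype F] [AddCommGroup V] [Module F V] [FiniteDimensional F V]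
  {Q : QuadraticForm F V} {W : Type*} [NormedAddCommGroup W] [InnerProductSpace ℂ W] [FiniteDimensional ℂ W]
  {ρ : omg Q →* (W →ₗ[ℂ] W)} {ψ : AddChar F ℂ}

/-- Standing hypotheses. -/
structure Ctx (Q : QuadraticForm F V) (ρ : omg Q →* (W →ₗ[ℂ] W)) (ψ : AddChar F ℂ) : Prop where
  good : Good Q
  dim7 : 7 ≤ finrank F V
  unit : IsUnitary ρ
  psi : ψ ≠ 1

theorem exists_psi (F : Type*) [Field F] [Fintype F] : ∃ ψ : AddChar F ℂ, ψ ≠ 1 := by
  classical
  obtain ⟨ψ, hψ⟩ := (AddChar.exists_apply_ne_zero (α := F)).2 one_ne_zero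
  exact ⟨ψ, fun h => hψ (by rw [h, AddChar.one_apply])⟩

theorem psi_eq_zero (hψ : ψ ≠ 1) {a : F} (h : ∀ t, ψ (a * t) = 1) : a = 0 := by
  by_contra ha
  obtain ⟨s, hs⟩ := AddChar.ne_one_iff.1 hψ
  exact hs (by rw [← h (a⁻¹ * s), mul_inv_cancel_left₀ ha])

theorem psi_conj (x : F) : conj (ψ x) = ψ (-x) := by
  classical
  rw [AddChar.map_neg_eq_conj]

/-- The eigenspace of a character of the radical at e. -/
def E (Q : QuadraticForm F V) (ρ : omg Q →* (W →ₗ[ℂ] W)) (ψ : AddChar F ℂ) (e w : V) : Submodule ℂ W where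
  carrier := {x | ∀ y, polar Q e y = 0 → ρ (tr Q e y) x = ψ (polar Q w y) • x}
  add_mem' {x x'} hx hx' y hy := by rw [map_add, hx y hy, hx' y hy, smul_add]
  zero_mem' y _ := by rw [map_zero, smul_zero]
  smul_mem' c x hx y hy := by rw [map_smul, hx y hy, smul_comm]

theorem mem_E {e w : V} {x : W} :
    x ∈ E Q ρ ψ e w ↔ ∀ y, polar Q e y = 0 → ρ (tr Q e y) x = ψ (polar Q w y) • x := Iff.rfl

/-- The fixed space of the radical. -/
abbrev Fx (Q : QuadraticForm F V) (ρ : omg Q →* (W →ₗ[ℂ] W)) (ψ : AddChar F ℂ) (e : V) : Submodule ℂ W :=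
  E Q ρ ψ e 0

theorem mem_Fx {e : V} {x : W} : x ∈ Fx Q ρ ψ e ↔ ∀ y, polar Q e y = 0 → ρ (tr Q e y) x = x := by
  simp only [mem_E, b_zero_left, AddChar.map_zero_eq_one, one_smul]

theorem E_congr {e w w' : V} (h : w - w' ∈ Submodule.span F {e}) : E Q ρ ψ e w = E Q ρ ψ e w' := by
  obtain ⟨t, ht⟩ := Submodule.mem_span_singleton.1 h
  have hw : ∀ y, polar Q e y = 0 → polar Q w y = polar Q w' y := fun y hy => by
    rw [← sub_eq_zero, ← b_sub_left, ← ht, b_smul_left, hy, mul_zero]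
  ext x
  simp only [mem_E]
  exact ⟨fun hx y hy => by rw [← hw y hy]; exact hx y hy, fun hx y hy => by rw [hw y hy]; exact hx y hy⟩

namespace Ctx

variable (C : Ctx Q ρ ψ)

include C

theorem E_map {e w : V} (he : Q e = 0) (g : omg Q) {x : W} :
    ρ g x ∈ E Q ρ ψ (app g e) (app g w) ↔ x ∈ E Q ρ ψ e w := by
  simp only [mem_E]
  constructor
  · intro h y hy
    have h1 := h (app g y) (by rw [b_app, hy])
    rw [← tr_conj C.good g he hy, rho_conj, b_app, ← map_smul] at h1
    exact rho_inj g h1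
  · intro h y hy
    have hy' : polar Q e (app g⁻¹ y) = 0 := by rw [← b_app g, app_app_inv, hy]
    have h2 := rho_conj (ρ := ρ) g (tr Q e (app g⁻¹ y)) x
    rw [tr_conj C.good g he hy', app_app_inv, h _ hy', map_smul] at h2
    rw [h2, ← b_app g w, app_app_inv]

theorem Fx_map {e : V} (he : Q e = 0) (g : omg Q) {x : W} :
    ρ g x ∈ Fx Q ρ ψ (app g e) ↔ x ∈ Fx Q ρ ψ e := by
  have h := C.E_map (w := 0) he g (x := x)
  rwa [show app g (0 : V) = 0 from map_zero _] at h

theorem E_scale {e w : V} (he : Q e = 0) {c : F} (hc : c ≠ 0) :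
    E Q ρ ψ (c • e) (c • w) = E Q ρ ψ e w := by
  ext x
  simp only [mem_E, b_smul_left]
  constructor
  · intro h y hy
    have h1 := h (c⁻¹ • y) (by rw [b_smul_right, hy]; ring)
    rwa [tr_scale C.good c he (by rw [b_smul_right, hy, mul_zero]), smul_smul, mul_inv_cancel₀ hc, one_smul,
      b_smul_right, mul_inv_cancel_left₀ hc] at h1
  · intro h y hy
    have hy' := (mul_eq_zero.1 hy).resolve_left hc
    rw [tr_scale C.good c he hy', h _ (by rw [b_smul_right, hy', mul_zero]), b_smul_right]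

theorem Fx_scale {e : V} (he : Q e = 0) {c : F} (hc : c ≠ 0) : Fx Q ρ ψ (c • e) = Fx Q ρ ψ e := by
  have h := C.E_scale (w := 0) he hc
  rwa [smul_zero] at h

/-- A root element that fixes e and w mod e preserves the eigenspace. -/
theorem E_stable {e w : V} (he : Q e = 0) {g : omg Q} (hge : app g e = e)
    (hgw : app g w - w ∈ Submodule.span F {e}) {x : W} (hx : x ∈ E Q ρ ψ e w) : ρ g x ∈ E Q ρ ψ e w := by
  have h := (C.E_map he g).2 hx
  rwa [hge, E_congr hgw] at h

/-! ### The abelian group at a pair -/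

theorem charFam {e d : V} (p : IsPair Q e d) [Fintype (pperp Q e d)] [DecidableEq (pperp Q e d)] :
    CharFam (fun w a : pperp Q e d => ψ (polar Q (w : V) (a : V))) where
  mul w a b := by rw [Submodule.coe_add, b_add_right, AddChar.map_add_eq_mul]
  zero w := by rw [Submodule.coe_zero, b_zero_right, AddChar.map_zero_eq_one]
  norm w a := by
    rw [psi_conj, Submodule.coe_neg, ← neg_one_smul F (a : V), b_smul_right, neg_one_mul]
  sum a := by
    have hnd := pperp_nondeg C.good.nd p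
    split_ifs with ha
    · subst ha
      simp [b_zero_right]
    · let χ : AddChar (pperp Q e d) ℂ :=
        { toFun := fun w => ψ (polar Q (w : V) (a : V))
          map_zero_eq_one' := by simp [b_zero_left]
          map_add_eq_mul' := fun w w' => by simp [b_add_left, AddChar.map_add_eq_mul] }
      refine AddChar.sum_eq_zero_of_ne_one (ψ := χ) fun h => ha (eq_zero_of_b hnd fun w => ?_)
      refine psi_eq_zero C.psi fun t => ?_
      have h1 := DFunLike.congr_fun h (t • w)
      rw [AddChar.one_apply] at h1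
      rw [← h1]
      show _ = ψ (polar Q ((t • w : pperp Q e d) : V) (a : V))
      rw [Submodule.coe_smul, b_smul_left, polar_restr, b_comm (a : V), mul_comm]
  sep w w' hne := by
    have hnd := pperp_nondeg C.good.nd p
    by_contra! hall
    refine hne (sub_eq_zero.1 (eq_zero_of_b hnd fun a => psi_eq_zero C.psi fun t => ?_))
    have h1 := hall (t • a)
    rw [polar_restr, Submodule.coe_sub, b_sub_left, sub_mul, AddChar.map_sub_eq_div]
    simp only [Submodule.coe_smul, b_smul_right, mul_comm t] at h1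
    rw [h1, div_self]
    exact AddChar.val_isUnit ψ _ |>.ne_zero

theorem tr_add_pperp {e d : V} (p : IsPair Q e d) (a b : pperp Q e d) :
    tr Q e ((a + b : pperp Q e d) : V) = tr Q e (a : V) * tr Q e (b : V) :=
  tr_add C.good p.qe (mem_pperp.1 a.2).1 (mem_pperp.1 b.2).1

theorem E_eq_eigS {e d : V} (p : IsPair Q e d) (w : pperp Q e d) :
    E Q ρ ψ e (w : V) =
      eigS ρ (fun a : pperp Q e d => tr Q e (a : V)) ⊤ (fun a => ψ (polar Q (w : V) (a : V))) := by
  ext x
  simp only [mem_eigS, Submodule.mem_top, true_and, mem_E]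
  refine ⟨fun h a => h a (mem_pperp.1 a.2).1, fun h y hy => ?_⟩
  have hy' : y - polar Q y d • e ∈ pperp Q e d := by
    have h1 := pperp_part p y
    rwa [b_comm y e, hy, zero_smul, sub_zero] at h1
  obtain ⟨he1, -⟩ := mem_pperp.1 hy'
  have hyd : polar Q e (polar Q y d • e) = 0 := by rw [b_smul_right, p.ee, mul_zero]
  have h1 := h ⟨_, hy'⟩
  simp only [b_sub_right, b_smul_right, b_comm (w : V) e, (mem_pperp.1 w.2).1, mul_zero, sub_zero] at h1
  conv_lhs => rw [show y = (y - polar Q y d • e) + polar Q y d • e by abel, tr_add C.good p.qe he1 hyd,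
    tr_self C.good p.qe, mul_one]
  exact h1

theorem decomp_top {e d : V} (p : IsPair Q e d) [Fintype (pperp Q e d)] :
    (∀ x, ∑ w : pperp Q e d, (E Q ρ ψ e (w : V)).starProjection x = x) ∧
      finrank ℂ W = ∑ w : pperp Q e d, finrank ℂ (E Q ρ ψ e (w : V)) := by
  classical
  obtain ⟨h1, h2⟩ := C.unit.eig_decomp (t := fun a : pperp Q e d => tr Q e (a : V)) (C.charFam p) (C.tr_add_pperp p)
    (tr_zero C.good p.qe)
    (K := (⊤ : Submodule ℂ W)) (fun _ _ _ => Submodule.mem_top)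
  rw [finrank_top] at h2
  refine ⟨fun x => ?_, h2.trans (Finset.sum_congr rfl fun w _ => by rw [C.E_eq_eigS p w])⟩
  conv_rhs => rw [← h1 x Submodule.mem_top]
  exact Finset.sum_congr rfl fun w _ => by simp only [C.E_eq_eigS p w]

theorem E_orth {e d : V} (p : IsPair Q e d) {w w' : V} (hw : w ∈ pperp Q e d)
    (hw' : w' ∈ pperp Q e d) (hne : w ≠ w') {x y : W} (hx : x ∈ E Q ρ ψ e w) (hy : y ∈ E Q ρ ψ e w') :
    ⟪x, y⟫_ℂ = 0 := by
  classical
  haveI : Finite V := Module.finite_of_finite F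
  haveI := Fintype.ofFinite (pperp Q e d)
  rw [show E Q ρ ψ e w = _ from C.E_eq_eigS p ⟨w, hw⟩] at hx
  rw [show E Q ρ ψ e w' = _ from C.E_eq_eigS p ⟨w', hw'⟩] at hy
  exact C.unit.eig_orth (C.charFam p) (fun h => hne (congrArg Subtype.val h)) hx hy

/-! ### Multiplicities -/

theorem finrank_le_of_map {K K' : Submodule ℂ W} (g : omg Q)
    (h : ∀ x ∈ K, ρ g x ∈ K') : finrank ℂ K ≤ finrank ℂ K' :=
  LinearMap.finrank_le_finrank_of_injective (f := (ρ g).restrict h) fun x y hxy =>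
    Subtype.ext (rho_inj g (congrArg Subtype.val hxy))

theorem finrank_E_map {e w : V} (he : Q e = 0) (g : omg Q) :
    finrank ℂ (E Q ρ ψ (app g e) (app g w)) = finrank ℂ (E Q ρ ψ e w) := by
  refine le_antisymm (C.finrank_le_of_map g⁻¹ fun x hx => ?_) (C.finrank_le_of_map g fun x hx => (C.E_map he g).2 hx)
  rwa [← C.E_map he g, rho_apply_inv]

theorem finrank_Fx_eq {e e' : V} (h0 : e ≠ 0) (h0' : e' ≠ 0) (he : Q e = 0)
    (he' : Q e' = 0) : finrank ℂ (Fx Q ρ ψ e) = finrank ℂ (Fx Q ρ ψ e') := by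
  obtain ⟨g, rfl⟩ := transit_sing C.good C.dim7 h0 h0' he he'
  have h := C.finrank_E_map (w := 0) he g
  rw [show app g (0 : V) = 0 from map_zero _] at h
  exact h.symm

theorem finrank_E_eq {e f w z : V} (he : Q e = 0) (hf : Q f = 0) (he0 : e ≠ 0)
    (hf0 : f ≠ 0) (hw : polar Q e w = 0) (hz : polar Q f z = 0) (hw0 : w ∉ Submodule.span F {e})
    (hz0 : z ∉ Submodule.span F {f}) {c : F} (hc : c ≠ 0) (hq : Q w = c * c * Q z) :
    finrank ℂ (E Q ρ ψ e w) = finrank ℂ (E Q ρ ψ f z) := by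
  obtain ⟨g, hg⟩ := transit_sing C.good C.dim7 he0 hf0 he hf
  obtain ⟨z', hz'⟩ : ∃ z', app g⁻¹ z = z' := ⟨_, rfl⟩
  have hzg : app g z' = z := by rw [← hz', app_app_inv]
  rw [← hg, ← hzg, C.finrank_E_map he g]
  have hez' : polar Q e z' = 0 := by rw [← b_app g, hg, hzg, hz]
  obtain ⟨d, hd, hd0⟩ := exists_partner C.good.nd he0 he
  have p : IsPair Q e d := ⟨he, hd0, hd⟩
  have part : ∀ w, polar Q e w = 0 → w - polar Q w d • e ∈ pperp Q e d ∧
      Q (w - polar Q w d • e) = Q w ∧ w - (w - polar Q w d • e) ∈ Submodule.span F {e} := fun w hw => by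
    refine ⟨?_, ?_, Submodule.mem_span_singleton.2 ⟨polar Q w d, by abel⟩⟩
    · have h1 := pperp_part p w
      rwa [b_comm w e, hw, zero_smul, sub_zero] at h1
    · rw [q_sub, q_smul, b_smul_right, he, b_comm w e, hw]; ring
  obtain ⟨hwY, hwq, hwc⟩ := part w hw
  obtain ⟨hzY, hzq, hzc⟩ := part z' hez'
  rw [E_congr hwc, E_congr hzc]
  have hne : ∀ w, w ∉ Submodule.span F {e} → w - polar Q w d • e ≠ 0 := fun w hw h =>
    hw (Submodule.mem_span_singleton.2 ⟨polar Q w d, (sub_eq_zero.1 h).symm⟩)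
  have hz'0 : z' ∉ Submodule.span F {e} := fun h => hz0 (by
    obtain ⟨t, ht⟩ := Submodule.mem_span_singleton.1 h
    exact Submodule.mem_span_singleton.2 ⟨t, by rw [← hg, ← hzg, ← ht]; exact (map_smul _ _ _).symm⟩)
  obtain ⟨g', hge, hgw⟩ := transit C.good C.dim7 p hwY hzY (hne w hw0) (hne z' hz'0) hc
    (by rw [hwq, hzq, hq, ← q_app g z', hzg])
  have h := C.finrank_E_map (w := w - polar Q w d • e) he g'
  rw [hge, hgw, C.E_scale he hc] at h
  exact h.symm

/-- A nontrivial representation has a nontrivial character at e. -/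
theorem exists_supp (hne : ∃ g x, ρ g x ≠ x) {e d : V} (p : IsPair Q e d) :
    ∃ w ∈ pperp Q e d, w ≠ 0 ∧ E Q ρ ψ e w ≠ ⊥ := by
  classical
  haveI : Finite V := Module.finite_of_finite F
  haveI := Fintype.ofFinite (pperp Q e d)
  by_contra! hall
  have hFx : ∀ x : W, x ∈ Fx Q ρ ψ e := fun x => by
    rw [← (C.decomp_top p).1 x, Finset.sum_eq_single (0 : pperp Q e d)]
    · exact Submodule.starProjection_apply_mem _ x
    · intro w _ hw0
      rw [hall w w.2 fun h => hw0 (Subtype.ext h)]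
      simp
    · exact fun h => absurd (Finset.mem_univ _) h
  have htriv : ∀ u y : V, Q u = 0 → polar Q u y = 0 → ∀ x, ρ (tr Q u y) x = x := by
    intro u y hu hy x
    rcases eq_or_ne u 0 with rfl | hu0
    · have : tr Q (0 : V) y = 1 := omg_ext fun v => by rw [tr_apply C.good hu hy]; simp [b_zero_right, app_one]
      rw [this, rho_one]
    obtain ⟨g, hg⟩ := transit_sing C.good C.dim7 p.ne hu0 p.qe hu
    have h1 : x ∈ Fx Q ρ ψ u := by
      rw [← hg, ← rho_apply_inv (ρ := ρ) g x]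
      exact (C.Fx_map p.qe g).2 (hFx _)
    exact mem_Fx.1 h1 y hy
  obtain ⟨g, x, hgx⟩ := hne
  apply hgx
  let H : Subgroup (oGroup Q) := (stabOf ρ x).map (omg Q).subtype
  have hle : siegelGroup Q ≤ H := by
    rw [siegelGroup, Subgroup.closure_le]
    rintro t ⟨u, y, hu, -, huy, ht⟩
    refine ⟨tr Q u y, htriv u y hu huy x, ?_⟩
    show (tr Q u y).1 = t
    rw [tr_coe C.good hu huy]
    exact Subtype.ext ((sg_spec hu huy).eq ht)
  rw [siegelGroup_eq C.good.nd C.good.dim] at hle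
  obtain ⟨g', hg', he⟩ := hle g.2
  rwa [← show g' = g from Subtype.ext he]

end Ctx

end Cfsg.Agent.OrthDeg
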