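/-
The fixed space of one radical under the radical at an orthogonal singular point.
-/
import Cfsg.Agent.Lib.OrthDeg.Eigen

set_option autoImplicit false

namespace Cfsg.Agent.OrthDeg

open QuadraticMap Module Cfsg.Agent.Orth
open scoped InnerProductSpace

variable {F V : Type*} [Field F] [AddCommGroup V] [Module F V] {Q : QuadraticForm F V}

/-- Two orthogonal hyperbolic pairs. -/
structure Frame (Q : QuadraticForm F V) (e d f g : V) : Prop where
  p : IsPair Q e d
  p' : IsPair Q f g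
  hf : f ∈ pperp Q e d
  hg : g ∈ pperp Q e d

/-- The orthogonal of a frame. -/
def Z4 (Q : QuadraticForm F V) (e d f g : V) : Submodule F V := pperp Q e d ⊓ pperp Q f g

namespace Frame

variable {e d f g : V} (H : Frame Q e d f g)

include H

theorem ef : polar Q e f = 0 := (mem_pperp.1 H.hf).1
theorem df : polar Q d f = 0 := (mem_pperp.1 H.hf).2
theorem eg : polar Q e g = 0 := (mem_pperp.1 H.hg).1
theorem dg : polar Q d g = 0 := (mem_pperp.1 H.hg).2
theorem fe : polar Q f e = 0 := by rw [b_comm, H.ef]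
theorem fd : polar Q f d = 0 := by rw [b_comm, H.df]
theorem ge : polar Q g e = 0 := by rw [b_comm, H.eg]
theorem gd : polar Q g d = 0 := by rw [b_comm, H.dg]

theorem symm : Frame Q f g e d :=
  ⟨H.p', H.p, mem_pperp.2 ⟨H.fe, H.ge⟩, mem_pperp.2 ⟨H.fd, H.gd⟩⟩

omit H in
theorem z_comm {e d f g : V} : Z4 Q f g e d = Z4 Q e d f g := inf_comm _ _

theorem ze {z : V} (hz : z ∈ Z4 Q e d f g) : polar Q e z = 0 := (mem_pperp.1 hz.1).1
theorem zd {z : V} (hz : z ∈ Z4 Q e d f g) : polar Q d z = 0 := (mem_pperp.1 hz.1).2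
theorem zf {z : V} (hz : z ∈ Z4 Q e d f g) : polar Q f z = 0 := (mem_pperp.1 hz.2).1
theorem zg {z : V} (hz : z ∈ Z4 Q e d f g) : polar Q g z = 0 := (mem_pperp.1 hz.2).2

theorem part_mem {y : V} (hy : y ∈ pperp Q e d) :
    y - polar Q y g • f - polar Q y f • g ∈ Z4 Q e d f g :=
  ⟨Submodule.sub_mem _ (Submodule.sub_mem _ hy (Submodule.smul_mem _ _ H.hf)) (Submodule.smul_mem _ _ H.hg),
    pperp_part H.p' y⟩

/-- A vector orthogonal to e and f splits along e, f and the core. -/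
theorem split_ef {y : V} (he : polar Q e y = 0) (hf : polar Q f y = 0) :
    y - polar Q y d • e - polar Q y g • f ∈ Z4 Q e d f g := by
  have h1 := pperp_part H.p y
  rw [b_comm y e, he, zero_smul, sub_zero] at h1
  have h2 := H.part_mem h1
  simp only [b_sub_left, b_smul_left, H.eg, H.ef, b_comm y f, hf, mul_zero, sub_zero, zero_smul] at h2
  exact h2

theorem not_mem_span {z : V} (hz : z ∈ Z4 Q e d f g) (h0 : z ≠ 0) : z ∉ Submodule.span F {e} := fun h => by
  obtain ⟨t, rfl⟩ := Submodule.mem_span_singleton.1 h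
  have h1 := H.zd hz
  rw [b_smul_right, H.p.de, mul_one] at h1
  exact h0 (by rw [h1, zero_smul])

theorem f_not_mem {a : F} (ha : a ≠ 0) : a • f ∉ Submodule.span F {e} := fun h => by
  obtain ⟨t, ht⟩ := Submodule.mem_span_singleton.1 h
  have h1 := congrArg (fun x => polar Q x g) ht
  simp only [b_smul_left, H.eg, H.p'.ed, mul_zero, mul_one] at h1
  exact ha h1.symm

end Frame

variable [Fintype F] [FiniteDimensional F V] {W : Type*} [NormedAddCommGroup W] [InnerProductSpace ℂ W]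
  [FiniteDimensional ℂ W]
  {ρ : omg Q →* (W →ₗ[ℂ] W)} {ψ : AddChar F ℂ}

/-- The roots at e and at f orthogonal to both. -/
def mSet (Q : QuadraticForm F V) (e f : V) : Set (omg Q) :=
  {t | ∃ y, polar Q e y = 0 ∧ polar Q f y = 0 ∧ (t = tr Q e y ∨ t = tr Q f y)}

/-- The common fixed space of the roots at e and f orthogonal to both. -/
abbrev MM (Q : QuadraticForm F V) (ρ : omg Q →* (W →ₗ[ℂ] W)) (e f : V) : Submodule ℂ W := fixS ρ (mSet Q e f)

/-- The vectors fixed by the radical at e and by the roots at f preserving it. -/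
abbrev KK (Q : QuadraticForm F V) (ρ : omg Q →* (W →ₗ[ℂ] W)) (ψ : AddChar F ℂ) (e f : V) : Submodule ℂ W :=
  Fx Q ρ ψ e ⊓ MM Q ρ e f

theorem mem_MM {e f : V} {x : W} :
    x ∈ MM Q ρ e f ↔ ∀ y, polar Q e y = 0 → polar Q f y = 0 → ρ (tr Q e y) x = x ∧ ρ (tr Q f y) x = x :=
  ⟨fun h y h1 h2 => ⟨h _ ⟨y, h1, h2, Or.inl rfl⟩, h _ ⟨y, h1, h2, Or.inr rfl⟩⟩, fun h t ⟨y, h1, h2, ht⟩ => by
    rcases ht with rfl | rfl
    exacts [(h y h1 h2).1, (h y h1 h2).2]⟩

theorem MM_comm (e f : V) : MM Q ρ e f = MM Q ρ f e := by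
  ext x
  simp only [mem_MM]
  exact ⟨fun h y h1 h2 => (h y h2 h1).symm, fun h y h1 h2 => (h y h2 h1).symm⟩

theorem mem_KK {e f : V} {x : W} : x ∈ KK Q ρ ψ e f ↔
    x ∈ Fx Q ρ ψ e ∧ ∀ y, polar Q e y = 0 → polar Q f y = 0 → ρ (tr Q f y) x = x := by
  rw [Submodule.mem_inf, mem_MM]
  exact ⟨fun h => ⟨h.1, fun y h1 h2 => (h.2 y h1 h2).2⟩,
    fun h => ⟨h.1, fun y h1 h2 => ⟨mem_Fx.1 h.1 y h1, h.2 y h1 h2⟩⟩⟩

/-- Roots at e fix a vector of the eigenspace at f once they do so away from its label. -/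
def LamAt (Q : QuadraticForm F V) (ρ : omg Q →* (W →ₗ[ℂ] W)) (ψ : AddChar F ℂ) (e d f g z : V) : Prop :=
  ∀ y ∈ Z4 Q e d f g, polar Q z y = 0 → ∀ x ∈ E Q ρ ψ f z, ρ (tr Q e y) x = x

/-- Roots at f inside the core fix the eigenspaces at e labelled by f. -/
def LamLine (Q : QuadraticForm F V) (ρ : omg Q →* (W →ₗ[ℂ] W)) (ψ : AddChar F ℂ) (e d f g : V) : Prop :=
  ∀ a : F, a ≠ 0 → ∀ y ∈ Z4 Q e d f g, ∀ x ∈ E Q ρ ψ e (a • f), ρ (tr Q f y) x = x

namespace Ctx

variable (C : Ctx Q ρ ψ)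

include C

theorem MM_map {e f : V} (he : Q e = 0) (hf : Q f = 0) (g : omg Q) {x : W} :
    ρ g x ∈ MM Q ρ (app g e) (app g f) ↔ x ∈ MM Q ρ e f := by
  simp only [mem_MM]
  constructor
  · intro h y h1 h2
    obtain ⟨k1, k2⟩ := h (app g y) (by rw [b_app, h1]) (by rw [b_app, h2])
    rw [← tr_conj C.good g he h1, rho_conj] at k1
    rw [← tr_conj C.good g hf h2, rho_conj] at k2
    exact ⟨rho_inj g k1, rho_inj g k2⟩
  · intro h y h1 h2
    obtain ⟨y', rfl⟩ : ∃ y', app g y' = y := ⟨app g⁻¹ y, app_app_inv g y⟩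
    rw [b_app] at h1 h2
    rw [← tr_conj C.good g he h1, ← tr_conj C.good g hf h2, rho_conj, rho_conj, (h y' h1 h2).1, (h y' h1 h2).2]
    exact ⟨rfl, rfl⟩

theorem KK_map {e f : V} (he : Q e = 0) (hf : Q f = 0) (g : omg Q) {x : W} :
    ρ g x ∈ KK Q ρ ψ (app g e) (app g f) ↔ x ∈ KK Q ρ ψ e f := by
  simp only [Submodule.mem_inf, C.Fx_map he, C.MM_map he hf]

theorem finrank_KK_map {e f : V} (he : Q e = 0) (hf : Q f = 0) (g : omg Q) :
    finrank ℂ (KK Q ρ ψ (app g e) (app g f)) = finrank ℂ (KK Q ρ ψ e f) :=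
  le_antisymm
    (C.finrank_le_of_map g⁻¹ fun x hx => (C.KK_map he hf g).1 (by rwa [rho_apply_inv]))
    (C.finrank_le_of_map g fun x hx => (C.KK_map he hf g).2 hx)

theorem finrank_KK_eq {e f e' f' : V} (he : Q e = 0) (hf : Q f = 0) (he' : Q e' = 0) (hf' : Q f' = 0)
    (hef : polar Q e f = 0) (hef' : polar Q e' f' = 0) (h : LinearIndependent F ![e, f])
    (h' : LinearIndependent F ![e', f']) :
    finrank ℂ (KK Q ρ ψ e' f') = finrank ℂ (KK Q ρ ψ e f) := by
  obtain ⟨g, rfl, rfl⟩ : ∃ g : omg Q, app g e = e' ∧ app g f = f' :=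
    omega_map_two C.good.nd C.dim7 h h' he hf he' hf' (hef'.trans hef.symm)
  exact C.finrank_KK_map he hf g

/-- The whole radical at e preserves the space fixed by the small roots. -/
theorem MM_stable {e f y₀ : V} (he : Q e = 0) (hf : Q f = 0) (hef : polar Q e f = 0)
    (hy₀ : polar Q e y₀ = 0) {x : W} (hx : x ∈ MM Q ρ e f) : ρ (tr Q e y₀) x ∈ MM Q ρ e f := by
  rw [mem_MM] at hx ⊢
  obtain ⟨T, hT⟩ : ∃ T, tr Q e y₀ = T := ⟨_, rfl⟩
  have hny : polar Q e (-y₀) = 0 := by rw [← neg_one_smul F y₀, b_smul_right, hy₀, mul_zero]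
  have hTe : app T⁻¹ e = e := by
    rw [← hT, ← tr_neg C.good he hy₀, tr_fix C.good he hny (by rw [b_self, he, mul_zero]) hny]
  intro y h1 h2
  rw [hT]
  have hback : ∀ u : V, Q u = 0 → polar Q u y = 0 →
      ρ (tr Q (app T⁻¹ u) (app T⁻¹ y)) x = x → ρ (tr Q u y) (ρ T x) = ρ T x := fun u hu huy h => by
    have h3 := rho_conj (ρ := ρ) T (tr Q (app T⁻¹ u) (app T⁻¹ y)) x
    rw [tr_conj C.good T (by rw [q_app, hu]) (by rw [b_app, huy]), app_app_inv, app_app_inv, h] at h3
    exact h3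
  obtain ⟨t, ht⟩ : ∃ t, polar Q f y₀ = t := ⟨_, rfl⟩
  obtain ⟨s, hs⟩ : ∃ s, polar Q y y₀ = s := ⟨_, rfl⟩
  have hTf : app T⁻¹ f = f + t • e := by
    rw [← hT, ← tr_neg C.good he hy₀, tr_apply C.good he hny, b_comm f e, hef, ← ht, ← neg_one_smul F y₀,
      b_smul_right]
    module
  have hTy : app T⁻¹ y = y + s • e := by
    rw [← hT, ← tr_neg C.good he hy₀, tr_apply C.good he hny, b_comm y e, h1, ← hs, ← neg_one_smul F y₀,
      b_smul_right]
    module
  obtain ⟨y', hy'⟩ : ∃ y', y + s • e = y' := ⟨_, rfl⟩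
  have hey : polar Q e y' = 0 := by rw [← hy', b_add_right, h1, b_smul_right, b_self, he]; ring
  have hfy : polar Q f y' = 0 := by rw [← hy', b_add_right, h2, b_smul_right, b_comm f e, hef]; ring
  refine ⟨hback e he h1 ?_, hback f hf h2 ?_⟩
  · rw [hTe, hTy, hy']
    exact (hx y' hey hfy).1
  · have hte : polar Q (t • e) y' = 0 := by rw [b_smul_left, hey, mul_zero]
    rw [hTf, hTy, hy', tr_add_left C.good hf (by rw [q_smul, he, mul_zero])
      (by rw [b_smul_right, b_comm f e, hef, mul_zero]) hfy hte, smul_smul, tr_scale C.good t he hey]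
    refine fix_mul (fix_mul (hx y' hey hfy).2 (hx _ ?_ ?_).1) (hx _ ?_ ?_).2
    · rw [b_smul_right, hey, mul_zero]
    · rw [b_smul_right, hfy, mul_zero]
    · rw [b_smul_right, b_self, he, mul_zero, mul_zero]
    · rw [b_smul_right, b_comm f e, hef, mul_zero]

theorem Fx_stable {e f y : V} (he : Q e = 0) (hf : Q f = 0) (hef : polar Q e f = 0) (h1 : polar Q e y = 0)
    (h2 : polar Q f y = 0) {x : W} (hx : x ∈ Fx Q ρ ψ e) : ρ (tr Q f y) x ∈ Fx Q ρ ψ e :=
  C.E_stable he (tr_fix C.good hf h2 hef h1)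
    (by rw [show app (tr Q f y) (0 : V) = 0 from map_zero _, sub_zero]; exact Submodule.zero_mem _) hx

variable {e d f g : V} (H : Frame Q e d f g)

include H

theorem tr_f_e_fix {α : F} {x : W} (hx : x ∈ Fx Q ρ ψ e) : ρ (tr Q f (α • e)) x = x := by
  have h0 : polar Q f (α • e) = 0 := by rw [b_smul_right, H.fe, mul_zero]
  rw [tr_swap C.good H.p'.qe (by rw [q_smul, H.p.qe, mul_zero]) h0,
    tr_scale C.good α H.p.qe (by rw [← neg_one_smul F f, b_smul_right, H.ef, mul_zero])]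
  exact mem_Fx.1 hx _ (by rw [← neg_one_smul F f, b_smul_right, b_smul_right, H.ef, mul_zero, mul_zero])

/-- The eigenspace inside Fx e of a core character. -/
theorem Kz_zero : eigS ρ (fun y : Z4 Q e d f g => tr Q f (y : V)) (Fx Q ρ ψ e)
    (fun y => ψ (polar Q (0 : V) (y : V))) = KK Q ρ ψ e f := by
  ext x
  simp only [mem_eigS, mem_KK, b_zero_left, AddChar.map_zero_eq_one, one_smul]
  refine and_congr_right fun hx => ⟨fun h y h1 h2 => ?_, fun h y => h y (H.ze y.2) (H.zf y.2)⟩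
  have hz := H.split_ef h1 h2
  obtain ⟨z, hzdef⟩ : ∃ z, y - polar Q y d • e - polar Q y g • f = z := ⟨_, rfl⟩
  rw [hzdef] at hz
  have a1 : polar Q f (polar Q y d • e) = 0 := by rw [b_smul_right, H.fe, mul_zero]
  have a2 : polar Q f (polar Q y g • f) = 0 := by rw [b_smul_right, H.p'.ee, mul_zero]
  have a3 : polar Q f (polar Q y d • e + polar Q y g • f) = 0 := by rw [b_add_right, a1, a2, add_zero]
  rw [show y = polar Q y d • e + polar Q y g • f + z by rw [← hzdef]; abel,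
    tr_add C.good H.p'.qe a3 (H.zf hz), tr_add C.good H.p'.qe a1 a2, tr_self C.good H.p'.qe, mul_one]
  exact fix_mul (C.tr_f_e_fix H hx) (h ⟨z, hz⟩)

theorem z4_nondeg : ∀ a ∈ Z4 Q e d f g, (∀ b ∈ Z4 Q e d f g, polar Q a b = 0) → a = 0 := by
  intro a ha h
  refine eq_zero_of_b C.good.nd fun x => ?_
  obtain ⟨y, hy⟩ : ∃ y, x - polar Q x d • e - polar Q x e • d = y := ⟨_, rfl⟩
  have hyY : y ∈ pperp Q e d := hy ▸ pperp_part H.p x
  have hz := h _ (H.part_mem hyY)
  simp only [b_sub_right, b_smul_right, b_comm a f, b_comm a g, H.zf ha, H.zg ha, mul_zero, sub_zero] at hz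
  rw [← hy, b_sub_right, b_sub_right, b_smul_right, b_smul_right, b_comm a e, b_comm a d, H.ze ha, H.zd ha] at hz
  simpa using hz

theorem finrank_z4 : finrank F V = finrank F (Z4 Q e d f g) + 4 := by
  have h1 := finrank_pperp H.p
  have pY : IsPair (restr Q (pperp Q e d)) ⟨f, H.hf⟩ ⟨g, H.hg⟩ := ⟨H.p'.qe, H.p'.qd, H.p'.ed⟩
  have h2 := finrank_pperp pY
  have h3 : finrank F (pperp (restr Q (pperp Q e d)) ⟨f, H.hf⟩ ⟨g, H.hg⟩) = finrank F (Z4 Q e d f g) := by
    refine LinearEquiv.finrank_eq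
      ((Submodule.equivMapOfInjective _ (pperp Q e d).injective_subtype _).trans (LinearEquiv.ofEq _ _ ?_))
    ext x
    simp only [Submodule.mem_map, Z4, Submodule.mem_inf]
    constructor
    · rintro ⟨y, hy, rfl⟩
      rw [mem_pperp] at hy
      exact ⟨y.2, mem_pperp.2 hy⟩
    · rintro ⟨hx, hx'⟩
      obtain ⟨hx1, hx2⟩ := mem_pperp.1 hx'
      exact ⟨⟨x, hx⟩, mem_pperp.2 ⟨hx1, hx2⟩, rfl⟩
  omega

theorem charFamZ [Fintype (Z4 Q e d f g)] [DecidableEq (Z4 Q e d f g)] :
    CharFam (fun w a : Z4 Q e d f g => ψ (polar Q (w : V) (a : V))) where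
  mul w a b := by rw [Submodule.coe_add, b_add_right, AddChar.map_add_eq_mul]
  zero w := by rw [Submodule.coe_zero, b_zero_right, AddChar.map_zero_eq_one]
  norm w a := by
    rw [psi_conj, Submodule.coe_neg, ← neg_one_smul F (a : V), b_smul_right, neg_one_mul]
  sum a := by
    split_ifs with ha
    · subst ha
      simp [b_zero_right]
    · let χ : AddChar (Z4 Q e d f g) ℂ :=
        { toFun := fun w => ψ (polar Q (w : V) (a : V))
          map_zero_eq_one' := by simp [b_zero_left]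
          map_add_eq_mul' := fun w w' => by simp [b_add_left, AddChar.map_add_eq_mul] }
      refine AddChar.sum_eq_zero_of_ne_one (ψ := χ) fun h => ha (Subtype.ext (C.z4_nondeg H a a.2 fun w hw => ?_))
      refine psi_eq_zero C.psi fun t => ?_
      have h1 := DFunLike.congr_fun h (t • ⟨w, hw⟩)
      rw [AddChar.one_apply] at h1
      rw [← h1]
      show _ = ψ (polar Q (t • w) (a : V))
      rw [b_smul_left, b_comm w, mul_comm]
  sep w w' hne := by
    by_contra! hall
    refine hne (sub_eq_zero.1 (Subtype.ext (C.z4_nondeg H _ (w - w').2 fun a ha => psi_eq_zero C.psi fun t => ?_)))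
    have h1 := hall (t • ⟨a, ha⟩)
    simp only [Submodule.coe_smul, b_smul_right, mul_comm t] at h1
    rw [Submodule.coe_sub, b_sub_left, sub_mul, AddChar.map_sub_eq_div, h1, div_self]
    exact AddChar.val_isUnit ψ _ |>.ne_zero

theorem Fx_decomp [Fintype (Z4 Q e d f g)] :
    finrank ℂ (Fx Q ρ ψ e) = ∑ z : Z4 Q e d f g, finrank ℂ (eigS ρ (fun y : Z4 Q e d f g => tr Q f (y : V))
      (Fx Q ρ ψ e) (fun y => ψ (polar Q (z : V) (y : V)))) := by
  classical
  exact (C.unit.eig_decomp (t := fun y : Z4 Q e d f g => tr Q f (y : V)) (C.charFamZ H)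
    (fun a b => tr_add C.good H.p'.qe (H.zf a.2) (H.zf b.2)) (tr_zero C.good H.p'.qe)
    (K := Fx Q ρ ψ e) fun a x hx => C.Fx_stable H.p.qe H.p'.qe H.ef (H.ze a.2) (H.zf a.2) hx).2

/-- The projection onto the line at f is injective on a core eigenspace. -/
theorem Kz_proj_inj {z : V} (hz : z ∈ Z4 Q e d f g) (hz0 : z ≠ 0) {x : W}
    (hx : x ∈ eigS ρ (fun y : Z4 Q e d f g => tr Q f (y : V)) (Fx Q ρ ψ e) (fun y => ψ (polar Q z (y : V))))
    (hP : (E Q ρ ψ f z).starProjection x = 0) : x = 0 := by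
  classical
  haveI : Finite V := Module.finite_of_finite F
  haveI := Fintype.ofFinite (pperp Q f g)
  rw [mem_eigS] at hx
  obtain ⟨hxF, hxz⟩ := hx
  obtain ⟨y1, hy1Z, hy1⟩ : ∃ y ∈ Z4 Q e d f g, polar Q z y = 1 := by
    by_contra! hall
    refine hz0 (C.z4_nondeg H z hz fun b hb => ?_)
    by_contra hb0
    exact hall ((polar Q z b)⁻¹ • b) (Submodule.smul_mem _ _ hb) (by rw [b_smul_right, inv_mul_cancel₀ hb0])
  rw [← (C.decomp_top H.p').1 x]
  refine Finset.sum_eq_zero fun w _ => ?_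
  by_contra hne
  have hw := w.2
  obtain ⟨xw, hxw⟩ : ∃ xw, (E Q ρ ψ f (w : V)).starProjection x = xw := ⟨_, rfl⟩
  have hxwE : xw ∈ E Q ρ ψ f (w : V) := hxw ▸ Submodule.starProjection_apply_mem _ x
  have hcomm : ∀ y, polar Q f y = 0 → (E Q ρ ψ f (w : V)).starProjection (ρ (tr Q f y) x) = ρ (tr Q f y) xw := by
    intro y hy
    rw [← hxw]
    refine C.unit.proj_map (fun u => ?_) x
    have hgw : app (tr Q f y) (w : V) - (w : V) ∈ Submodule.span F {f} := by
      rw [tr_apply C.good H.p'.qe hy, b_comm (w : V) f, (mem_pperp.1 hw).1]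
      exact Submodule.mem_span_singleton.2 ⟨-polar Q (w : V) y, by module⟩
    have h1 := C.E_map (ψ := ψ) (w := (w : V)) H.p'.qe (tr Q f y) (x := u)
    rwa [tr_fix C.good H.p'.qe hy H.p'.ee hy, E_congr hgw] at h1
  have hne' : xw ≠ 0 := hxw ▸ hne
  have hwe : polar Q (w : V) e = 0 := by
    refine psi_eq_zero C.psi fun t => ?_
    have h0' : polar Q f (t • e) = 0 := by rw [b_smul_right, H.fe, mul_zero]
    have h1 := hcomm (t • e) h0'
    rw [C.tr_f_e_fix H hxF, hxwE _ h0', b_smul_right, mul_comm, hxw] at h1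
    exact smul_left_injective ℂ hne' (by simpa using h1.symm)
  have hwz : ∀ y ∈ Z4 Q e d f g, polar Q ((w : V) - z) y = 0 := fun y hy => by
    refine psi_eq_zero C.psi fun t => ?_
    have h1 := hcomm (t • y) (by rw [b_smul_right, H.zf hy, mul_zero])
    rw [hxz ⟨t • y, Submodule.smul_mem _ _ hy⟩, map_smul, hxw,
      hxwE _ (by rw [b_smul_right, H.zf hy, mul_zero])] at h1
    have h2 : ψ (polar Q z (t • y)) = ψ (polar Q (w : V) (t • y)) := smul_left_injective ℂ hne' h1
    rw [b_smul_right, b_smul_right, mul_comm t, mul_comm t] at h2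
    rw [b_sub_left, sub_mul, AddChar.map_sub_eq_div, ← h2, div_self]
    exact AddChar.val_isUnit ψ _ |>.ne_zero
  obtain ⟨s, hs⟩ : ∃ s, polar Q (w : V) d = s := ⟨_, rfl⟩
  have hwdec : (w : V) = s • e + z := by
    have h1 := pperp_part H.p (w : V)
    rw [hwe, zero_smul, sub_zero, hs] at h1
    have h2 := H.part_mem h1
    simp only [b_sub_left, b_smul_left, H.eg, H.ef, b_comm (w : V) f, b_comm (w : V) g, (mem_pperp.1 hw).1,
      (mem_pperp.1 hw).2, mul_zero, sub_zero, zero_smul] at h2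
    have h3 := C.z4_nondeg H _ (Submodule.sub_mem _ h2 hz) fun b hb => by
      have := hwz b hb
      rw [b_sub_left] at this
      rw [b_sub_left, b_sub_left, b_smul_left, H.ze hb, mul_zero, sub_zero, this]
    rw [sub_eq_zero] at h3
    rw [← h3]; abel
  obtain ⟨T, hT⟩ : ∃ T, tr Q e ((-s) • y1) = T := ⟨_, rfl⟩
  have hy : polar Q e ((-s) • y1) = 0 := by rw [b_smul_right, H.ze hy1Z, mul_zero]
  have hTf : app T f = f := by
    rw [← hT]; exact tr_fix C.good H.p.qe hy H.fe (by rw [b_smul_right, H.zf hy1Z, mul_zero])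
  have hTz : app T z = (w : V) := by
    rw [← hT, tr_apply C.good H.p.qe hy, b_comm z e, H.ze hz, b_smul_right, hy1, hwdec]
    module
  have hTx : ρ T x = x := hT ▸ mem_Fx.1 hxF _ hy
  have h4 := C.unit.proj_map (K := E Q ρ ψ f z) (K' := E Q ρ ψ f (w : V)) (g := T) (fun u => by
    have h1 := C.E_map (ψ := ψ) (w := z) H.p'.qe T (x := u)
    rwa [hTf, hTz] at h1) x
  rw [hTx, hP, map_zero, hxw] at h4
  exact hne' h4

theorem Kz_le {z : V} (hz : z ∈ Z4 Q e d f g) (hz0 : z ≠ 0) :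
    finrank ℂ (eigS ρ (fun y : Z4 Q e d f g => tr Q f (y : V)) (Fx Q ρ ψ e)
      (fun y => ψ (polar Q z (y : V)))) ≤ finrank ℂ (E Q ρ ψ f z) := by
  obtain ⟨Kz, hKz⟩ : ∃ K, eigS ρ (fun y : Z4 Q e d f g => tr Q f (y : V)) (Fx Q ρ ψ e)
      (fun y => ψ (polar Q z (y : V))) = K := ⟨_, rfl⟩
  rw [hKz]
  let φ : Kz →ₗ[ℂ] E Q ρ ψ f z :=
    (((E Q ρ ψ f z).orthogonalProjectionOnto : W →ₗ[ℂ] E Q ρ ψ f z)).comp Kz.subtype
  refine LinearMap.finrank_le_finrank_of_injective (f := φ) ?_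
  rw [← LinearMap.ker_eq_bot, LinearMap.ker_eq_bot']
  rintro ⟨x, hx⟩ h0
  exact Subtype.ext (C.Kz_proj_inj H hz hz0 (x := x) (hKz ▸ hx) (congrArg Subtype.val h0))

omit H in
theorem E_ne_bot_of_finrank {e w : V} (h : finrank ℂ (E Q ρ ψ e w) ≠ 0) : E Q ρ ψ e w ≠ ⊥ :=
  fun h0 => h (by rw [h0, finrank_bot])

/-- Orbit sums give every vector of the line at f. -/
theorem le_Kz {z : V} (hz : z ∈ Z4 Q e d f g) (hz0 : z ≠ 0) (hL : LamLine Q ρ ψ e d f g)
    (hA : LamAt Q ρ ψ e d f g z) :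
    finrank ℂ (E Q ρ ψ f z) ≤ finrank ℂ (eigS ρ (fun y : Z4 Q e d f g => tr Q f (y : V)) (Fx Q ρ ψ e)
      (fun y => ψ (polar Q z (y : V)))) := by
  classical
  haveI : Finite V := Module.finite_of_finite F
  haveI := Fintype.ofFinite (pperp Q e d)
  obtain ⟨y1, hy1Z, hy1⟩ : ∃ y ∈ Z4 Q e d f g, polar Q z y = 1 := by
    by_contra! hall
    refine hz0 (C.z4_nondeg H z hz fun b hb => ?_)
    by_contra hb0
    exact hall ((polar Q z b)⁻¹ • b) (Submodule.smul_mem _ _ hb) (by rw [b_smul_right, inv_mul_cancel₀ hb0])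
  have hey : ∀ s : F, polar Q e (s • y1) = 0 := fun s => by rw [b_smul_right, H.ze hy1Z, mul_zero]
  let Φ : E Q ρ ψ f z →ₗ[ℂ] W := (∑ s : F, ρ (tr Q e (s • y1))).comp (E Q ρ ψ f z).subtype
  have hΦ : ∀ x : E Q ρ ψ f z, Φ x = ∑ s : F, ρ (tr Q e (s • y1)) (x : W) := fun x => by
    simp [Φ, LinearMap.sum_apply]
  have hTf : ∀ s : F, app (tr Q e (s • y1)) f = f := fun s =>
    tr_fix C.good H.p.qe (hey s) H.fe (by rw [b_smul_right, H.zf hy1Z, mul_zero])
  have hTz : ∀ s : F, app (tr Q e (s • y1)) z = z - s • e := fun s => by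
    rw [tr_apply C.good H.p.qe (hey s), b_comm z e, H.ze hz, b_smul_right, hy1]
    module
  have hzY : ∀ s : F, z - s • e ∈ pperp Q f g :=
    fun s => Submodule.sub_mem _ hz.2 (Submodule.smul_mem _ _ H.symm.hf)
  have hsummand : ∀ (x : E Q ρ ψ f z) (s : F), ρ (tr Q e (s • y1)) (x : W) ∈ E Q ρ ψ f (z - s • e) := fun x s => by
    have h1 := (C.E_map H.p'.qe (tr Q e (s • y1))).2 x.2
    rwa [hTf, hTz] at h1
  -- invariance under roots at e orthogonal to f
  have hinv : ∀ x : E Q ρ ψ f z, ∀ y, polar Q e y = 0 → polar Q f y = 0 → ρ (tr Q e y) (Φ x) = Φ x := by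
    intro x y h1 h2
    obtain ⟨r, hr⟩ : ∃ r, y - polar Q z y • y1 = r := ⟨_, rfl⟩
    have hre : polar Q e r = 0 := by rw [← hr, b_sub_right, h1, hey, sub_zero]
    have hrf : polar Q f r = 0 := by rw [← hr, b_sub_right, b_smul_right, h2, H.zf hy1Z, mul_zero, sub_zero]
    have hrz : polar Q z r = 0 := by rw [← hr, b_sub_right, b_smul_right, hy1, mul_one, sub_self]
    have hfix : ρ (tr Q e r) (x : W) = x := by
      obtain ⟨z', hz'⟩ : ∃ z', r - polar Q r d • e - polar Q r g • f = z' := ⟨_, rfl⟩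
      have hzz : z' ∈ Z4 Q e d f g := hz' ▸ H.split_ef hre hrf
      have a1 : polar Q e (polar Q r g • f) = 0 := by rw [b_smul_right, H.ef, mul_zero]
      have a2 : polar Q e (polar Q r d • e) = 0 := by rw [b_smul_right, H.p.ee, mul_zero]
      have a3 : polar Q e (polar Q r d • e + polar Q r g • f) = 0 := by rw [b_add_right, a1, a2, add_zero]
      rw [show r = polar Q r d • e + polar Q r g • f + z' by rw [← hz']; abel,
        tr_add C.good H.p.qe a3 (H.ze hzz), tr_add C.good H.p.qe a2 a1, tr_self C.good H.p.qe, one_mul]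
      refine fix_mul ?_ (hA z' hzz ?_ x x.2)
      · have h3 : polar Q f ((polar Q r g) • (-e)) = 0 := by
          rw [b_smul_right, ← neg_one_smul F e, b_smul_right, H.fe, mul_zero, mul_zero]
        rw [tr_swap C.good H.p.qe (by rw [q_smul, H.p'.qe, mul_zero]) a1, tr_scale C.good _ H.p'.qe
          (by rw [← neg_one_smul F e, b_smul_right, H.fe, mul_zero]), x.2 _ h3, b_smul_right, ← neg_one_smul F e,
          b_smul_right, b_comm z e, H.ze hz, mul_zero, mul_zero, AddChar.map_zero_eq_one, one_smul]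
      · rw [← hz', b_sub_right, b_sub_right, b_smul_right, b_smul_right, hrz, b_comm z e, H.ze hz, b_comm z f,
          H.zf hz]
        ring
    rw [hΦ, map_sum]
    refine Fintype.sum_equiv (Equiv.addLeft (polar Q z y)) _ _ fun s => ?_
    have hc : polar Q e ((polar Q z y + s) • y1) = 0 := hey _
    rw [Equiv.coe_addLeft, ← rho_mul, ← tr_add C.good H.p.qe h1 (hey s),
      show y + s • y1 = (polar Q z y + s) • y1 + r by rw [← hr]; module, tr_add C.good H.p.qe hc hre, rho_mul,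
      hfix]
  -- the eigenvalue for the core at f
  have heig : ∀ x : E Q ρ ψ f z, ∀ y ∈ Z4 Q e d f g, ρ (tr Q f y) (Φ x) = ψ (polar Q z y) • Φ x := by
    intro x y hy
    rw [hΦ, map_sum, Finset.smul_sum]
    refine Finset.sum_congr rfl fun s _ => ?_
    rw [hsummand x s y (H.zf hy), b_sub_left, b_smul_left, H.ze hy, mul_zero, sub_zero]
  have hmem : ∀ x : E Q ρ ψ f z, Φ x ∈ eigS ρ (fun y : Z4 Q e d f g => tr Q f (y : V)) (Fx Q ρ ψ e)
      (fun y => ψ (polar Q z (y : V))) := by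
    intro x
    refine ⟨?_, fun y => heig x y y.2⟩
    rw [← (C.decomp_top H.p).1 (Φ x), Finset.sum_eq_single (0 : pperp Q e d)]
    · exact Submodule.starProjection_apply_mem _ _
    · intro w _ hw0
      by_contra hne
      obtain ⟨v, hv⟩ : ∃ v, (E Q ρ ψ e (w : V)).starProjection (Φ x) = v := ⟨_, rfl⟩
      have hvE : v ∈ E Q ρ ψ e (w : V) := hv ▸ Submodule.starProjection_apply_mem _ _
      have hv0 : v ≠ 0 := hv ▸ hne
      have hcomm : ∀ T : omg Q, app T e = e → app T (w : V) - (w : V) ∈ Submodule.span F {e} →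
          (E Q ρ ψ e (w : V)).starProjection (ρ T (Φ x)) = ρ T v := by
        intro T hTe hTw
        rw [← hv]
        refine C.unit.proj_map (fun u => ?_) (Φ x)
        have h1 := C.E_map (ψ := ψ) (w := (w : V)) H.p.qe T (x := u)
        rwa [hTe, E_congr hTw] at h1
      -- w is a multiple of f
      have hwperp : ∀ y, polar Q e y = 0 → polar Q f y = 0 → polar Q (w : V) y = 0 := by
        intro y h1 h2
        refine psi_eq_zero C.psi fun t => ?_
        have h1' : polar Q e (t • y) = 0 := by rw [b_smul_right, h1, mul_zero]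
        have h3 := hcomm (tr Q e (t • y)) (tr_fix C.good H.p.qe h1' H.p.ee h1') (by
          rw [tr_apply C.good H.p.qe h1', b_comm (w : V) e, (mem_pperp.1 w.2).1]
          exact Submodule.mem_span_singleton.2 ⟨-polar Q (w : V) (t • y), by module⟩)
        rw [hinv x _ h1' (by rw [b_smul_right, h2, mul_zero]), hv, hvE _ h1', b_smul_right, mul_comm] at h3
        exact smul_left_injective ℂ hv0 (by simpa using h3.symm)
      have hwf : polar Q (w : V) f = 0 := hwperp f H.ef H.p'.ee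
      obtain ⟨a, ha⟩ : ∃ a, polar Q (w : V) g = a := ⟨_, rfl⟩
      have hwa : (w : V) = a • f := by
        have h1 := H.part_mem w.2
        rw [hwf, zero_smul, sub_zero, ha] at h1
        have h2 := C.z4_nondeg H _ h1 fun b hb => by
          rw [b_sub_left, b_smul_left, H.zf hb, hwperp b (H.ze hb) (H.zf hb), mul_zero, sub_zero]
        exact sub_eq_zero.1 h2
      have ha0 : a ≠ 0 := fun h => hw0 (Subtype.ext (by rw [hwa, h, zero_smul]; rfl))
      refine hz0 (C.z4_nondeg H z hz fun b hb => psi_eq_zero C.psi fun t => ?_)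
      have hbf : polar Q f (t • b) = 0 := by rw [b_smul_right, H.zf hb, mul_zero]
      have hbe : polar Q e (t • b) = 0 := by rw [b_smul_right, H.ze hb, mul_zero]
      have h3 := hcomm (tr Q f (t • b)) (tr_fix C.good H.p'.qe hbf H.ef hbe) (by
        rw [hwa, tr_fix C.good H.p'.qe hbf (by rw [b_smul_left, H.p'.ee, mul_zero])
          (by rw [b_smul_left, hbf, mul_zero]), sub_self]
        exact Submodule.zero_mem _)
      rw [heig x _ (Submodule.smul_mem _ _ hb), map_smul, hv,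
        hL a ha0 _ (Submodule.smul_mem _ _ hb) v (hwa ▸ hvE), b_smul_right, mul_comm] at h3
      exact smul_left_injective ℂ hv0 (by simpa using h3)
    · exact fun h => absurd (Finset.mem_univ _) h
  refine LinearMap.finrank_le_finrank_of_injective (f := Φ.codRestrict _ hmem) ?_
  rw [← LinearMap.ker_eq_bot, LinearMap.ker_eq_bot']
  intro x hx
  have h0 : Φ x = 0 := congrArg Subtype.val hx
  have h1 : ⟪(x : W), Φ x⟫_ℂ = ⟪(x : W), (x : W)⟫_ℂ := by
    rw [hΦ, inner_sum, Finset.sum_eq_single (0 : F)]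
    · rw [zero_smul, tr_zero C.good H.p.qe, rho_one]
    · intro s _ hs
      refine C.E_orth H.p' (hzY 0) (hzY s) ?_ (by simpa using x.2) (hsummand x s)
      intro h
      rw [zero_smul, sub_zero, eq_comm, sub_eq_self] at h
      exact hs ((smul_eq_zero.1 h).resolve_right H.p.ne)
    · exact fun h => absurd (Finset.mem_univ _) h
  rw [h0, inner_zero_right, eq_comm, inner_self_eq_zero] at h1
  exact Subtype.ext h1

end Ctx

end Cfsg.Agent.OrthDeg
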