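/-
Roots orthogonal to the label act trivially on one-dimensional eigenspaces.
-/
import Cfsg.Agent.Lib.OrthDeg.Decomp

set_option autoImplicit false

namespace Cfsg.Agent.OrthDeg

open QuadraticMap Module Cfsg.Agent.Orth

variable {F V : Type*} [Field F] [AddCommGroup V] [Module F V] {Q : QuadraticForm F V}

theorem exists_sq_ne_one [Fintype F] (h : 4 ≤ Fintype.card F) : ∃ s : F, s ≠ 0 ∧ s * s ≠ 1 := by
  classical
  by_contra! hall
  have hsub : (Finset.univ : Finset F) ⊆ {0, 1, -1} := fun s _ => by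
    rcases eq_or_ne s 0 with rfl | hs
    · simp
    rcases mul_self_eq_one_iff.1 (hall s hs) with rfl | rfl <;> simp
  have h1 := (Finset.card_le_card hsub).trans Finset.card_le_three
  rw [Finset.card_univ] at h1
  omega

variable [FiniteDimensional F V]

/-- A pair and two non-orthogonal vectors orthogonal to it. -/
theorem exists_trick [Finite F] (hQ : (polarBilin Q).Nondegenerate) (hd : 4 ≤ finrank F V) :
    ∃ a b y₀ y₁, IsPair Q a b ∧ y₀ ∈ pperp Q a b ∧ y₁ ∈ pperp Q a b ∧ polar Q y₀ y₁ ≠ 0 := by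
  obtain ⟨a, ha0, ha⟩ := exists_singular hQ (by omega)
  obtain ⟨b, hb, hb0⟩ := exists_partner hQ ha0 ha
  have p : IsPair Q a b := ⟨ha, hb0, hb⟩
  have h1 := finrank_pperp p
  obtain ⟨y, hy, hy0⟩ := (pperp Q a b).ne_bot_iff.1 (fun h => by rw [h, finrank_bot] at h1; omega)
  obtain ⟨y', hy'⟩ : ∃ y' : pperp Q a b, polar Q y (y' : V) ≠ 0 := by
    by_contra! hall
    exact hy0 (congrArg Subtype.val (eq_zero_of_b (pperp_nondeg hQ p) (x := ⟨y, hy⟩) hall))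
  exact ⟨a, b, y, y', p, hy, y'.2, hy'⟩

variable [Fintype F] {W : Type*} [NormedAddCommGroup W] [InnerProductSpace ℂ W] [FiniteDimensional ℂ W]
  {ρ : omg Q →* (W →ₗ[ℂ] W)} {ψ : AddChar F ℂ}

/-- Root labels at u acting trivially on K. -/
def killed (Q : QuadraticForm F V) (ρ : omg Q →* (W →ₗ[ℂ] W)) (K : Submodule ℂ W) (u : V) : Set V :=
  {y | polar Q u y = 0 ∧ ∀ x ∈ K, ρ (tr Q u y) x = x}

theorem comm_of_le_one {K : Submodule ℂ W} (hK : finrank ℂ K ≤ 1) (A B : W →ₗ[ℂ] W) (hA : ∀ x ∈ K, A x ∈ K)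
    (hB : ∀ x ∈ K, B x ∈ K) {x : W} (hx : x ∈ K) : A (B x) = B (A x) := by
  obtain ⟨v, hv⟩ := finrank_le_one_iff.1 hK
  obtain ⟨r, hr⟩ := hv ⟨x, hx⟩
  obtain ⟨s, hs⟩ := hv ⟨A v, hA v v.2⟩
  obtain ⟨t, ht⟩ := hv ⟨B v, hB v v.2⟩
  have hr' : r • (v : W) = x := congrArg Subtype.val hr
  have hs' : s • (v : W) = A v := congrArg Subtype.val hs
  have ht' : t • (v : W) = B v := congrArg Subtype.val ht
  simp only [← hr', map_smul, ← hs', ← ht', smul_smul]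
  ring_nf

namespace Ctx

variable (C : Ctx Q ρ ψ) {K : Submodule ℂ W} {u : V}

include C

theorem killed_add (hu : Q u = 0) {y y' : V} (h : y ∈ killed Q ρ K u) (h' : y' ∈ killed Q ρ K u) :
    y + y' ∈ killed Q ρ K u := by
  refine ⟨by rw [b_add_right, h.1, h'.1, add_zero], fun x hx => ?_⟩
  rw [tr_add C.good hu h.1 h'.1]
  exact fix_mul (h.2 x hx) (h'.2 x hx)

/-- An element normalising K and the root group gives trivial labels. -/
theorem killed_move (hK : finrank ℂ K ≤ 1) (hu : Q u = 0) {y : V} (hy : polar Q u y = 0) (h : omg Q) {c : F}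
    (hc : c ≠ 0) (hhu : app h u = c • u) (hhK : ∀ x ∈ K, ρ h x ∈ K) (htK : ∀ x ∈ K, ρ (tr Q u y) x ∈ K) :
    c • app h y - y ∈ killed Q ρ K u := by
  have hy' : polar Q u (c • app h y) = 0 := by
    rw [b_smul_right, ← mul_zero c]
    congr 1
    have h1 := b_app h u y
    rw [hy, hhu, b_smul_left] at h1
    exact (mul_eq_zero.1 h1).resolve_left hc
  have hd : polar Q u (c • app h y - y) = 0 := by rw [b_sub_right, hy', hy, sub_zero]
  refine ⟨hd, fun x hx => ?_⟩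
  have h1 := tr_conj C.good h hu hy
  rw [hhu, tr_scale C.good c hu ((mul_eq_zero.1 (by rw [← b_smul_right]; exact hy')).resolve_left hc)] at h1
  have hinvK : ∀ x ∈ K, ρ h⁻¹ x ∈ K := fun x hx => by
    obtain ⟨⟨z, hz⟩, hzx⟩ := (LinearMap.injective_iff_surjective (f := (ρ h).restrict hhK)).1
      (fun a b hab => Subtype.ext (rho_inj h (congrArg Subtype.val hab))) ⟨x, hx⟩
    have h2 : ρ h z = x := congrArg Subtype.val hzx
    rwa [← h2, rho_inv_apply]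
  have h2 : ρ (tr Q u (c • app h y)) x = ρ (tr Q u y) x := by
    rw [← h1, rho_mul, rho_mul, comm_of_le_one hK (ρ h) (ρ (tr Q u y)) hhK htK (hinvK x hx), rho_apply_inv]
  have hny : polar Q u (-y) = 0 := by rw [← neg_one_smul F y, b_smul_right, hy, mul_zero]
  rw [show c • app h y - y = -y + c • app h y by abel, tr_add C.good hu hny hy', tr_neg C.good hu hy, rho_mul,
    h2, rho_inv_apply]

/-- A pair inside a space of movers kills the whole space. -/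
theorem killed_trick (hK : finrank ℂ K ≤ 1) (hu : Q u = 0) {X : Submodule F V}
    (hXu : ∀ y ∈ X, polar Q u y = 0) (hXK : ∀ y ∈ X, ∀ x ∈ K, ρ (tr Q u y) x ∈ K)
    (hTK : ∀ a ∈ X, ∀ b ∈ X, Q a = 0 → polar Q a b = 0 → ∀ x ∈ K, ρ (tr Q a b) x ∈ K)
    {a b y₀ y₁ : V} (p : IsPair Q a b) (ha : a ∈ X) (hb : b ∈ X) (h0 : y₀ ∈ X) (h1 : y₁ ∈ X)
    (h0' : y₀ ∈ pperp Q a b) (h1' : y₁ ∈ pperp Q a b) (hB : polar Q y₀ y₁ ≠ 0) :
    ∀ x ∈ X, x ∈ killed Q ρ K u := by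
  have step : ∀ a₁ ∈ X, ∀ y ∈ X, ∀ x ∈ X, Q a₁ = 0 → polar Q a₁ y = 0 →
      app (tr Q a₁ y) x - x ∈ killed Q ρ K u := by
    intro a₁ ha₁ y hy x hx qa hay
    have h := C.killed_move hK hu (hXu x hx) (tr Q a₁ y) (c := 1) one_ne_zero (by
      rw [one_smul, tr_fix C.good qa hay (hXu a₁ ha₁) (hXu y hy)]) (hTK a₁ ha₁ y hy qa hay) (hXK x hx)
    rwa [one_smul] at h
  have hline : ∀ {a b : V}, IsPair Q a b → a ∈ X → y₀ ∈ pperp Q a b → y₁ ∈ pperp Q a b →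
      ∀ t : F, t • a ∈ killed Q ρ K u := by
    intro a b p ha h0' h1' t
    obtain ⟨r, hr⟩ : ∃ r, -(t / polar Q y₀ y₁) = r := ⟨_, rfl⟩
    have hay : polar Q a (r • y₁) = 0 := by rw [b_smul_right, (mem_pperp.1 h1').1, mul_zero]
    have h := step a ha (r • y₁) (X.smul_mem _ h1) y₀ h0 p.qe hay
    rw [tr_apply C.good p.qe hay, b_comm y₀ a, (mem_pperp.1 h0').1, b_smul_right, ← hr, neg_mul,
      div_mul_cancel₀ _ hB] at h
    simpa using h
  have hA := hline p ha h0' h1'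
  have hBb := hline p.symm hb (mem_pperp.2 (mem_pperp.1 h0').symm) (mem_pperp.2 (mem_pperp.1 h1').symm)
  intro x hx
  obtain ⟨y, hy⟩ : ∃ y, x - polar Q x b • a - polar Q x a • b = y := ⟨_, rfl⟩
  have hyX : y ∈ X := hy ▸ X.sub_mem (X.sub_mem hx (X.smul_mem _ ha)) (X.smul_mem _ hb)
  have hyp : y ∈ pperp Q a b := hy ▸ pperp_part p x
  have h2 := step a ha y hyX b hb p.qe (mem_pperp.1 hyp).1
  rw [tr_apply C.good p.qe (mem_pperp.1 hyp).1, p.de, (mem_pperp.1 hyp).2] at h2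
  have hyk : y ∈ killed Q ρ K u := by
    have h3 := C.killed_add hu h2 (hA (Q y))
    convert h3 using 1
    module
  have h4 := C.killed_add hu (C.killed_add hu (hA (polar Q x b)) (hBb (polar Q x a))) hyk
  convert h4 using 1
  rw [← hy]; abel

variable {e d f g : V} (H : Frame Q e d f g)

include H

theorem line_stable {a : F} {y : V} (hy : y ∈ Z4 Q e d f g) {x : W} (hx : x ∈ E Q ρ ψ e (a • f)) :
    ρ (tr Q f y) x ∈ E Q ρ ψ e (a • f) :=
  C.E_stable H.p.qe (tr_fix C.good H.p'.qe (H.zf hy) H.ef (H.ze hy)) (by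
    rw [tr_fix C.good H.p'.qe (H.zf hy) (by rw [b_smul_left, H.p'.ee, mul_zero])
      (by rw [b_smul_left, H.zf hy, mul_zero]), sub_self]
    exact Submodule.zero_mem _) hx

theorem at_stable {z y : V} (hz : z ∈ Z4 Q e d f g) (hy : y ∈ Z4 Q e d f g) (hzy : polar Q z y = 0) {x : W}
    (hx : x ∈ E Q ρ ψ f z) : ρ (tr Q e y) x ∈ E Q ρ ψ f z :=
  C.E_stable H.p'.qe (tr_fix C.good H.p.qe (H.ze hy) H.fe (H.zf hy)) (by
    rw [tr_fix C.good H.p.qe (H.ze hy) (by rw [b_comm, H.ze hz]) hzy, sub_self]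
    exact Submodule.zero_mem _) hx

theorem lamLine_scale (hq : 4 ≤ Fintype.card F) (hm : ∀ a : F, a ≠ 0 → finrank ℂ (E Q ρ ψ e (a • f)) ≤ 1) :
    LamLine Q ρ ψ e d f g := by
  intro a ha y hy x hx
  obtain ⟨s, hs, hs1⟩ := exists_sq_ne_one hq
  obtain ⟨h₁, e1, -, f1⟩ := scale_mem C.good H.p hs
  obtain ⟨h₂, e2, -, f2⟩ := scale_mem C.good H.p' hs
  have hc : s * s ≠ 0 := mul_ne_zero hs hs
  obtain ⟨c, hcdef⟩ : ∃ c, s * s = c := ⟨_, rfl⟩
  rw [hcdef] at e1 e2 hc hs1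
  have he : app (h₁ * h₂) e = c • e := by rw [app_mul, f2 e H.symm.hf, e1]
  have hf : app (h₁ * h₂) f = c • f := by
    rw [app_mul, e2, show app h₁ (c • f) = c • app h₁ f from map_smul _ _ _, f1 f H.hf]
  have hz : ∀ v ∈ Z4 Q e d f g, app (h₁ * h₂) v = v := fun v hv => by rw [app_mul, f2 v hv.2, f1 v hv.1]
  obtain ⟨v, hv⟩ : ∃ v, (c - 1)⁻¹ • y = v := ⟨_, rfl⟩
  have hvZ : v ∈ Z4 Q e d f g := hv ▸ Submodule.smul_mem _ _ hy
  have h := C.killed_move (K := E Q ρ ψ e (a • f)) (hm a ha) H.p'.qe (H.zf hvZ) (h₁ * h₂) hc hf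
    (fun x hx => by
      have h1 := (C.E_map H.p.qe (h₁ * h₂)).2 hx
      rw [he, show app (h₁ * h₂) (a • f) = a • app (h₁ * h₂) f from map_smul _ _ _, hf, smul_comm,
        C.E_scale H.p.qe hc] at h1
      exact h1)
    (fun x hx => C.line_stable H hvZ hx)
  rw [hz v hvZ, show c • v - v = (c - 1) • v by rw [sub_smul, one_smul], ← hv, smul_smul,
    mul_inv_cancel₀ (sub_ne_zero.2 hs1), one_smul] at h
  exact h.2 x hx

theorem lamAt_scale (hq : 4 ≤ Fintype.card F) {z : V} (hz : z ∈ Z4 Q e d f g)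
    (hm : finrank ℂ (E Q ρ ψ f z) ≤ 1) : LamAt Q ρ ψ e d f g z := by
  intro y hy hzy x hx
  obtain ⟨s, hs, hs1⟩ := exists_sq_ne_one hq
  obtain ⟨h, e1, -, f1⟩ := scale_mem C.good H.p hs
  have hc : s * s ≠ 0 := mul_ne_zero hs hs
  obtain ⟨v, hv⟩ : ∃ v, (s * s - 1)⁻¹ • y = v := ⟨_, rfl⟩
  have hvZ : v ∈ Z4 Q e d f g := hv ▸ Submodule.smul_mem _ _ hy
  have hzv : polar Q z v = 0 := by rw [← hv, b_smul_right, hzy, mul_zero]
  have h2 := C.killed_move (K := E Q ρ ψ f z) hm H.p.qe (H.ze hvZ) h hc e1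
    (fun x hx => C.E_stable H.p'.qe (f1 f H.hf) (by rw [f1 z hz.1, sub_self]; exact Submodule.zero_mem _) hx)
    (fun x hx => C.at_stable H hz hvZ hzv hx)
  rw [f1 v hvZ.1, show (s * s) • v - v = (s * s - 1) • v by rw [sub_smul, one_smul], ← hv, smul_smul,
    mul_inv_cancel₀ (sub_ne_zero.2 hs1), one_smul] at h2
  exact h2.2 x hx

theorem lamLine_trick (hd : 4 ≤ finrank F (Z4 Q e d f g))
    (hm : ∀ a : F, a ≠ 0 → finrank ℂ (E Q ρ ψ e (a • f)) ≤ 1) : LamLine Q ρ ψ e d f g := by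
  intro a ha y hy x hx
  obtain ⟨a', b', y₀, y₁, p, h0, h1, hB⟩ := exists_trick (nondeg_restr (C.z4_nondeg H)) hd
  obtain ⟨k0, k0'⟩ := mem_pperp.1 h0
  obtain ⟨k1, k1'⟩ := mem_pperp.1 h1
  refine (C.killed_trick (K := E Q ρ ψ e (a • f)) (hm a ha) H.p'.qe (X := Z4 Q e d f g) (fun v hv => H.zf hv)
    (fun v hv x hx => C.line_stable H hv hx) (fun u hu v hv qu huv x hx => ?_)
    (a := a') (b := b') ⟨p.qe, p.qd, p.ed⟩ a'.2 b'.2 y₀.2 y₁.2
    (mem_pperp.2 ⟨k0, k0'⟩) (mem_pperp.2 ⟨k1, k1'⟩) hB y hy).2 x hx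
  refine C.E_stable H.p.qe (tr_fix C.good qu huv (H.ze hu) (H.ze hv)) ?_ hx
  rw [tr_fix C.good qu huv (by rw [b_smul_left, H.zf hu, mul_zero]) (by rw [b_smul_left, H.zf hv, mul_zero]),
    sub_self]
  exact Submodule.zero_mem _

theorem lamAt_trick (hd : 6 ≤ finrank F (Z4 Q e d f g)) {z : V} (hz : z ∈ Z4 Q e d f g)
    (hm : finrank ℂ (E Q ρ ψ f z) ≤ 1) : LamAt Q ρ ψ e d f g z := by
  intro y hy hzy x hx
  have hnd := nondeg_restr (C.z4_nondeg H)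
  obtain ⟨P, hzP, hP2, hP⟩ := exists_hull hnd ⟨z, hz⟩
  have hfr := finrank_perp hP
  obtain ⟨a', b', y₀, y₁, p, h0, h1, hB⟩ := exists_trick (nondeg_restr (perp_nondeg hnd hP)) (by omega)
  obtain ⟨k0, k0'⟩ := mem_pperp.1 h0
  obtain ⟨k1, k1'⟩ := mem_pperp.1 h1
  let X : Submodule F V := Z4 Q e d f g ⊓ LinearMap.ker (polarBilin Q z)
  have hmem : ∀ w : perp (restr Q (Z4 Q e d f g)) P, ((w : Z4 Q e d f g) : V) ∈ X := fun w =>
    ⟨(w : Z4 Q e d f g).2, w.2 ⟨z, hz⟩ hzP⟩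
  refine (C.killed_trick (K := E Q ρ ψ f z) hm H.p.qe (X := X) (fun v hv => H.ze hv.1)
    (fun v hv x hx => C.at_stable H hz hv.1 hv.2 hx) (fun u hu v hv qu huv x hx => ?_)
    (a := ((a' : Z4 Q e d f g) : V)) (b := ((b' : Z4 Q e d f g) : V)) ⟨p.qe, p.qd, p.ed⟩ (hmem a') (hmem b')
    (hmem y₀) (hmem y₁) (mem_pperp.2 ⟨k0, k0'⟩) (mem_pperp.2 ⟨k1, k1'⟩) hB y ⟨hy, hzy⟩).2 x hx
  refine C.E_stable H.p'.qe (tr_fix C.good qu huv (H.zf hu.1) (H.zf hv.1)) ?_ hx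
  rw [tr_fix C.good qu huv hu.2 hv.2, sub_self]
  exact Submodule.zero_mem _

/-- The case of an anisotropic plane next to a singular label. -/
theorem lamAt_plane {z z' : V} (hz : z ∈ Z4 Q e d f g) (hz' : z' ∈ Z4 Q e d f g) (p : IsPair Q z z')
    (hd : finrank F (Z4 Q e d f g) = 4)
    (han : ∀ v ∈ Z4 Q e d f g ⊓ pperp Q z z', Q v = 0 → v = 0)
    (hm : finrank ℂ (E Q ρ ψ f z) ≤ 1) : LamAt Q ρ ψ e d f g z := by
  intro y hy hzy x hx
  obtain ⟨R, hR⟩ : ∃ R, Z4 Q e d f g ⊓ pperp Q z z' = R := ⟨_, rfl⟩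
  rw [hR] at han
  have hRnd : ∀ a ∈ R, (∀ b ∈ R, polar Q a b = 0) → a = 0 := by
    rw [← hR]
    intro a ha hab
    refine C.z4_nondeg H a ha.1 fun b hb => ?_
    have h1 := hab _ ⟨Submodule.sub_mem _ (Submodule.sub_mem _ hb (Submodule.smul_mem _ _ hz))
      (Submodule.smul_mem _ _ hz'), pperp_part p b⟩
    rwa [b_sub_right, b_sub_right, b_smul_right, b_smul_right, b_comm a z, b_comm a z', (mem_pperp.1 ha.2).1,
      (mem_pperp.1 ha.2).2, mul_zero, mul_zero, sub_zero, sub_zero] at h1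
  have hR2 : finrank F R = 2 := by
    have pZ : IsPair (restr Q (Z4 Q e d f g)) ⟨z, hz⟩ ⟨z', hz'⟩ := ⟨p.qe, p.qd, p.ed⟩
    have h1 := finrank_pperp pZ
    have h2 : finrank F (pperp (restr Q (Z4 Q e d f g)) ⟨z, hz⟩ ⟨z', hz'⟩) = finrank F R := by
      refine LinearEquiv.finrank_eq
        ((Submodule.equivMapOfInjective _ (Z4 Q e d f g).injective_subtype _).trans (LinearEquiv.ofEq _ _ ?_))
      rw [← hR]
      ext v
      constructor
      · rintro ⟨v, hv, rfl⟩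
        obtain ⟨k1, k2⟩ := mem_pperp.1 hv
        exact ⟨v.2, mem_pperp.2 ⟨k1, k2⟩⟩
      · rintro ⟨hv, hv'⟩
        obtain ⟨k1, k2⟩ := mem_pperp.1 hv'
        exact ⟨⟨v, hv⟩, mem_pperp.2 ⟨k1, k2⟩, rfl⟩
    omega
  have hzR : ∀ v ∈ R, polar Q z v = 0 := fun v hv => (mem_pperp.1 (hR.symm ▸ hv : v ∈ _ ⊓ pperp Q z z').2).1
  have hRZ : ∀ v ∈ R, v ∈ Z4 Q e d f g := fun v hv => (hR.symm ▸ hv : v ∈ _ ⊓ pperp Q z z').1
  obtain ⟨r₀, r₁, hr₀, hr₁, hB⟩ : ∃ r₀ r₁, r₀ ∈ R ∧ r₁ ∈ R ∧ polar Q r₀ r₁ ≠ 0 := by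
    obtain ⟨a, ha, ha0⟩ := R.ne_bot_iff.1 (fun h => by rw [h, finrank_bot] at hR2; omega)
    by_contra! hall
    exact ha0 (hRnd a ha fun b hb => hall a b ha hb)
  have hkz : ∀ t : F, t • z ∈ killed Q ρ (E Q ρ ψ f z) e := by
    intro t
    obtain ⟨r, hr⟩ : ∃ r, -(t / polar Q r₀ r₁) = r := ⟨_, rfl⟩
    have hzr : polar Q z (r • r₁) = 0 := by rw [b_smul_right, hzR _ hr₁, mul_zero]
    have hrZ := Submodule.smul_mem _ r (hRZ r₁ hr₁)
    have h := C.killed_move (K := E Q ρ ψ f z) hm H.p.qe (H.ze (hRZ r₀ hr₀)) (tr Q z (r • r₁)) (c := 1)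
      one_ne_zero (by rw [one_smul, tr_fix C.good p.qe hzr (H.ze hz) (H.ze hrZ)])
      (fun x hx => C.E_stable H.p'.qe (tr_fix C.good p.qe hzr (H.zf hz) (H.zf hrZ)) (by
        rw [tr_fix C.good p.qe hzr p.ee hzr, sub_self]; exact Submodule.zero_mem _) hx)
      (fun x hx => C.at_stable H hz (hRZ r₀ hr₀) (hzR r₀ hr₀) hx)
    rw [one_smul, tr_apply C.good p.qe hzr, b_comm r₀ z, hzR r₀ hr₀, b_smul_right, ← hr, neg_mul,
      div_mul_cancel₀ _ hB] at h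
    simpa using h
  obtain ⟨h, hfixR, hRR, hinj⟩ := exists_rot C.good.nd hR2 hRnd han
  have hkR : ∀ v ∈ R, v ∈ killed Q ρ (E Q ρ ψ f z) e := by
    intro v hv
    let D : R →ₗ[F] R := ((h.1.1 : V →ₗ[F] V).restrict hRR) - LinearMap.id
    obtain ⟨⟨w, hw⟩, hwv⟩ := (LinearMap.injective_iff_surjective (f := D)).1 (by
      rw [← LinearMap.ker_eq_bot, LinearMap.ker_eq_bot']
      exact fun w hw => Subtype.ext (hinj w w.2 (sub_eq_zero.1 (congrArg Subtype.val hw)))) ⟨v, hv⟩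
    have hwv' : app h w - w = v := congrArg Subtype.val hwv
    have hperp : ∀ {u : V}, (∀ r ∈ R, polar Q u r = 0) → app h u = u := fun {u} hu =>
      hfixR u fun b hb => by rw [b_comm, hu b hb]
    have h2 := C.killed_move (K := E Q ρ ψ f z) hm H.p.qe (H.ze (hRZ w hw)) h (c := 1) one_ne_zero
      (by rw [one_smul]; exact hperp fun r hr => H.ze (hRZ r hr))
      (fun x hx => C.E_stable H.p'.qe (hperp fun r hr => H.zf (hRZ r hr))
        (by rw [hperp hzR, sub_self]; exact Submodule.zero_mem _) hx)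
      (fun x hx => C.at_stable H hz (hRZ w hw) (hzR w hw) hx)
    rwa [one_smul, hwv'] at h2
  obtain ⟨r, hr⟩ : ∃ r, y - polar Q y z' • z = r := ⟨_, rfl⟩
  have hrR : r ∈ R := by
    rw [← hR, ← hr]
    refine ⟨Submodule.sub_mem _ hy (Submodule.smul_mem _ _ hz), ?_⟩
    have h1 := pperp_part p y
    rwa [b_comm y z, hzy, zero_smul, sub_zero] at h1
  rw [show y = polar Q y z' • z + r by rw [← hr]; abel]
  exact (C.killed_add H.p.qe (hkz _) (hkR r hrR)).2 x hx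

end Ctx

end Cfsg.Agent.OrthDeg
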