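/-
Invariant subspaces of unitary representations: restriction, reduction to irreducibles, scalars.
-/
import Cfsg.Agent.Lib.OrthDeg.Unitary
import Mathlib.LinearAlgebra.Eigenspace.Triangularizable
import Mathlib.Analysis.Complex.Polynomial.Basic

set_option autoImplicit false

namespace Cfsg.Agent.OrthDeg

open Module
open scoped InnerProductSpace

variable {G : Type*} [Group G] {W : Type*} [NormedAddCommGroup W] [InnerProductSpace ℂ W]
  {ρ : G →* (W →ₗ[ℂ] W)}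

/-- The representation on a stable subspace. -/
def resRep (ρ : G →* (W →ₗ[ℂ] W)) {H : Type*} [Group H] (φ : H →* G) (K : Submodule ℂ W)
    (hK : ∀ h, ∀ x ∈ K, ρ (φ h) x ∈ K) : H →* (K →ₗ[ℂ] K) where
  toFun h := (ρ (φ h)).restrict (hK h)
  map_one' := LinearMap.ext fun x => Subtype.ext (by show ρ (φ 1) (x : W) = x; rw [map_one, rho_one])
  map_mul' a b := LinearMap.ext fun x => Subtype.ext (by
    show ρ (φ (a * b)) (x : W) = ρ (φ a) (ρ (φ b) (x : W)); rw [map_mul, rho_mul])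

theorem resRep_apply {H : Type*} [Group H] (φ : H →* G) (K : Submodule ℂ W)
    (hK : ∀ h, ∀ x ∈ K, ρ (φ h) x ∈ K) (h : H) (x : K) : ((resRep ρ φ K hK h x : K) : W) = ρ (φ h) x := rfl

theorem IsUnitary.resRep (hu : IsUnitary ρ) {H : Type*} [Group H] (φ : H →* G) (K : Submodule ℂ W)
    (hK : ∀ h, ∀ x ∈ K, ρ (φ h) x ∈ K) : IsUnitary (OrthDeg.resRep ρ φ K hK) := fun h x y => by
  rw [Submodule.coe_inner, Submodule.coe_inner]
  exact hu (φ h) x y

/-- No proper invariant subspace. -/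
def Irred (ρ : G →* (W →ₗ[ℂ] W)) : Prop :=
  ∀ K : Submodule ℂ W, (∀ g, ∀ x ∈ K, ρ g x ∈ K) → K = ⊥ ∨ K = ⊤

variable [FiniteDimensional ℂ W]

/-- An invariant subspace and its complement: one of them is moved. -/
theorem moved_or_perp_moved (hu : IsUnitary ρ) {M K : Submodule ℂ W} (hKM : K ≤ M) {H : Type*} [Group H]
    (φ : H →* G) (hM : ∀ h, ∀ x ∈ M, ρ (φ h) x ∈ M) (hK : ∀ h, ∀ x ∈ K, ρ (φ h) x ∈ K)
    (hne : ∃ h, ∃ x ∈ M, ρ (φ h) x ≠ x) :
    (∃ h, ∃ x ∈ K, ρ (φ h) x ≠ x) ∨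
      ((∀ h, ∀ x ∈ Kᗮ ⊓ M, ρ (φ h) x ∈ Kᗮ ⊓ M) ∧ ∃ h, ∃ x ∈ Kᗮ ⊓ M, ρ (φ h) x ≠ x) := by
  by_cases h1 : ∃ h, ∃ x ∈ K, ρ (φ h) x ≠ x
  · exact Or.inl h1
  push Not at h1
  refine Or.inr ⟨fun h x hx => ⟨hu.perp_invariant (fun y hy => by rw [← map_inv]; exact hK h⁻¹ y hy) hx.1,
    hM h x hx.2⟩, ?_⟩
  obtain ⟨h, x, hx, hne⟩ := hne
  by_contra! h2
  apply hne
  have hp := K.starProjection_apply_mem x
  have hq : x - K.starProjection x ∈ Kᗮ ⊓ M :=
    ⟨K.sub_starProjection_mem_orthogonal x, M.sub_mem hx (hKM hp)⟩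
  conv_lhs => rw [show x = K.starProjection x + (x - K.starProjection x) by abel, map_add, h1 h _ hp, h2 h _ hq]
  abel

/-- An operator commuting with an action without proper invariant subspaces is a scalar. -/
theorem schur_on {H : Type*} [Group H] (φ : H →* G) {K : Submodule ℂ W}
    (hirr : ∀ L ≤ K, (∀ h, ∀ x ∈ L, ρ (φ h) x ∈ L) → L = ⊥ ∨ L = K)
    (hK : ∀ h, ∀ x ∈ K, ρ (φ h) x ∈ K) (T : W →ₗ[ℂ] W) (hT : ∀ x ∈ K, T x ∈ K)
    (hcomm : ∀ h, ∀ x ∈ K, T (ρ (φ h) x) = ρ (φ h) (T x)) : ∃ c : ℂ, ∀ x ∈ K, T x = c • x := by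
  rcases eq_or_ne K ⊥ with rfl | h0
  · exact ⟨0, fun x hx => by rw [(Submodule.mem_bot ℂ).1 hx, map_zero, smul_zero]⟩
  haveI : Nontrivial K := Submodule.nontrivial_iff_ne_bot.2 h0
  obtain ⟨c, hc⟩ := Module.End.exists_eigenvalue (T.restrict hT)
  obtain ⟨v, hv⟩ := hc.exists_hasEigenvector
  let L : Submodule ℂ W :=
    { carrier := {x | x ∈ K ∧ T x = c • x}
      add_mem' := fun {a b} ha hb => ⟨K.add_mem ha.1 hb.1, by rw [map_add, ha.2, hb.2, smul_add]⟩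
      zero_mem' := ⟨K.zero_mem, by rw [map_zero, smul_zero]⟩
      smul_mem' := fun r a ha => ⟨K.smul_mem r ha.1, by rw [map_smul, ha.2, smul_comm]⟩ }
  have hL : L = K := by
    refine (hirr L (fun x hx => hx.1) fun h x hx => ⟨hK h x hx.1, ?_⟩).resolve_left fun h => hv.2 (Subtype.ext ?_)
    · rw [hcomm h x hx.1, hx.2, map_smul]
    · have : (v : W) ∈ L := ⟨v.2, congrArg Subtype.val hv.apply_eq_smul⟩
      rw [h, Submodule.mem_bot] at this
      exact this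
  exact ⟨c, fun x hx => (hL.symm ▸ hx : x ∈ L).2⟩

omit [FiniteDimensional ℂ W] in
/-- A lower bound on irreducible nontrivial representations bounds all nontrivial ones. -/
theorem le_of_irred.{w} {H : Type*} [Group H] (n : ℕ)
    (hirr : ∀ (W : Type w) [NormedAddCommGroup W] [InnerProductSpace ℂ W] [FiniteDimensional ℂ W]
      (ρ : H →* (W →ₗ[ℂ] W)), IsUnitary ρ → Irred ρ → (∃ g x, ρ g x ≠ x) → n ≤ finrank ℂ W) :
    ∀ (k : ℕ) (W : Type w) [NormedAddCommGroup W] [InnerProductSpace ℂ W] [FiniteDimensional ℂ W]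
      (ρ : H →* (W →ₗ[ℂ] W)), finrank ℂ W = k → IsUnitary ρ → (∃ g x, ρ g x ≠ x) → n ≤ k := by
  intro k
  induction k using Nat.strong_induction_on with
  | _ k ih =>
    intro W _ _ _ ρ hk hu hne
    by_cases h : Irred ρ
    · exact hk ▸ hirr W ρ hu h hne
    simp only [Irred, not_forall, not_or] at h
    obtain ⟨K, hK, hb, ht⟩ := h
    have hlt : finrank ℂ K < k := hk ▸ Submodule.finrank_lt ht
    have hsum := Submodule.finrank_add_finrank_orthogonal K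
    have hpos : 0 < finrank ℂ K := Nat.pos_of_ne_zero fun h => hb (Submodule.finrank_eq_zero.1 h)
    obtain ⟨g, x, hgx⟩ := hne
    rcases moved_or_perp_moved hu (M := ⊤) le_top (MonoidHom.id H) (fun _ _ _ => Submodule.mem_top) hK
      ⟨g, x, Submodule.mem_top, hgx⟩ with ⟨g', y, hy, hne'⟩ | ⟨hinv, g', y, hy, hne'⟩
    · exact (ih _ hlt K (resRep ρ (MonoidHom.id H) K hK) rfl (hu.resRep _ K hK)
        ⟨g', ⟨y, hy⟩, fun h => hne' (congrArg Subtype.val h)⟩).trans hlt.le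
    · have hinv' : ∀ g, ∀ x ∈ Kᗮ, ρ g x ∈ Kᗮ := fun g x hx => (hinv g x ⟨hx, Submodule.mem_top⟩).1
      have hlt' : finrank ℂ Kᗮ < k := by omega
      exact (ih _ hlt' Kᗮ (resRep ρ (MonoidHom.id H) Kᗮ hinv') rfl (hu.resRep _ Kᗮ hinv')
        ⟨g', ⟨y, hy.1⟩, fun h => hne' (congrArg Subtype.val h)⟩).trans hlt'.le

end Cfsg.Agent.OrthDeg
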