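/-
Which characters occur in a representation of small degree.
-/
import Cfsg.Agent.Lib.OrthDeg.Lambda
import Cfsg.Agent.Lib.OrthDeg.Sub
import Cfsg.Agent.Lib.OrthDeg.Arith

set_option autoImplicit false

namespace Cfsg.Agent.OrthDeg

open QuadraticMap Module Cfsg.Agent.Orth
open scoped InnerProductSpace

universe u v

variable {F : Type u} {V : Type v} [Field F] [Fintype F] [AddCommGroup V] [Module F V] [FiniteDimensional F V]
  {Q : QuadraticForm F V}

/-- The parameters covered. -/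
def Cond (q c i : ℕ) : Prop :=
  (c = 0 ∧ 4 ≤ q ∧ 2 ≤ i) ∨ (c = 1 ∧ 5 ≤ q ∧ Odd q ∧ 1 ≤ i) ∨ (c = 2 ∧ 1 ≤ i)

theorem Cond.c_le {q c i : ℕ} (h : Cond q c i) : c ≤ 2 := by unfold Cond at h; omega
theorem Cond.one_le {q c i : ℕ} (h : Cond q c i) : 1 ≤ i := by unfold Cond at h; omega

/-- The degree bound for spaces of a given type. -/
def Low (F : Type u) [Field F] [Fintype F] (c m : ℕ) : Prop :=
  ∀ (V : Type v) [AddCommGroup V] [Module F V] [FiniteDimensional F V] (Q : QuadraticForm F V),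
    (polarBilin Q).Nondegenerate → HasType Q c m →
    ∀ (W : Type) [NormedAddCommGroup W] [InnerProductSpace ℂ W] [FiniteDimensional ℂ W]
      (ρ : omg Q →* (W →ₗ[ℂ] W)), IsUnitary ρ → (∃ g x, ρ g x ≠ x) → mdeg (Nat.card F) c m ≤ finrank ℂ W

omit [FiniteDimensional F V] in
theorem card_sing (Y : Submodule F V) [Fintype Y] {c j : ℕ} (h : HasType (restr Q Y) c j)
    [DecidablePred fun y : Y => y ≠ 0 ∧ Q (y : V) = 0] :
    (Finset.univ.filter fun y : Y => y ≠ 0 ∧ Q (y : V) = 0).card = zc (Nat.card F) c j - 1 := by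
  classical
  have e : (Finset.univ.filter fun y : Y => y ≠ 0 ∧ Q (y : V) = 0) =
      (Finset.univ.filter fun y : Y => Q (y : V) = 0).erase 0 := by
    ext y; simp
  rw [e, Finset.card_erase_of_mem (by simp), ← h.2, Nat.card_eq_fintype_card, Fintype.card_subtype]
  simp only [restr_apply]
  congr! 3

omit [Fintype F] in
/-- An isometry transports types. -/
theorem HasType.congr {V' : Type*} [AddCommGroup V'] [Module F V'] {Q' : QuadraticForm F V'} {c m : ℕ}
    (h : HasType Q c m) (e : V ≃ₗ[F] V') (he : ∀ x, Q' (e x) = Q x) : HasType Q' c m :=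
  ⟨e.finrank_eq ▸ h.1, (Nat.card_congr (zerosCongr e he)).symm.trans h.2⟩

theorem z4_type {c i : ℕ} (hQ : (polarBilin Q).Nondegenerate) (hT : HasType Q c (i + 2)) {e d f g : V}
    (H : Frame Q e d f g) : HasType (restr Q (Z4 Q e d f g)) c i := by
  have hY := hT.restrict H.p
  have pY : IsPair (restr Q (pperp Q e d)) ⟨f, H.hf⟩ ⟨g, H.hg⟩ := ⟨H.p'.qe, H.p'.qd, H.p'.ed⟩
  have hZ := hY.restrict pY
  refine hZ.congr ((Submodule.equivMapOfInjective _ (pperp Q e d).injective_subtype _).trans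
    (LinearEquiv.ofEq _ _ ?_)) (fun x => rfl)
  ext x
  simp only [Submodule.mem_map, Z4, Submodule.mem_inf]
  constructor
  · rintro ⟨y, hy, rfl⟩
    obtain ⟨k1, k2⟩ := mem_pperp.1 hy
    exact ⟨y.2, mem_pperp.2 ⟨k1, k2⟩⟩
  · rintro ⟨hx, hx'⟩
    obtain ⟨k1, k2⟩ := mem_pperp.1 hx'
    exact ⟨⟨x, hx⟩, mem_pperp.2 ⟨k1, k2⟩, rfl⟩

theorem exists_frame (hG : Good Q) (hD : 7 ≤ finrank F V) : ∃ e d f g, Frame Q e d f g := by
  obtain ⟨e, he0, he⟩ := exists_singular hG.nd (by omega)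
  obtain ⟨d, hd, hd0⟩ := exists_partner hG.nd he0 he
  have p : IsPair Q e d := ⟨he, hd0, hd⟩
  obtain ⟨f, g, p', hf, hg, -, -⟩ := exists_pair_avoid hG.nd hD p (w := (0 : V)) (Submodule.zero_mem _)
  exact ⟨e, d, f, g, p, p', hf, hg⟩

variable {W : Type} [NormedAddCommGroup W] [InnerProductSpace ℂ W] [FiniteDimensional ℂ W]
  {ρ : omg Q →* (W →ₗ[ℂ] W)} {ψ : AddChar F ℂ}

/-- What a representation below the bound looks like. -/
structure Small (Q : QuadraticForm F V) (ρ : omg Q →* (W →ₗ[ℂ] W)) (ψ : AddChar F ℂ) (e d f g : V) (c i : ℕ) :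
    Prop where
  sing : ∀ w ∈ pperp Q e d, w ≠ 0 → Q w = 0 → finrank ℂ (E Q ρ ψ e w) = 1
  nons : ∀ w ∈ pperp Q e d, Q w ≠ 0 → E Q ρ ψ e w = ⊥
  line : LamLine Q ρ ψ e d f g
  dim : finrank ℂ W + 1 = finrank ℂ (Fx Q ρ ψ e) + zc (Nat.card F) c (i + 1)
  fx : finrank ℂ (Fx Q ρ ψ e) + 1 = finrank ℂ (KK Q ρ ψ e f) + zc (Nat.card F) c i
  fxle : finrank ℂ (Fx Q ρ ψ e) ≤ mdeg (Nat.card F) c (i + 1)
  moved : ∃ h : omg (restr Q (pperp Q e d)), ∃ x ∈ Fx Q ρ ψ e, (∀ p : IsPair Q e d, ρ (extW p h) x ≠ x)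

namespace Ctx

variable (C : Ctx Q ρ ψ) {e d : V} (p : IsPair Q e d)

include C

theorem extW_stable (g : omg (restr Q (pperp Q e d))) {x : W} (hx : x ∈ Fx Q ρ ψ e) :
    ρ (extW p g) x ∈ Fx Q ρ ψ e :=
  C.E_stable p.qe (extW_e p g)
    (by rw [show app (extW p g) (0 : V) = 0 from map_zero _, sub_zero]; exact Submodule.zero_mem _) hx

/-- The embedded group moves the fixed space once a core character occurs there. -/
theorem moved_of_Kz {f g : V} (H : Frame Q e d f g) {z : V} (hz : z ∈ Z4 Q e d f g) (hz0 : z ≠ 0)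
    (hne : eigS ρ (fun y : Z4 Q e d f g => tr Q f (y : V)) (Fx Q ρ ψ e) (fun y => ψ (polar Q z (y : V))) ≠ ⊥) :
    ∃ h : omg (restr Q (pperp Q e d)), ∃ x ∈ Fx Q ρ ψ e, ρ (extW p h) x ≠ x := by
  obtain ⟨x, hx, hx0⟩ := (Submodule.ne_bot_iff _).1 hne
  obtain ⟨y, hy, hy1⟩ : ∃ y ∈ Z4 Q e d f g, ψ (polar Q z y) ≠ 1 := by
    by_contra! hall
    refine hz0 (C.z4_nondeg H z hz fun b hb => psi_eq_zero C.psi fun t => ?_)
    rw [mul_comm, ← b_smul_right]
    exact hall _ (Submodule.smul_mem _ _ hb)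
  have h1 := finrank_pperp p
  have h7 := C.dim7
  have hGY : Good (restr Q (pperp Q e d)) := ⟨pperp_nondeg C.good.nd p, by omega⟩
  refine ⟨tr (restr Q (pperp Q e d)) ⟨f, H.hf⟩ ⟨y, hy.1⟩, x, hx.1, ?_⟩
  rw [extW_tr C.good p hGY H.p'.qe (H.zf hy)]
  intro h
  rw [hx.2 ⟨y, hy⟩] at h
  exact hy1 (smul_left_injective ℂ hx0 (by simpa using h))

theorem low_Fx {c j : ℕ} (hT : HasType Q c (j + 1)) (hlow : Low.{u, v} F c j)
    (hmv : ∃ h : omg (restr Q (pperp Q e d)), ∃ x ∈ Fx Q ρ ψ e, ρ (extW p h) x ≠ x) {K : Submodule ℂ W}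
    (hK : ∀ h, ∀ x ∈ K, ρ (extW p h) x ∈ K) (hmK : ∃ h, ∃ x ∈ K, ρ (extW p h) x ≠ x) :
    mdeg (Nat.card F) c j ≤ finrank ℂ K := by
  obtain ⟨h, x, hx, hne⟩ := hmK
  exact hlow (pperp Q e d) (restr Q (pperp Q e d)) (pperp_nondeg C.good.nd p) (hT.restrict p) K
    (resRep ρ (extW p) K hK) (C.unit.resRep _ K hK) ⟨h, ⟨x, hx⟩, fun hh => hne (congrArg Subtype.val hh)⟩

variable {c i : ℕ}

include p in
theorem finrank_level {t : F} (ht : t ≠ 0) (hc : c ≤ 2) (hY : HasType (restr Q (pperp Q e d)) c (i + 1))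
    [Fintype (pperp Q e d)] [DecidableEq F] :
    (Nat.card F : ℤ) ^ (2 * (i + 1) + c) + levelErr (Nat.card F) c (i + 1) ≤
      Nat.card F * (Finset.univ.filter fun y : pperp Q e d => Q (y : V) = t).card := by
  have h1 := level_bound (i + 1) (pperp_nondeg C.good.nd p) hc hY ht
  have e : Nat.card {v // restr Q (pperp Q e d) v = t} =
      (Finset.univ.filter fun y : pperp Q e d => Q (y : V) = t).card := by
    rw [Nat.card_eq_fintype_card, Fintype.card_subtype]
    congr! 2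
  rwa [e] at h1

include p in
theorem E_mult (w w' : pperp Q e d) (hw : w ≠ 0) (hw' : w' ≠ 0) {s : F} (hs : s ≠ 0)
    (hq : Q (w : V) = s * s * Q (w' : V)) :
    finrank ℂ (E Q ρ ψ e (w : V)) = finrank ℂ (E Q ρ ψ e (w' : V)) := by
  have hns : ∀ y : pperp Q e d, y ≠ 0 → (y : V) ∉ Submodule.span F {e} := fun y hy h => by
    obtain ⟨t, ht⟩ := Submodule.mem_span_singleton.1 h
    have h1 := (mem_pperp.1 y.2).2
    rw [← ht, b_smul_right, p.de, mul_one] at h1
    exact hy (Subtype.ext (by rw [← ht, h1, zero_smul]; rfl))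
  exact C.finrank_E_eq p.qe p.qe p.ne p.ne (mem_pperp.1 w.2).1 (mem_pperp.1 w'.2).1 (hns w hw) (hns w' hw') hs hq

theorem small {f g : V} (H : Frame Q e d f g) (hcond : Cond (Nat.card F) c i) (hT : HasType Q c (i + 2))
    (hk : finrank ℂ W < mdeg (Nat.card F) c (i + 2)) (hne : ∃ g x, ρ g x ≠ x)
    (hlow : c = 2 → 2 ≤ i → Low.{u, v} F 2 (i + 1)) : Small Q ρ ψ e d f g c i := by
  classical
  haveI : Finite V := Module.finite_of_finite F
  haveI := Fintype.ofFinite (pperp Q e d)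
  haveI := Fintype.ofFinite (Z4 Q e d f g)
  obtain ⟨q, hqdef⟩ : ∃ q, Nat.card F = q := ⟨_, rfl⟩
  have hq2 : 2 ≤ q := hqdef ▸ Finite.one_lt_card
  have hY := hT.restrict H.p
  have hZ := z4_type C.good.nd hT H
  let m : pperp Q e d → ℕ := fun w => finrank ℂ (E Q ρ ψ e (w : V))
  have hsum : finrank ℂ W = finrank ℂ (Fx Q ρ ψ e) + ∑ w ∈ Finset.univ.erase (0 : pperp Q e d), m w := by
    rw [(C.decomp_top H.p).2, ← Finset.add_sum_erase _ _ (Finset.mem_univ (0 : pperp Q e d))]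
    rfl
  -- the singular class
  have hsS := card_sing (pperp Q e d) hY
  obtain ⟨S, hS⟩ : ∃ S, (Finset.univ.filter fun y : pperp Q e d => y ≠ 0 ∧ Q (y : V) = 0) = S := ⟨_, rfl⟩
  rw [hS, hqdef] at hsS
  have hSsub : S ⊆ Finset.univ.erase (0 : pperp Q e d) := fun w hw => by
    rw [← hS] at hw; simp at hw; simp [hw.1]
  obtain ⟨f₀, hf₀def⟩ : ∃ f₀ : pperp Q e d, ⟨f, H.hf⟩ = f₀ := ⟨_, rfl⟩
  have hf₀ : f₀ ≠ 0 := fun h => H.p'.ne (by rw [← hf₀def] at h; exact congrArg Subtype.val h)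
  have hf₀q : Q (f₀ : V) = 0 := by rw [← hf₀def]; exact H.p'.qe
  have hsing : ∀ w ∈ S, m w = m f₀ := fun w hw => by
    rw [← hS, Finset.mem_filter] at hw
    exact C.E_mult H.p w f₀ hw.2.1 hf₀ one_ne_zero (by rw [hw.2.2, hf₀q, mul_zero])
  have hSm : ∑ w ∈ S, m w = (zc q c (i + 1) - 1) * m f₀ := by
    rw [Finset.sum_congr rfl hsing, Finset.sum_const, hsS, smul_eq_mul]
  have hm1 : m f₀ ≤ 1 := by
    have h1 := Finset.sum_le_sum_of_subset (f := m) hSsub
    rw [hSm] at h1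
    have hb := mdeg_le_two_sing q c hq2 (j := i + 1) (by have := hcond.one_le; omega)
    rw [hqdef] at hk
    change finrank ℂ W < mdeg q c (i + 1 + 1) at hk
    by_contra! h2
    have h3 := Nat.mul_le_mul_left (zc q c (i + 1) - 1) h2
    omega
  -- translations between labels at e and at f
  have hEq : ∀ (w : pperp Q e d) (z : V), w ≠ 0 → z ∈ Z4 Q e d f g → z ≠ 0 → Q (w : V) = Q z →
      finrank ℂ (E Q ρ ψ f z) = m w := by
    intro w z hw hz hz0 hq
    refine (C.finrank_E_eq H.p.qe H.p'.qe H.p.ne H.p'.ne (mem_pperp.1 w.2).1 (H.zf hz) ?_ ?_ one_ne_zero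
      (by rw [hq, mul_one, one_mul])).symm
    · intro h
      obtain ⟨t, ht⟩ := Submodule.mem_span_singleton.1 h
      have h1 := (mem_pperp.1 w.2).2
      rw [← ht, b_smul_right, H.p.de, mul_one] at h1
      exact hw (Subtype.ext (by rw [← ht, h1, zero_smul]; rfl))
    · exact H.symm.not_mem_span (z := z) (by rw [Frame.z_comm]; exact hz) hz0
  have hmf : ∀ a : F, a ≠ 0 → finrank ℂ (E Q ρ ψ e (a • f)) ≤ 1 := fun a ha => by
    have haY : a • f ∈ pperp Q e d := Submodule.smul_mem _ _ H.hf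
    have h1 : m ⟨_, haY⟩ = m f₀ :=
      C.E_mult H.p ⟨_, haY⟩ f₀ (fun h => smul_ne_zero ha H.p'.ne (congrArg Subtype.val h)) hf₀ one_ne_zero
        (by show Q (a • f) = _; rw [q_smul, H.p'.qe, hf₀q, mul_zero, mul_zero])
    exact h1.le.trans hm1
  have hZdim := hZ.1
  have hline : LamLine Q ρ ψ e d f g := by
    rcases hcond with ⟨-, hq, -⟩ | ⟨-, hq, -, -⟩ | ⟨rfl, hi⟩
    · exact C.lamLine_scale H (by rw [← Nat.card_eq_fintype_card]; omega) hmf
    · exact C.lamLine_scale H (by rw [← Nat.card_eq_fintype_card]; omega) hmf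
    · exact C.lamLine_trick H (by omega) hmf
  let Kd : Z4 Q e d f g → ℕ := fun z => finrank ℂ (eigS ρ (fun y : Z4 Q e d f g => tr Q f (y : V))
    (Fx Q ρ ψ e) (fun y => ψ (polar Q (z : V) (y : V))))
  -- no nonsingular label
  have hnons : ∀ w : pperp Q e d, Q (w : V) ≠ 0 → m w = 0 := by
    intro w hw
    by_contra hmw
    have hw0 : w ≠ 0 := fun h => hw (by rw [h, Submodule.coe_zero, map_zero])
    obtain ⟨t, ht⟩ : ∃ t, Q (w : V) = t := ⟨_, rfl⟩
    rw [ht] at hw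
    have hL := C.finrank_level H.p hw hcond.c_le hY
    obtain ⟨Lt, hLt⟩ : ∃ Lt, (Finset.univ.filter fun y : pperp Q e d => Q (y : V) = t) = Lt := ⟨_, rfl⟩
    rw [hLt, hqdef] at hL
    have hmem : ∀ {s : F}, s ≠ 0 → ∀ y ∈ (Finset.univ.filter fun y : pperp Q e d => Q (y : V) = s * s * t),
        y ∈ Finset.univ.erase (0 : pperp Q e d) ∧ m y = m w := by
      intro s hs y hy
      rw [Finset.mem_filter] at hy
      have hy0 : y ≠ 0 := fun h => mul_ne_zero (mul_ne_zero hs hs) hw (by rw [← hy.2, h, Submodule.coe_zero, map_zero])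
      exact ⟨by simp [hy0], C.E_mult H.p y w hy0 hw0 hs (by rw [hy.2, ht])⟩
    have hone : ∑ y ∈ Lt, m y = Lt.card * m w ∧ Lt ⊆ Finset.univ.erase (0 : pperp Q e d) := by
      have h1 : ∀ y ∈ Lt, y ∈ Finset.univ.erase (0 : pperp Q e d) ∧ m y = m w := fun y hy =>
        hmem one_ne_zero y (by rw [one_mul, one_mul, hLt]; exact hy)
      exact ⟨by rw [Finset.sum_congr rfl fun y hy => (h1 y hy).2, Finset.sum_const, smul_eq_mul], fun y hy => (h1 y hy).1⟩
    rcases hcond with ⟨hc0, hq, hi⟩ | ⟨hc0, hq, -, hi⟩ | ⟨rfl, hi⟩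
    case inr.inr =>
      rw [hqdef] at hk
      obtain ⟨hz, h2L⟩ := minus_orbit hq2 hL
      have hle := Finset.sum_le_sum_of_subset (f := m) hone.2
      rw [hone.1] at hle
      have hmw1 : m w = 1 := by
        by_contra h1
        have h3 := Nat.mul_le_mul_left Lt.card (show 2 ≤ m w by omega)
        change finrank ℂ W < mdeg q 2 (i + 1 + 1) at hk
        omega
      rw [hmw1, mul_one] at hle
      rcases Nat.lt_or_ge i 2 with hi2 | hi2
      · obtain rfl : i = 1 := by omega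
        have h3 : mdeg q 2 (1 + 2) ≤ Lt.card := minus_base_orbit hq2 hL
        omega
      obtain ⟨z, hzq⟩ := exists_value (nondeg_restr (C.z4_nondeg H)) (by omega) t
      have hzt : Q (z : V) = t := hzq
      have hz0 : (z : V) ≠ 0 := fun h => hw (by rw [← hzt, h, map_zero])
      have hE : finrank ℂ (E Q ρ ψ f (z : V)) = 1 := (hEq w z hw0 z.2 hz0 (ht.trans hzt.symm)).trans hmw1
      have hA := C.lamAt_trick H (by omega) z.2 hE.le
      have hK : eigS ρ (fun y : Z4 Q e d f g => tr Q f (y : V)) (Fx Q ρ ψ e)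
          (fun y => ψ (polar Q (z : V) (y : V))) ≠ ⊥ := fun h => by
        have := C.le_Kz H z.2 hz0 hline hA
        rw [hE, h, finrank_bot] at this
        omega
      have hmv := C.moved_of_Kz H.p H z.2 hz0 hK
      have hd' := C.low_Fx H.p (j := i + 1) hT (hlow rfl hi2) hmv (fun h x hx => C.extW_stable H.p h hx) hmv
      rw [hqdef] at hd'
      rw [mdeg_succ q 2 (by omega) (by omega)] at hk
      omega
    all_goals
      obtain ⟨s, hs, hs1⟩ := exists_sq_ne_one (F := F) (by rw [← Nat.card_eq_fintype_card]; omega)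
      have hst : s * s * t ≠ 0 := mul_ne_zero (mul_ne_zero hs hs) hw
      obtain ⟨Ls, hLs⟩ : ∃ Ls, (Finset.univ.filter fun y : pperp Q e d => Q (y : V) = s * s * t) = Ls := ⟨_, rfl⟩
      have hL2 := C.finrank_level H.p hst (by omega) hY
      rw [hLs, hqdef] at hL2
      have hdisj : Disjoint Lt Ls := by
        rw [← hLt, ← hLs, Finset.disjoint_filter]
        intro y _ h1 h2
        exact hs1 (mul_right_cancel₀ hw (by rw [← h2, h1, one_mul]))
      have hLs' : ∑ y ∈ Ls, m y = Ls.card * m w ∧ Ls ⊆ Finset.univ.erase (0 : pperp Q e d) := by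
        have h1 : ∀ y ∈ Ls, y ∈ Finset.univ.erase (0 : pperp Q e d) ∧ m y = m w := fun y hy =>
          hmem hs y (hLs ▸ hy)
        exact ⟨by rw [Finset.sum_congr rfl fun y hy => (h1 y hy).2, Finset.sum_const, smul_eq_mul],
          fun y hy => (h1 y hy).1⟩
      have hle := Finset.sum_le_sum_of_subset (f := m) (Finset.union_subset hone.2 hLs'.2)
      rw [Finset.sum_union hdisj, hone.1, hLs'.1] at hle
      rw [hqdef] at hk hq
      change finrank ℂ W < mdeg q c (i + 1 + 1) at hk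
      have k1 := Nat.le_mul_of_pos_right Lt.card (show 0 < m w by omega)
      have k2 := Nat.le_mul_of_pos_right Ls.card (show 0 < m w by omega)
      have hmin : mdeg q c (i + 1 + 1) ≤ 2 * min Lt.card Ls.card :=
        mdeg_le_orbit (by omega) (by rcases min_choice Lt.card Ls.card with h | h <;> rw [h] <;> assumption)
      omega
  -- the sum over labels
  have hrest : ∑ w ∈ Finset.univ.erase (0 : pperp Q e d), m w = (zc q c (i + 1) - 1) * m f₀ := by
    rw [← hSm]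
    refine (Finset.sum_subset hSsub fun w hw hwS => hnons w fun hq => hwS ?_).symm
    rw [← hS, Finset.mem_filter]
    exact ⟨Finset.mem_univ _, Finset.ne_of_mem_erase hw, hq⟩
  have hm : m f₀ = 1 := by
    obtain ⟨w, hw, hw0, hE⟩ := C.exists_supp hne H.p
    by_contra h
    have h0 : ∑ w ∈ Finset.univ.erase (0 : pperp Q e d), m w = 0 := by
      rw [hrest, show m f₀ = 0 by omega, mul_zero]
    have h1 := Finset.sum_eq_zero_iff.1 h0 ⟨w, hw⟩ (by simpa [Subtype.ext_iff] using hw0)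
    exact hE (Submodule.finrank_eq_zero.1 h1)
  rw [hm, mul_one] at hrest
  rw [hrest] at hsum
  -- the core characters in Fx
  have hKz : ∀ z : Z4 Q e d f g, z ≠ 0 → Kd z = if Q (z : V) = 0 then 1 else 0 := by
    intro z hz0
    have hz0' : (z : V) ≠ 0 := fun h => hz0 (Subtype.ext h)
    split_ifs with hq
    · have hE : finrank ℂ (E Q ρ ψ f (z : V)) = 1 := (hEq f₀ z hf₀ z.2 hz0' (hf₀q.trans hq.symm)).trans hm
      refine le_antisymm (hE ▸ C.Kz_le H z.2 hz0') ?_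
      rw [← hE]
      refine C.le_Kz H z.2 hz0' hline ?_
      rcases hcond with ⟨-, hq4, -⟩ | ⟨-, hq4, -, -⟩ | ⟨rfl, hi⟩
      · exact C.lamAt_scale H (by rw [← Nat.card_eq_fintype_card]; omega) z.2 hE.le
      · exact C.lamAt_scale H (by rw [← Nat.card_eq_fintype_card]; omega) z.2 hE.le
      rcases Nat.lt_or_ge i 2 with hi2 | hi2
      swap
      · exact C.lamAt_trick H (by omega) z.2 hE.le
      obtain rfl : i = 1 := by omega
      obtain ⟨z', hzz', hz'⟩ := exists_partner (nondeg_restr (C.z4_nondeg H)) hz0 hq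
      have pz : IsPair (restr Q (Z4 Q e d f g)) z z' := ⟨hq, hz', hzz'⟩
      refine C.lamAt_plane H z.2 z'.2 ⟨hq, hz', hzz'⟩ (by omega) (fun v hv hv0 => ?_) hE.le
      have hR := hZ.restrict pz
      haveI := (Nat.card_eq_one_iff_unique.1 hR.2).1
      obtain ⟨k1, k2⟩ := mem_pperp.1 hv.2
      have h5 := Subsingleton.elim (⟨⟨⟨v, hv.1⟩, mem_pperp.2 ⟨k1, k2⟩⟩, hv0⟩ :
          {w : pperp (restr Q (Z4 Q e d f g)) z z' //
            restr (restr Q (Z4 Q e d f g)) (pperp (restr Q (Z4 Q e d f g)) z z') w = 0}) ⟨0, map_zero _⟩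
      exact congrArg (fun w : pperp (restr Q (Z4 Q e d f g)) z z' => ((w : Z4 Q e d f g) : V))
        (congrArg Subtype.val h5)
    · refine Nat.le_zero.1 ((C.Kz_le H z.2 hz0').trans ?_)
      have hzY : (z : V) ∈ pperp Q e d := z.2.1
      rw [hEq ⟨z, hzY⟩ z (fun h => hz0' (congrArg Subtype.val h)) z.2 hz0' rfl, hnons ⟨z, hzY⟩ hq]
  have hK0 : Kd 0 = finrank ℂ (KK Q ρ ψ e f) := by
    show finrank ℂ _ = _
    rw [← C.Kz_zero H]
    rfl
  have hfx : finrank ℂ (Fx Q ρ ψ e) = finrank ℂ (KK Q ρ ψ e f) + (zc q c i - 1) := by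
    rw [C.Fx_decomp H, ← Finset.add_sum_erase _ _ (Finset.mem_univ (0 : Z4 Q e d f g))]
    show Kd 0 + ∑ z ∈ Finset.univ.erase 0, Kd z = _
    rw [hK0, Finset.sum_congr rfl fun z hz => hKz z (Finset.ne_of_mem_erase hz), Finset.sum_boole, ← hqdef,
      ← card_sing (Z4 Q e d f g) hZ]
    simp [Finset.filter_erase, Finset.erase_eq, Finset.filter_and, Finset.filter_ne']
    congr 2
    ext z
    simp [and_comm]
  obtain ⟨i', rfl⟩ : ∃ i', i = i' + 1 := ⟨i - 1, by have := hcond.one_le; omega⟩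
  have hz1 := zc_pos q c (by omega) (i' + 1)
  have hz2 := zc_pos q c (by omega) (i' + 1 + 1)
  obtain ⟨zs, hzs0, hzsq⟩ := exists_singular (nondeg_restr (C.z4_nondeg H)) (by
    have := hZ.1
    unfold Cond at hcond
    omega)
  refine ⟨fun w hw hw0 hq => ?_, fun w hw hq => Submodule.finrank_eq_zero.1 (hnons ⟨w, hw⟩ hq), hline,
    by rw [hqdef]; omega, by rw [hqdef]; omega, ?_, (C.moved_of_Kz H.p H zs.2 (fun h => hzs0 (Subtype.ext h)) ?_).imp fun h ⟨x, hx, hne⟩ => ⟨x, hx, fun _ => hne⟩⟩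
  · refine (hsing ⟨w, hw⟩ ?_).trans hm
    rw [← hS, Finset.mem_filter]
    exact ⟨Finset.mem_univ _, fun h => hw0 (congrArg Subtype.val h), hq⟩
  · rw [hqdef] at hk ⊢
    rw [mdeg_succ q c (by omega) (by have := hcond.c_le; omega)] at hk
    omega
  · intro h
    have h1 := hKz zs hzs0
    rw [if_pos (show Q (zs : V) = 0 from hzsq)] at h1
    change finrank ℂ _ = 1 at h1
    rw [h, finrank_bot] at h1
    exact zero_ne_one h1

end Ctx

end Cfsg.Agent.OrthDeg
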