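/-
The sum of the projections on all fixed spaces of radicals, evaluated at special vectors.
-/
import Cfsg.Agent.Lib.OrthDeg.Supp

set_option autoImplicit false

namespace Cfsg.Agent.OrthDeg

open QuadraticMap Module Cfsg.Agent.Orth
open scoped InnerProductSpace

universe u v

variable {F : Type u} {V : Type v} [Field F] [Fintype F] [AddCommGroup V] [Module F V] [FiniteDimensional F V]
  [Fintype V] {Q : QuadraticForm F V}

/-- The nonzero singular vectors of a subspace. -/
noncomputable def sgF (Q : QuadraticForm F V) (X : Submodule F V) : Finset V := by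
  classical exact Finset.univ.filter fun v => v ∈ X ∧ v ≠ 0 ∧ Q v = 0

omit [Fintype F] [FiniteDimensional F V] in
theorem mem_sgF {X : Submodule F V} {v : V} : v ∈ sgF Q X ↔ v ∈ X ∧ v ≠ 0 ∧ Q v = 0 := by
  classical
  simp [sgF]

theorem card_sgF {X : Submodule F V} {c j : ℕ} (h : HasType (restr Q X) c j) :
    (sgF Q X).card = zc (Nat.card F) c j - 1 := by
  classical
  rw [← card_sing X h]
  apply Eq.symm
  refine Finset.card_bij (fun y _ => (y : V)) ?_ ?_ ?_
  · intro y hy
    rw [Finset.mem_filter] at hy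
    exact mem_sgF.2 ⟨y.2, fun h => hy.2.1 (Subtype.ext h), hy.2.2⟩
  · exact fun a _ b _ h => Subtype.ext h
  · intro v hv
    obtain ⟨h1, h2, h3⟩ := mem_sgF.1 hv
    exact ⟨⟨v, h1⟩, Finset.mem_filter.2 ⟨Finset.mem_univ _, fun h => h2 (congrArg Subtype.val h), h3⟩, rfl⟩

omit [Fintype V] in
/-- A type read off from the whole space. -/
theorem HasType.top {c j : ℕ} (h : HasType Q c j) : HasType (restr Q (⊤ : Submodule F V)) c j :=
  h.congr Submodule.topEquiv.symm fun _ => rfl

/-- Sorting the singular vectors of X along a pair inside it. -/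
theorem sum_sgF {e d : V} (p : IsPair Q e d) {X : Submodule F V} (he : e ∈ X) (hd : d ∈ X) (φ : V → ℝ)
    [DecidableEq F] [DecidablePred (· ∈ X ⊓ pperp Q e d)] :
    ∑ v ∈ sgF Q X, φ v = (∑ a ∈ Finset.univ.erase (0 : F), φ (a • e)) +
      (∑ y ∈ sgF Q (X ⊓ pperp Q e d), ∑ a : F, φ (a • e + y)) +
      ∑ b ∈ Finset.univ.erase (0 : F), ∑ y ∈ Finset.univ.filter (· ∈ X ⊓ pperp Q e d),
        φ ((-Q y / b) • e + b • d + y) := by
  classical
  obtain ⟨part, hpart⟩ : ∃ part : V → V, ∀ v, part v = v - polar Q v d • e - polar Q v e • d := ⟨_, fun _ => rfl⟩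
  have hpX : ∀ v ∈ X, part v ∈ X ⊓ pperp Q e d := fun v hv => by
    rw [hpart]
    exact ⟨X.sub_mem (X.sub_mem hv (X.smul_mem _ he)) (X.smul_mem _ hd), pperp_part p v⟩
  have hrec : ∀ v, v = polar Q v d • e + polar Q v e • d + part v := fun v => by rw [hpart]; abel
  have hq : ∀ v ∈ X, Q v = polar Q v d * polar Q v e + Q (part v) := fun v hv => by
    conv_lhs => rw [hrec v]
    exact (pperp_coords p _ _ (hpX v hv).2).2.2
  have hpy : ∀ (a b : F) (y : V), y ∈ pperp Q e d → part (a • e + b • d + y) = y := fun a b y hy => by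
    obtain ⟨h1, h2, -⟩ := pperp_coords p a b hy
    rw [hpart, h1, h2]; abel
  rw [← Finset.sum_filter_add_sum_filter_not (sgF Q X) (fun v => polar Q v e = 0)]
  congr 1
  · rw [← Finset.sum_filter_add_sum_filter_not ((sgF Q X).filter fun v => polar Q v e = 0) (fun v => part v = 0)]
    congr 1
    · refine Finset.sum_bij' (fun v _ => polar Q v d) (fun a _ => a • e) ?_ ?_ ?_ ?_ ?_
      · intro v hv
        simp only [Finset.mem_filter, mem_sgF] at hv
        obtain ⟨⟨⟨-, hv0, -⟩, hb⟩, hp⟩ := hv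
        refine Finset.mem_erase.2 ⟨fun h => hv0 ?_, Finset.mem_univ _⟩
        rw [hrec v, hb, hp, h]; simp
      · intro a ha
        obtain ⟨h1, h2, h3⟩ := pperp_coords p a 0 (Submodule.zero_mem (pperp Q e d))
        simp only [zero_smul, add_zero, mul_zero, map_zero] at h1 h2 h3
        simp only [Finset.mem_filter, mem_sgF]
        refine ⟨⟨⟨X.smul_mem _ he, smul_ne_zero (Finset.ne_of_mem_erase ha) p.ne, h3⟩, h2⟩, ?_⟩
        have := hpy a 0 0 (Submodule.zero_mem _)
        simpa using this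
      · intro v hv
        simp only [Finset.mem_filter] at hv
        conv_rhs => rw [hrec v, hv.1.2, hv.2]
        simp
      · intro a _
        rw [b_smul_left, p.ed, mul_one]
      · intro v hv
        simp only [Finset.mem_filter] at hv
        conv_lhs => rw [hrec v, hv.1.2, hv.2]
        simp
    · rw [Finset.sum_sigma']
      refine Finset.sum_bij' (fun v _ => (⟨part v, polar Q v d⟩ : (_ : V) × F)) (fun s _ => s.2 • e + s.1)
        ?_ ?_ ?_ ?_ ?_
      · intro v hv
        simp only [Finset.mem_filter, mem_sgF] at hv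
        obtain ⟨⟨⟨hvX, -, hv0⟩, hb⟩, hp⟩ := hv
        simp only [Finset.mem_sigma, mem_sgF, Finset.mem_univ, and_true]
        refine ⟨hpX v hvX, hp, ?_⟩
        rw [hq v hvX, hb] at hv0
        linear_combination hv0
      · intro s hs
        simp only [Finset.mem_sigma, mem_sgF, Finset.mem_univ, and_true] at hs
        obtain ⟨h1, h2, h3⟩ := pperp_coords p s.2 0 hs.1.2
        have h4 := hpy s.2 0 s.1 hs.1.2
        simp only [zero_smul, add_zero, mul_zero] at h1 h2 h3 h4
        simp only [Finset.mem_filter, mem_sgF]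
        refine ⟨⟨⟨X.add_mem (X.smul_mem _ he) hs.1.1, fun h0 => hs.2.1 ?_, by rw [h3, hs.2.2, zero_add]⟩, h2⟩,
          by rw [h4]; exact hs.2.1⟩
        rw [← h4, h0, hpart]; simp [b_zero_left]
      · intro v hv
        simp only [Finset.mem_filter] at hv
        conv_rhs => rw [hrec v, hv.1.2]
        simp
      · intro s hs
        simp only [Finset.mem_sigma, mem_sgF] at hs
        obtain ⟨h1, -, -⟩ := pperp_coords p s.2 0 hs.1.1.2
        have h4 := hpy s.2 0 s.1 hs.1.1.2
        simp only [zero_smul, add_zero] at h1 h4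
        exact Sigma.ext h4 (heq_of_eq h1)
      · intro v hv
        simp only [Finset.mem_filter] at hv
        conv_lhs => rw [hrec v, hv.1.2]
        simp
  · rw [Finset.sum_sigma']
    refine Finset.sum_bij' (fun v _ => (⟨polar Q v e, part v⟩ : (_ : F) × V))
      (fun s _ => (-Q s.2 / s.1) • e + s.1 • d + s.2) ?_ ?_ ?_ ?_ ?_
    · intro v hv
      simp only [Finset.mem_filter, mem_sgF] at hv
      simp only [Finset.mem_sigma, Finset.mem_erase, Finset.mem_filter, Finset.mem_univ, and_true, true_and]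
      exact ⟨hv.2, hpX v hv.1.1⟩
    · intro s hs
      simp only [Finset.mem_sigma, Finset.mem_erase, Finset.mem_filter, Finset.mem_univ, and_true, true_and] at hs
      obtain ⟨-, h2, h3⟩ := pperp_coords p (-Q s.2 / s.1) s.1 hs.2.2
      simp only [Finset.mem_filter, mem_sgF]
      refine ⟨⟨X.add_mem (X.add_mem (X.smul_mem _ he) (X.smul_mem _ hd)) hs.2.1, fun h0 => ?_, ?_⟩, by rw [h2]; exact hs.1⟩
      · rw [h0, b_zero_left] at h2; exact hs.1 h2.symm
      · rw [h3, div_mul_cancel₀ _ hs.1, neg_add_cancel]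
    · intro v hv
      simp only [Finset.mem_filter, mem_sgF] at hv
      have h := hq v hv.1.1
      rw [hv.1.2.2] at h
      conv_rhs => rw [hrec v]
      rw [show -Q (part v) / polar Q v e = polar Q v d by rw [div_eq_iff hv.2]; linear_combination h]
    · intro s hs
      simp only [Finset.mem_sigma, Finset.mem_filter] at hs
      obtain ⟨-, h2, -⟩ := pperp_coords p (-Q s.2 / s.1) s.1 hs.2.2.2
      exact Sigma.ext h2 (heq_of_eq (hpy _ _ _ hs.2.2.2))
    · intro v hv
      simp only [Finset.mem_filter, mem_sgF] at hv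
      have h := hq v hv.1.1
      rw [hv.1.2.2] at h
      conv_lhs => rw [hrec v]
      rw [show -Q (part v) / polar Q v e = polar Q v d by rw [div_eq_iff hv.2]; linear_combination h]

omit [Fintype V] in
/-- The root group at u with labels in X. -/
noncomputable def rootSub (hG : Good Q) {u : V} (hu : Q u = 0) (X : Submodule F V)
    (hX : ∀ y ∈ X, polar Q u y = 0) : Subgroup (omg Q) where
  carrier := {t | ∃ y ∈ X, t = tr Q u y}
  one_mem' := ⟨0, X.zero_mem, (tr_zero hG hu).symm⟩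
  mul_mem' := by
    rintro _ _ ⟨y, hy, rfl⟩ ⟨y', hy', rfl⟩
    exact ⟨y + y', X.add_mem hy hy', (tr_add hG hu (hX y hy) (hX y' hy')).symm⟩
  inv_mem' := by
    rintro _ ⟨y, hy, rfl⟩
    exact ⟨-y, X.neg_mem hy, (tr_neg hG hu (hX y hy)).symm⟩

omit [Fintype F] [FiniteDimensional F V] in
instance finite_omg : Finite (omg Q) :=
  Finite.of_injective (fun g : omg Q => (fun x => app g x)) fun _ _ h => omg_ext (congrFun h)

/-- The orthogonal of one vector. -/
abbrev orth1 (Q : QuadraticForm F V) (u : V) : Submodule F V := LinearMap.ker (polarBilin Q u)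

variable {W : Type} [NormedAddCommGroup W] [InnerProductSpace ℂ W] [FiniteDimensional ℂ W]
  {ρ : omg Q →* (W →ₗ[ℂ] W)} {ψ : AddChar F ℂ}

omit [Fintype V] in
theorem norm_psi (t : F) : ‖ψ t‖ = 1 := by
  have h : ψ t * (starRingEnd ℂ) (ψ t) = 1 := by
    rw [psi_conj, ← AddChar.map_add_eq_mul, add_neg_cancel, AddChar.map_zero_eq_one]
  rw [Complex.mul_conj, Complex.ofReal_eq_one, Complex.normSq_eq_norm_sq] at h
  exact (sq_eq_one_iff.1 h).resolve_right (by have := norm_nonneg (ψ t); linarith)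

omit [Fintype V] in
theorem norm_sq_proj (K : Submodule ℂ W) (x : W) :
    ((‖K.starProjection x‖ ^ 2 : ℝ) : ℂ) = ⟪x, K.starProjection x⟫_ℂ := by
  rw [Complex.ofReal_pow, ← Complex.coe_algebraMap, ← inner_self_eq_norm_sq_to_K (𝕜 := ℂ),
    Submodule.inner_starProjection_left_eq_right, Submodule.starProjection_eq_self_iff.2 (K.starProjection_apply_mem x)]

namespace Ctx

variable (C : Ctx Q ρ ψ)

include C

theorem fixS_rootSub {u : V} (hu : Q u = 0) :
    fixS ρ (rootSub C.good hu (orth1 Q u) (fun _ h => h) : Set (omg Q)) = Fx Q ρ ψ u := by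
  ext x
  rw [mem_Fx]
  exact ⟨fun h y hy => h _ ⟨y, hy, rfl⟩, fun h t ⟨y, hy, ht⟩ => ht ▸ h y hy⟩

theorem finrank_pos_rep (hne : ∃ g x, ρ g x ≠ x) : 0 < finrank ℂ W := by
  obtain ⟨g, x, h⟩ := hne
  refine Nat.pos_of_ne_zero fun h0 => h ?_
  haveI := (Module.finrank_zero_iff (R := ℂ) (M := W)).1 h0
  exact Subsingleton.elim _ _

/-- The sum of all projections is a scalar operator. -/
theorem proj_sum_op (hirr : Irred ρ) {e : V} (he0 : e ≠ 0) (he : Q e = 0) :
    ∃ c : ℂ, (∀ x : W, ∑ v ∈ sgF Q ⊤, (Fx Q ρ ψ v).starProjection x = c • x) ∧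
      c * finrank ℂ W = (((sgF Q ⊤).card * finrank ℂ (Fx Q ρ ψ e) : ℕ) : ℂ) := by
  classical
  obtain ⟨T, hT⟩ : ∃ T : W →ₗ[ℂ] W, ∑ v ∈ sgF Q ⊤, ((Fx Q ρ ψ v).starProjection : W →ₗ[ℂ] W) = T := ⟨_, rfl⟩
  have hTx : ∀ x, T x = ∑ v ∈ sgF Q ⊤, (Fx Q ρ ψ v).starProjection x := fun x => by
    rw [← hT, LinearMap.sum_apply]; rfl
  obtain ⟨c, hc⟩ := schur_on (ρ := ρ) (MonoidHom.id (omg Q)) (K := ⊤) (fun L _ h => hirr L h)
    (fun _ _ _ => Submodule.mem_top) T (fun _ _ => Submodule.mem_top) fun g y _ => by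
      rw [MonoidHom.id_apply, hTx, hTx, map_sum]
      refine Finset.sum_nbij' (fun v => app g⁻¹ v) (fun v => app g v) ?_ ?_ ?_ ?_ ?_
      · intro v hv
        obtain ⟨-, h1, h2⟩ := mem_sgF.1 hv
        exact mem_sgF.2 ⟨Submodule.mem_top, app_ne _ h1, by rw [q_app, h2]⟩
      · intro v hv
        obtain ⟨-, h1, h2⟩ := mem_sgF.1 hv
        exact mem_sgF.2 ⟨Submodule.mem_top, app_ne _ h1, by rw [q_app, h2]⟩
      · exact fun v _ => app_app_inv g v
      · exact fun v _ => app_inv_app g v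
      · intro v hv
        obtain ⟨-, -, h2⟩ := mem_sgF.1 hv
        refine C.unit.proj_map (fun z => ?_) y
        have h3 := C.Fx_map (ψ := ψ) (e := app g⁻¹ v) (by rw [q_app, h2]) g (x := z)
        rwa [app_app_inv] at h3
  have htr : c * finrank ℂ W = (((sgF Q ⊤).card * finrank ℂ (Fx Q ρ ψ e) : ℕ) : ℂ) := by
    have h1 : T = c • LinearMap.id := LinearMap.ext fun x => hc x Submodule.mem_top
    have h2 := congrArg (LinearMap.trace ℂ W) h1
    rw [map_smul, LinearMap.trace_id, smul_eq_mul, ← hT, map_sum] at h2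
    rw [← h2, Finset.sum_congr rfl fun v hv => (trace_proj _).trans (congrArg Nat.cast
      (C.finrank_Fx_eq (mem_sgF.1 hv).2.1 he0 (mem_sgF.1 hv).2.2 he)), Finset.sum_const, nsmul_eq_mul, Nat.cast_mul]
  exact ⟨c, fun x => by rw [← hTx]; exact hc x Submodule.mem_top, htr⟩

/-- The sum of all projections is a scalar. -/
theorem proj_sum (hirr : Irred ρ) {e : V} (he0 : e ≠ 0) (he : Q e = 0) (x : W) :
    (finrank ℂ W : ℝ) * ∑ v ∈ sgF Q ⊤, ‖(Fx Q ρ ψ v).starProjection x‖ ^ 2 =
      (sgF Q ⊤).card * finrank ℂ (Fx Q ρ ψ e) * ‖x‖ ^ 2 := by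
  obtain ⟨c, hc, htr⟩ := C.proj_sum_op hirr he0 he
  have hsum : ((∑ v ∈ sgF Q ⊤, ‖(Fx Q ρ ψ v).starProjection x‖ ^ 2 : ℝ) : ℂ) = c * ((‖x‖ ^ 2 : ℝ) : ℂ) := by
    rw [Complex.ofReal_sum, Finset.sum_congr rfl fun v _ => norm_sq_proj _ x, ← inner_sum, hc, inner_smul_right,
      Complex.ofReal_pow, inner_self_eq_norm_sq_to_K]
    rfl
  apply Complex.ofReal_injective
  rw [Complex.ofReal_mul, hsum, ← mul_assoc, Complex.ofReal_natCast, mul_comm _ c, htr]
  push_cast
  ring

/-- An element scaling a vector by a unit moves the projections. -/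
theorem norm_proj_move {K K' : Submodule ℂ W} {T : omg Q} (h : ∀ z, ρ T z ∈ K' ↔ z ∈ K) {x : W} {c : ℂ}
    (hx : ρ T x = c • x) (hc : ‖c‖ = 1) : ‖K'.starProjection x‖ = ‖K.starProjection x‖ := by
  have h1 := C.unit.proj_map h x
  rw [hx, map_smul] at h1
  have h2 := congrArg (fun y => ‖y‖) h1
  simp only [norm_smul, hc, one_mul] at h2
  rwa [C.unit.norm_eq] at h2

theorem KK_scale {e y : V} {a : F} (ha : a ≠ 0) (hy : Q y = 0) (hey : polar Q e y = 0) :
    KK Q ρ ψ e (a • y) = KK Q ρ ψ e y := by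
  ext x
  simp only [mem_KK, b_smul_left]
  refine and_congr_right fun _ => ⟨fun h z h1 h2 => ?_, fun h z h1 h2 => ?_⟩
  · have h3 := h (a⁻¹ • z) (by rw [b_smul_right, h1, mul_zero]) (by rw [b_smul_right, h2]; ring)
    rwa [tr_scale C.good a hy (by rw [b_smul_right, h2, mul_zero]), smul_smul, mul_inv_cancel₀ ha, one_smul] at h3
  · have h2' := (mul_eq_zero.1 h2).resolve_left ha
    rw [tr_scale C.good a hy h2']
    exact h _ (by rw [b_smul_right, h1, mul_zero]) (by rw [b_smul_right, h2', mul_zero])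

theorem KK_shift_le {e y : V} (he : Q e = 0) (hy : Q y = 0) (hey : polar Q e y = 0) (a : F) :
    KK Q ρ ψ e y ≤ KK Q ρ ψ e (y + a • e) := by
  intro x hx
  rw [mem_KK] at hx ⊢
  refine ⟨hx.1, fun z h1 h2 => ?_⟩
  have hyz : polar Q y z = 0 := by rwa [b_add_left, b_smul_left, h1, mul_zero, add_zero] at h2
  have hye : polar Q y e = 0 := by rw [b_comm, hey]
  rw [tr_add_left C.good hy (by rw [q_smul, he, mul_zero]) (by rw [b_smul_right, hye, mul_zero]) hyz
    (by rw [b_smul_left, h1, mul_zero]), tr_scale C.good a he h1, smul_smul]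
  refine fix_mul (fix_mul (hx.2 z h1 hyz) (mem_Fx.1 hx.1 _ (by rw [b_smul_right, h1, mul_zero]))) (hx.2 _ ?_ ?_)
  · rw [b_smul_right, b_self, he, mul_zero, mul_zero]
  · rw [b_smul_right, hye, mul_zero]

theorem KK_shift {e y : V} (he : Q e = 0) (hy : Q y = 0) (hey : polar Q e y = 0) (a : F) :
    KK Q ρ ψ e (y + a • e) = KK Q ρ ψ e y := by
  refine le_antisymm ?_ (C.KK_shift_le he hy hey a)
  have h := C.KK_shift_le (ψ := ψ) (y := y + a • e) he
    (by rw [q_add, q_smul, he, hy, b_smul_right, b_comm y e, hey]; ring)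
    (by rw [b_add_right, b_smul_right, b_self, he, hey]; ring) (-a)
  rwa [add_assoc, ← add_smul, add_neg_cancel, zero_smul, add_zero] at h

/-- Inside Fx e the projection to Fx v factors through K(e, v). -/
theorem proj_eq_KK {e v : V} (he : Q e = 0) (hv : Q v = 0) (hev : polar Q e v = 0) {x : W}
    (hx : x ∈ Fx Q ρ ψ e) :
    (Fx Q ρ ψ v).starProjection ((KK Q ρ ψ e v).starProjection x) = (Fx Q ρ ψ v).starProjection x := by
  classical
  obtain ⟨A, hA⟩ : ∃ A, rootSub C.good hv (orth1 Q e ⊓ orth1 Q v) (fun _ h => h.2) = A := ⟨_, rfl⟩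
  haveI := Fintype.ofFinite A
  obtain ⟨L, hL⟩ : ∃ L, fixS ρ (A : Set (omg Q)) = L := ⟨_, rfl⟩
  have h1 : Fx Q ρ ψ v ≤ L := by
    rw [← hL, ← hA]
    rintro z hz t ⟨y, hy, rfl⟩
    exact mem_Fx.1 hz y hy.2
  have h2 : L.starProjection x ∈ KK Q ρ ψ e v := by
    refine mem_KK.2 ⟨?_, fun y k1 k2 => ?_⟩
    · rw [← hL]
      refine C.unit.proj_fixS_mem A (fun t ht z hz => ?_) hx
      rw [← hA] at ht
      obtain ⟨y, hy, rfl⟩ := ht
      exact C.Fx_stable he hv hev hy.1 hy.2 hz
    · have h3 := L.starProjection_apply_mem x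
      simp only [← hL, mem_fixS] at h3 ⊢
      exact h3 _ (hA ▸ ⟨y, ⟨k1, k2⟩, rfl⟩)
  have h4 : KK Q ρ ψ e v ≤ L := by
    rw [← hL, ← hA]
    rintro z hz t ⟨y, hy, rfl⟩
    exact (mem_KK.1 hz).2 y hy.1 hy.2
  have h5 : (KK Q ρ ψ e v).starProjection x = L.starProjection x := by
    rw [← proj_comp_le h4, Submodule.starProjection_eq_self_iff.2 h2]
  rw [h5, proj_comp_le h1]

theorem norm_proj_le_KK {e v : V} (he : Q e = 0) (hv : Q v = 0) (hev : polar Q e v = 0) {x : W}
    (hx : x ∈ Fx Q ρ ψ e) :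
    ‖(Fx Q ρ ψ v).starProjection x‖ ≤ ‖(KK Q ρ ψ e v).starProjection x‖ := by
  rw [← C.proj_eq_KK he hv hev hx]
  exact Submodule.norm_starProjection_apply_le _ _

variable {e d f g : V} (H : Frame Q e d f g)

/-- Projection of the small fixed space to Fx f. -/
theorem proj_f_mem {x : W} (hx : x ∈ MM Q ρ e f) (he : Q e = 0) (hf : Q f = 0) (hef : polar Q e f = 0) :
    (Fx Q ρ ψ f).starProjection x ∈ KK Q ρ ψ f e := by
  classical
  haveI := Fintype.ofFinite (rootSub C.good hf (orth1 Q f) (fun _ h => h))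
  refine Submodule.mem_inf.2 ⟨Submodule.starProjection_apply_mem _ _, ?_⟩
  simp only [← C.fixS_rootSub hf]
  refine C.unit.proj_fixS_mem _ (fun t ht z hz => ?_) (by rw [MM_comm]; exact hx)
  obtain ⟨y, hy, rfl⟩ := ht
  exact C.MM_stable hf he (by rw [b_comm, hef]) hy hz

include H

/-- For such vectors P_d factors through P_f. -/
theorem proj_d_f {x : W} (hx : x ∈ MM Q ρ e f) :
    (Fx Q ρ ψ d).starProjection ((Fx Q ρ ψ f).starProjection x) = (Fx Q ρ ψ d).starProjection x := by
  classical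
  haveI := Fintype.ofFinite (rootSub C.good H.p'.qe (orth1 Q f) (fun _ h => h))
  simp only [← C.fixS_rootSub H.p'.qe, C.unit.proj_fixS_eq_avg _ x, map_smul, map_sum]
  rw [Finset.sum_congr rfl (g := fun _ => (Fx Q ρ ψ d).starProjection x) fun t _ => ?_, Finset.sum_const,
    Finset.card_univ, ← Nat.cast_smul_eq_nsmul ℂ, smul_smul,
    inv_mul_cancel₀ (Nat.cast_ne_zero.2 Fintype.card_ne_zero), one_smul]
  obtain ⟨t, y, hy, rfl⟩ := t
  obtain ⟨s, hs⟩ : ∃ s, polar Q e y = s := ⟨_, rfl⟩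
  obtain ⟨r, hr⟩ : ∃ r, y - s • d = r := ⟨_, rfl⟩
  have hfy : polar Q f y = 0 := hy
  have hre : polar Q e r = 0 := by rw [← hr, b_sub_right, b_smul_right, hs, H.p.ed, mul_one, sub_self]
  have hrf : polar Q f r = 0 := by rw [← hr, b_sub_right, b_smul_right, hfy, H.fd, mul_zero, sub_zero]
  have hsd : polar Q f (s • d) = 0 := by rw [b_smul_right, H.fd, mul_zero]
  show (Fx Q ρ ψ d).starProjection (ρ (tr Q f y) x) = _
  rw [show y = s • d + r by rw [← hr]; abel, tr_add C.good H.p'.qe hsd hrf, rho_mul,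
    ((mem_MM.1 hx r hre hrf).2), C.unit.proj_absorb (fun z hz => ?_)]
  have hdf : polar Q d (-f) = 0 := by rw [← neg_one_smul F f, b_smul_right, H.df, mul_zero]
  rw [tr_swap C.good H.p'.qe (by rw [q_smul, H.p.qd, mul_zero]) hsd, tr_scale C.good s H.p.qd hdf]
  exact mem_Fx.1 hz _ (by rw [b_smul_right, hdf, mul_zero])

omit H in
/-- A vector of the second kind is the image of d. -/
theorem sing_repr (p : IsPair Q e d) {y : V} (hy : y ∈ pperp Q e d) {b : F} (hb : b ≠ 0) :
    ∃ T, T = tr Q e (b⁻¹ • y) ∧ polar Q e (b⁻¹ • y) = 0 ∧ (-Q y / b) • e + b • d + y = b • app T d := by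
  have h0 : polar Q e (b⁻¹ • y) = 0 := by rw [b_smul_right, (mem_pperp.1 hy).1, mul_zero]
  refine ⟨_, rfl, h0, ?_⟩
  rw [tr_apply C.good p.qe h0, p.de, b_smul_right, b_comm d y, b_comm y d, (mem_pperp.1 hy).2, q_smul]
  match_scalars <;> field_simp <;> ring

omit H in
/-- The vectors of the second kind. -/
theorem norm_proj_big (p : IsPair Q e d) {y : V} (hy : y ∈ pperp Q e d) {b : F} (hb : b ≠ 0) {w : V} {x : W}
    (hx : x ∈ E Q ρ ψ e w) :
    ‖(Fx Q ρ ψ ((-Q y / b) • e + b • d + y)).starProjection x‖ = ‖(Fx Q ρ ψ d).starProjection x‖ := by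
  obtain ⟨T, hT, h0, hv⟩ := C.sing_repr p hy hb
  simp only [hv, C.Fx_scale (e := app T d) (by rw [q_app, p.qd]) hb]
  exact C.norm_proj_move (fun z => C.Fx_map p.qd T) (hT ▸ hx _ h0) (norm_psi _)

omit H in
/-- A vector of Fx e. -/
theorem sum_le_u [DecidableEq F] (p : IsPair Q e d) {x : W} (hx : x ∈ Fx Q ρ ψ e) :
    ∑ v ∈ sgF Q ⊤, ‖(Fx Q ρ ψ v).starProjection x‖ ^ 2 ≤
      ((Nat.card F : ℝ) - 1) * ‖x‖ ^ 2 +
      Nat.card F * ∑ y ∈ sgF Q (pperp Q e d), ‖(KK Q ρ ψ e y).starProjection x‖ ^ 2 +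
      ((Nat.card F : ℝ) - 1) * (Nat.card (pperp Q e d) * ‖(Fx Q ρ ψ d).starProjection x‖ ^ 2) := by
  classical
  rw [sum_sgF p (X := ⊤) Submodule.mem_top Submodule.mem_top, top_inf_eq, Nat.card_eq_fintype_card (α := F)]
  have hc1 : ((Finset.univ.erase (0 : F)).card : ℝ) = (Fintype.card F : ℝ) - 1 := by
    rw [Finset.card_erase_of_mem (Finset.mem_univ _), Finset.card_univ, Nat.cast_sub Fintype.card_pos, Nat.cast_one]
  refine add_le_add (add_le_add (le_of_eq ?_) ?_) (le_of_eq ?_)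
  · rw [Finset.sum_congr rfl (g := fun _ => ‖x‖ ^ 2) fun a ha => ?_, Finset.sum_const, nsmul_eq_mul, hc1]
    simp only [C.Fx_scale p.qe (Finset.ne_of_mem_erase ha), Submodule.starProjection_eq_self_iff.2 hx]
  · rw [Finset.mul_sum]
    refine Finset.sum_le_sum fun y hy => ?_
    obtain ⟨hyY, -, hq⟩ := mem_sgF.1 hy
    have hey : polar Q e y = 0 := (mem_pperp.1 hyY).1
    refine (Finset.sum_le_card_nsmul _ _ (‖(KK Q ρ ψ e y).starProjection x‖ ^ 2) fun a _ => ?_).trans
      (le_of_eq (by rw [Finset.card_univ, nsmul_eq_mul]))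
    refine pow_le_pow_left₀ (norm_nonneg _) ((C.norm_proj_le_KK p.qe ?_ ?_ hx).trans (le_of_eq ?_)) 2
    · rw [q_add, q_smul, b_smul_left, p.qe, hq, hey]; ring
    · rw [b_add_right, b_smul_right, p.ee, hey]; ring
    · simp only [add_comm (a • e) y, C.KK_shift p.qe hq hey a]
  · have h2 : ∀ b ∈ Finset.univ.erase (0 : F), ∑ y ∈ Finset.univ.filter (· ∈ pperp Q e d),
        ‖(Fx Q ρ ψ ((-Q y / b) • e + b • d + y)).starProjection x‖ ^ 2 =
        Nat.card (pperp Q e d) * ‖(Fx Q ρ ψ d).starProjection x‖ ^ 2 := by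
      intro b hb
      rw [Finset.sum_congr rfl fun y hy => by
          rw [C.norm_proj_big p (Finset.mem_filter.1 hy).2 (Finset.ne_of_mem_erase hb) hx],
        Finset.sum_const, nsmul_eq_mul, Nat.card_eq_fintype_card (α := pperp Q e d), Fintype.card_subtype]
    rw [Finset.sum_congr rfl h2, Finset.sum_const, nsmul_eq_mul, hc1]

/-- A vector with label a multiple of f. -/
theorem sum_le_z [DecidableEq F] {a : F} (ha : a ≠ 0) {x : W} (hx : x ∈ E Q ρ ψ e (a • f)) (hx1 : ‖x‖ = 1) :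
    ∑ v ∈ sgF Q ⊤, ‖(Fx Q ρ ψ v).starProjection x‖ ^ 2 ≤
      (Nat.card F : ℝ) * ((Nat.card F : ℝ) - 1) * ‖(Fx Q ρ ψ f).starProjection x‖ ^ 2 +
      Nat.card F * (sgF Q (Z4 Q e d f g)).card +
      ((Nat.card F : ℝ) - 1) * (Nat.card (pperp Q e d) * ‖(Fx Q ρ ψ d).starProjection x‖ ^ 2) := by
  classical
  rw [sum_sgF H.p (X := ⊤) Submodule.mem_top Submodule.mem_top, top_inf_eq, Nat.card_eq_fintype_card (α := F)]
  have hc1 : ((Finset.univ.erase (0 : F)).card : ℝ) = (Fintype.card F : ℝ) - 1 := by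
    rw [Finset.card_erase_of_mem (Finset.mem_univ _), Finset.card_univ, Nat.cast_sub Fintype.card_pos, Nat.cast_one]
  have hafY : a • f ∈ pperp Q e d := Submodule.smul_mem _ _ H.hf
  have hkill : ∀ v : V, Q v = 0 → polar Q e v = 0 → polar Q (a • f) v ≠ 0 →
      ‖(Fx Q ρ ψ v).starProjection x‖ ^ 2 = 0 := by
    intro v hv hev hB
    obtain ⟨s, hs⟩ := AddChar.ne_one_iff.1 C.psi
    obtain ⟨r, hr⟩ : ∃ r, s / polar Q (a • f) v = r := ⟨_, rfl⟩
    have h0 : polar Q e (r • v) = 0 := by rw [b_smul_right, hev, mul_zero]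
    have hne' : ψ (polar Q (a • f) (r • v)) ≠ 1 := by rwa [b_smul_right, ← hr, div_mul_cancel₀ _ hB]
    have hfix : ∀ z ∈ Fx Q ρ ψ v, ρ (tr Q e (r • v)) z = z := by
      intro z hz
      have h1 : polar Q v (-e) = 0 := by rw [← neg_one_smul F e, b_smul_right, b_comm, hev, mul_zero]
      rw [tr_swap C.good H.p.qe (by rw [q_smul, hv, mul_zero]) h0, tr_scale C.good r hv h1]
      exact mem_Fx.1 hz _ (by rw [b_smul_right, h1, mul_zero])
    rw [C.unit.proj_eq_zero_of_smul hfix (hx _ h0) hne']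
    simp
  refine add_le_add ?_ (le_of_eq ?_)
  · rw [Finset.sum_eq_zero (s := Finset.univ.erase (0 : F)) fun b hb => ?_, zero_add]
    swap
    · have h0 : (Fx Q ρ ψ (b • e)).starProjection x = 0 := by
        simp only [C.Fx_scale H.p.qe (Finset.ne_of_mem_erase hb)]
        refine Submodule.eq_starProjection_of_mem_of_inner_eq_zero (Submodule.zero_mem _) fun z hz => ?_
        rw [sub_zero]
        exact C.E_orth H.p hafY (Submodule.zero_mem _) (smul_ne_zero ha H.p'.ne) hx hz
      rw [h0]; simp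
    have hinf : pperp Q e d ⊓ pperp Q f g = Z4 Q e d f g := rfl
    rw [sum_sgF H.p' H.hf H.hg (fun y => ∑ t : F, ‖(Fx Q ρ ψ (t • e + y)).starProjection x‖ ^ 2), hinf,
      Finset.sum_eq_zero (s := Finset.univ.erase (0 : F))
        (f := fun b => ∑ y ∈ Finset.univ.filter (· ∈ Z4 Q e d f g),
          ∑ t : F, ‖(Fx Q ρ ψ (t • e + ((-Q y / b) • f + b • g + y))).starProjection x‖ ^ 2), add_zero]
    swap
    · intro b hb
      refine Finset.sum_eq_zero fun y hy => Finset.sum_eq_zero fun t _ => ?_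
      have hy' := (Finset.mem_filter.1 hy).2
      obtain ⟨-, -, hq⟩ := pperp_coords H.p' (-Q y / b) b hy'.2
      rw [div_mul_cancel₀ _ (Finset.ne_of_mem_erase hb), neg_add_cancel] at hq
      refine hkill _ ?_ ?_ ?_
      · rw [q_add, q_smul, hq, H.p.qe, b_smul_left, b_add_right, b_add_right, b_smul_right, b_smul_right, H.ef,
          H.eg, H.ze hy']; ring
      · rw [b_add_right, b_add_right, b_add_right, b_smul_right, b_smul_right, b_smul_right, H.p.ee, H.ef, H.eg,
          H.ze hy']; ring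
      · rw [b_smul_left, b_add_right, b_add_right, b_add_right, b_smul_right, b_smul_right, b_smul_right, H.fe,
          H.p'.ee, H.p'.ed, H.zf hy', mul_zero, mul_zero, zero_add, zero_add, mul_one, add_zero]
        exact mul_ne_zero ha (Finset.ne_of_mem_erase hb)
    refine add_le_add (le_of_eq ?_) ?_
    · -- multiples of f
      rw [Finset.sum_congr rfl (g := fun _ => (Fintype.card F : ℝ) * ‖(Fx Q ρ ψ f).starProjection x‖ ^ 2)
        fun s hs => ?_, Finset.sum_const, nsmul_eq_mul, hc1]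
      · ring
      rw [Finset.sum_congr rfl (g := fun _ => ‖(Fx Q ρ ψ f).starProjection x‖ ^ 2) fun t _ => ?_, Finset.sum_const,
        Finset.card_univ, nsmul_eq_mul]
      have hs0 := Finset.ne_of_mem_erase hs
      obtain ⟨r, hr⟩ : ∃ r, (-(t / s)) • g = r := ⟨_, rfl⟩
      have h0 : polar Q e r = 0 := by rw [← hr, b_smul_right, H.eg, mul_zero]
      have hv : t • e + s • f = s • app (tr Q e r) f := by
        rw [tr_apply C.good H.p.qe h0, H.fe, ← hr, b_smul_right, H.p'.ed]
        match_scalars <;> field_simp <;> ring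
      simp only [hv, C.Fx_scale (e := app (tr Q e r) f) (by rw [q_app, H.p'.qe]) hs0]
      rw [C.norm_proj_move (K := Fx Q ρ ψ f) (fun z => C.Fx_map H.p'.qe (tr Q e r)) (hx r h0) (norm_psi _)]
    · refine (Finset.sum_le_card_nsmul _ _ (Fintype.card F : ℝ) fun z hz => ?_).trans (le_of_eq ?_)
      swap
      · rw [nsmul_eq_mul, mul_comm]
      obtain ⟨hzZ, hz0, hzq⟩ := mem_sgF.1 hz
      refine (Finset.sum_le_card_nsmul _ _ (1 : ℝ) fun s _ => ?_).trans (le_of_eq (by simp))
      obtain ⟨y1, hy1Z, hy1⟩ : ∃ y ∈ Z4 Q e d f g, polar Q z y = 1 := by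
        by_contra! hall
        refine hz0 (C.z4_nondeg H z hzZ fun b hb => ?_)
        by_contra hb0
        exact hall ((polar Q z b)⁻¹ • b) (Submodule.smul_mem _ _ hb) (by rw [b_smul_right, inv_mul_cancel₀ hb0])
      -- q mutually orthogonal images
      have hkey : ∀ t : F, ‖(Fx Q ρ ψ (t • e + (s • f + z))).starProjection x‖ ^ 2 ≤
          (Fintype.card F : ℝ)⁻¹ := by
        intro t
        obtain ⟨v, hv⟩ : ∃ v, t • e + (s • f + z) = v := ⟨_, rfl⟩
        rw [hv]
        obtain ⟨x0, hx0⟩ : ∃ x0, g - s • y1 = x0 := ⟨_, rfl⟩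
        have hev : polar Q e v = 0 := by
          rw [← hv, b_add_right, b_add_right, b_smul_right, b_smul_right, H.p.ee, H.ef, H.ze hzZ]; ring
        have hfv : polar Q f v = 0 := by
          rw [← hv, b_add_right, b_add_right, b_smul_right, b_smul_right, H.fe, H.p'.ee, H.zf hzZ]; ring
        have hqv : Q v = 0 := by
          rw [← hv, q_add, q_add, q_smul, q_smul, H.p.qe, H.p'.qe, hzq, b_smul_left, b_smul_left, b_add_right,
            b_smul_right, H.ef, H.ze hzZ, H.zf hzZ]; ring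
        have hex0 : polar Q e x0 = 0 := by rw [← hx0, b_sub_right, b_smul_right, H.eg, H.ze hy1Z]; ring
        have hfx0 : polar Q f x0 = 1 := by rw [← hx0, b_sub_right, b_smul_right, H.p'.ed, H.zf hy1Z]; ring
        have hvx0 : polar Q v x0 = 0 := by
          rw [← hv, b_add_left, b_add_left, b_smul_left, b_smul_left, hex0, hfx0, ← hx0, b_sub_right, b_smul_right,
            hy1, b_comm z g, H.zg hzZ]; ring
        have hT : ∀ r : F, polar Q v (r • x0) = 0 := fun r => by rw [b_smul_right, hvx0, mul_zero]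
        have hmem : ∀ r : F, ρ (tr Q v (r • x0)) x ∈ E Q ρ ψ e (a • f - (r * a) • (s • f + z)) := by
          intro r
          have h1 := (C.E_map H.p.qe (tr Q v (r • x0))).2 hx
          rw [tr_fix C.good hqv (hT r) hev (by rw [b_smul_right, hex0, mul_zero]),
            E_congr (w' := a • f - (r * a) • (s • f + z)) ?_] at h1
          · exact h1
          rw [tr_apply C.good hqv (hT r), b_smul_left, hfv, b_smul_left, b_smul_right, hfx0, ← hv]
          exact Submodule.mem_span_singleton.2 ⟨-(r * a * t), by module⟩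
        have hwY : ∀ r : F, a • f - (r * a) • (s • f + z) ∈ pperp Q e d := fun r =>
          Submodule.sub_mem _ hafY (Submodule.smul_mem _ _ (Submodule.add_mem _ (Submodule.smul_mem _ _ H.hf) hzZ.1))
        have hon : Orthonormal ℂ fun r : F => ρ (tr Q v (r • x0)) x := by
          refine ⟨fun r => by rw [C.unit.norm_eq, hx1], fun r r' hne => ?_⟩
          refine C.E_orth H.p (hwY r) (hwY r') (fun h => hne ?_) (hmem r) (hmem r')
          have h2 := congrArg (fun w => polar Q w y1) h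
          simp only [b_sub_left, b_smul_left, b_add_left, hy1, H.zf hy1Z, mul_zero, zero_add, mul_one, zero_sub,
            neg_inj] at h2
          exact mul_right_cancel₀ ha h2
        have hbes := sum_norm_proj_le hon (ℂ ∙ (Fx Q ρ ψ v).starProjection x)
        obtain ⟨u, hu⟩ : ∃ u, (Fx Q ρ ψ v).starProjection x = u := ⟨_, rfl⟩
        rw [hu] at hbes ⊢
        rcases eq_or_ne u 0 with h0 | h0
        · rw [h0]; simp
        rw [finrank_span_singleton h0] at hbes
        have hin : ∀ r : F, ⟪u, ρ (tr Q v (r • x0)) x⟫_ℂ = ((‖u‖ ^ 2 : ℝ) : ℂ) := by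
          intro r
          have h1 : ∀ y, ⟪u, y⟫_ℂ = ⟪u, (Fx Q ρ ψ v).starProjection y⟫_ℂ := fun y => by
            rw [← Submodule.inner_starProjection_left_eq_right, Submodule.starProjection_eq_self_iff.2
              (hu ▸ Submodule.starProjection_apply_mem _ _)]
          rw [h1, C.unit.proj_absorb (fun w hw => mem_Fx.1 hw _ (hT r)), hu, Complex.ofReal_pow,
            ← Complex.coe_algebraMap, ← inner_self_eq_norm_sq_to_K (𝕜 := ℂ)]
        have hterm : ∀ r : F, ‖(ℂ ∙ u).starProjection (ρ (tr Q v (r • x0)) x)‖ ^ 2 = ‖u‖ ^ 2 := fun r => by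
          rw [Submodule.starProjection_singleton, hin r, norm_smul]
          have hn : (0 : ℝ) < ‖u‖ := norm_pos_iff.2 h0
          simp [abs_of_pos hn, pow_succ]
          field_simp
        simp only [hterm, Finset.sum_const, Finset.card_univ, nsmul_eq_mul, Nat.cast_one] at hbes
        rwa [← one_div, le_div_iff₀ (Nat.cast_pos.2 Fintype.card_pos), mul_comm]
      refine (Finset.sum_le_card_nsmul _ _ _ fun t _ => hkey t).trans (le_of_eq ?_)
      rw [Finset.card_univ, nsmul_eq_mul, mul_inv_cancel₀ (Nat.cast_ne_zero.2 Fintype.card_ne_zero)]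
  · have h2 : ∀ b ∈ Finset.univ.erase (0 : F), ∑ y ∈ Finset.univ.filter (· ∈ pperp Q e d),
        ‖(Fx Q ρ ψ ((-Q y / b) • e + b • d + y)).starProjection x‖ ^ 2 =
        Nat.card (pperp Q e d) * ‖(Fx Q ρ ψ d).starProjection x‖ ^ 2 := by
      intro b hb
      rw [Finset.sum_congr rfl fun y hy => by
          rw [C.norm_proj_big H.p (Finset.mem_filter.1 hy).2 (Finset.ne_of_mem_erase hb) hx],
        Finset.sum_const, nsmul_eq_mul, Nat.card_eq_fintype_card (α := pperp Q e d), Fintype.card_subtype]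
    rw [Finset.sum_congr rfl h2, Finset.sum_const, nsmul_eq_mul, hc1]

end Ctx

end Cfsg.Agent.OrthDeg
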