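/-
Divisibility coming from scalar elements of the integral group ring.
-/
import Cfsg.Agent.Lib.OrthDeg.ProjSum
import Mathlib.Algebra.MonoidAlgebra.Basic
import Mathlib.RingTheory.IntegralClosure.Algebra.Basic
import Mathlib.RingTheory.IntegralClosure.IntegrallyClosed
import Mathlib.RingTheory.PrincipalIdealDomain

set_option autoImplicit false

namespace Cfsg.Agent.OrthDeg

open QuadraticMap Module Cfsg.Agent.Orth

universe u v

/-- A scalar in the image of the integral group ring with rational value gives a divisibility. -/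
theorem dvd_of_scalar {G : Type*} [Group G] [Finite G] {W : Type*} [NormedAddCommGroup W]
    [InnerProductSpace ℂ W] [Nontrivial W] (ρ : G →* (W →ₗ[ℂ] W)) {ι : Type*} (S : Finset ι) (g : ι → G)
    {c : ℂ} (hc : ∀ x, ∑ i ∈ S, ρ (g i) x = c • x) {k : ℕ} {N : ℤ} (hk : 0 < k) (hN : c * k = N) :
    (k : ℤ) ∣ N := by
  classical
  haveI := Fintype.ofFinite G
  let f : MonoidAlgebra ℤ G →ₐ[ℤ] Module.End ℂ W := MonoidAlgebra.lift ℤ (Module.End ℂ W) G ρ
  have hz : IsIntegral ℤ (∑ i ∈ S, MonoidAlgebra.single (g i) (1 : ℤ)) := IsIntegral.of_finite ℤ _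
  have h2 := hz.map f
  have h3 : f (∑ i ∈ S, MonoidAlgebra.single (g i) (1 : ℤ)) = algebraMap ℂ (Module.End ℂ W) c := by
    rw [map_sum]
    refine LinearMap.ext fun x => ?_
    rw [LinearMap.sum_apply, Module.algebraMap_end_apply, ← hc x]
    exact Finset.sum_congr rfl fun i _ => by simp [f]
  rw [h3] at h2
  have h4 : IsIntegral ℤ c := (isIntegral_algHom_iff ((Algebra.ofId ℂ (Module.End ℂ W)).restrictScalars ℤ)
    (algebraMap ℂ (Module.End ℂ W)).injective).mp h2
  have hk0 : (k : ℂ) ≠ 0 := Nat.cast_ne_zero.2 hk.ne'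
  have hc' : c = algebraMap ℚ ℂ ((N : ℚ) / k) := by
    rw [map_div₀, map_intCast, map_natCast, eq_div_iff hk0, hN]
  rw [hc'] at h4
  obtain ⟨n, hn⟩ := IsIntegrallyClosed.isIntegral_iff.1
    ((isIntegral_algebraMap_iff (algebraMap ℚ ℂ).injective).1 h4)
  refine ⟨n, ?_⟩
  rw [eq_intCast] at hn
  have h5 : (N : ℚ) = (k : ℚ) * n := by
    rw [hn, mul_div_cancel₀]
    exact_mod_cast hk.ne'
  exact_mod_cast h5

variable {F : Type u} {V : Type v} [Field F] [Fintype F] [AddCommGroup V] [Module F V] [FiniteDimensional F V]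
  [Fintype V] {Q : QuadraticForm F V}
  {W : Type} [NormedAddCommGroup W] [InnerProductSpace ℂ W] [FiniteDimensional ℂ W]
  {ρ : omg Q →* (W →ₗ[ℂ] W)} {ψ : AddChar F ℂ}

/-- The degree divides a multiple of the dimension of the fixed space. -/
theorem Ctx.dvd_proj (C : Ctx Q ρ ψ) (hirr : Irred ρ) (hne : ∃ g x, ρ g x ≠ x) {e : V} (he0 : e ≠ 0)
    (he : Q e = 0) :
    finrank ℂ W ∣ Nat.card F ^ (finrank F V - 1) * ((sgF Q ⊤).card * finrank ℂ (Fx Q ρ ψ e)) := by
  classical
  obtain ⟨c, hc, htr⟩ := C.proj_sum_op hirr he0 he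
  have hk := C.finrank_pos_rep hne
  haveI : Nontrivial W := Module.nontrivial_of_finrank_pos hk
  -- the sum over one root group
  have hone : ∀ v ∈ sgF Q ⊤, ∀ x, ∑ y ∈ Finset.univ.filter (fun y : V => polar Q v y = 0), ρ (tr Q v y) x
      = ((Nat.card F ^ (finrank F V - 1) : ℕ) : ℂ) • (Fx Q ρ ψ v).starProjection x := by
    intro v hv x
    obtain ⟨-, hv0, hvq⟩ := mem_sgF.1 hv
    have hcard : (Finset.univ.filter fun y : V => polar Q v y = 0).card = Nat.card F ^ (finrank F V - 1) := by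
      have h1 : finrank F (orth1 Q v) = finrank F V - 1 := by
        have hne : polarBilin Q v ≠ 0 := fun h => hv0 (eq_zero_of_b C.good.nd fun y => LinearMap.congr_fun h y)
        have h2 : finrank F (orth1 Q v) + 1 = finrank F V := Module.Dual.finrank_ker_add_one_of_ne_zero hne
        omega
      rw [← h1, ← card_submodule, Nat.card_eq_fintype_card, Fintype.card_subtype]
      rfl
    have hpos : ((Nat.card F ^ (finrank F V - 1) : ℕ) : ℂ) ≠ 0 :=
      Nat.cast_ne_zero.2 (pow_ne_zero _ Nat.card_pos.ne')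
    obtain ⟨S, hS⟩ : ∃ S, (Finset.univ.filter fun y : V => polar Q v y = 0) = S := ⟨_, rfl⟩
    rw [hS] at hcard ⊢
    have hmem : ∀ y ∈ S, polar Q v y = 0 := fun y hy => by rw [← hS, Finset.mem_filter] at hy; exact hy.2
    rw [(Fx Q ρ ψ v).eq_starProjection_of_mem_of_inner_eq_zero (u := x)
      (v := ((Nat.card F ^ (finrank F V - 1) : ℕ) : ℂ)⁻¹ • ∑ y ∈ S, ρ (tr Q v y) x) ?_ ?_, smul_smul,
      mul_inv_cancel₀ hpos, one_smul]
    · rw [mem_Fx]
      intro y hy
      rw [map_smul, map_sum]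
      congr 1
      refine Finset.sum_bij' (fun z _ => y + z) (fun z _ => z - y) ?_ ?_ ?_ ?_ ?_
      · intro z hz
        simp only [← hS, Finset.mem_filter, Finset.mem_univ, true_and, b_add_right, hy, hmem z hz, add_zero]
      · intro z hz
        simp only [← hS, Finset.mem_filter, Finset.mem_univ, true_and, b_sub_right, hy, hmem z hz, sub_zero]
      · intro z _; abel
      · intro z _; abel
      · intro z hz
        rw [tr_add C.good hvq hy (hmem z hz), rho_mul]
    · intro z hz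
      have h1 : ∀ y ∈ S, inner ℂ (ρ (tr Q v y) x) z = inner ℂ x z := fun y hy => by
        conv_lhs => rw [← mem_Fx.1 hz y (hmem y hy)]
        exact C.unit _ _ _
      rw [inner_sub_left, inner_smul_left, sum_inner, Finset.sum_congr rfl h1, Finset.sum_const, hcard,
        nsmul_eq_mul, map_inv₀, map_natCast, ← mul_assoc, inv_mul_cancel₀ hpos, one_mul, sub_self]
  haveI : Finite (omg Q) := finite_omg
  have h := dvd_of_scalar ρ ((sgF Q ⊤).sigma fun v => Finset.univ.filter fun y : V => polar Q v y = 0)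
    (fun s => tr Q s.1 s.2) (c := ((Nat.card F ^ (finrank F V - 1) : ℕ) : ℂ) * c) (fun x => by
      rw [Finset.sum_sigma, Finset.sum_congr rfl fun v hv => hone v hv x, ← Finset.smul_sum, hc, smul_smul])
    hk (N := ((Nat.card F ^ (finrank F V - 1) * ((sgF Q ⊤).card * finrank ℂ (Fx Q ρ ψ e)) : ℕ) : ℤ))
    (by rw [mul_assoc, htr]; push_cast; ring)
  exact Int.natCast_dvd_natCast.1 h

end Cfsg.Agent.OrthDeg
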