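/-
The scalar by which the small fixed spaces sum up, and a family of test vectors.
-/
import Cfsg.Agent.Lib.OrthDeg.ProjSum

set_option autoImplicit false

namespace Cfsg.Agent.OrthDeg

open QuadraticMap Module Cfsg.Agent.Orth
open scoped InnerProductSpace

universe u v

variable {F : Type u} {V : Type v} [Field F] [Fintype F] [AddCommGroup V] [Module F V] [FiniteDimensional F V]
  [Fintype V] {Q : QuadraticForm F V}
  {W : Type} [NormedAddCommGroup W] [InnerProductSpace ℂ W] [FiniteDimensional ℂ W]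
  {ρ : omg Q →* (W →ₗ[ℂ] W)} {ψ : AddChar F ℂ}

/-- The embedded Omega is irreducible on the fixed space. -/
def FxIrred (Q : QuadraticForm F V) (ρ : omg Q →* (W →ₗ[ℂ] W)) (ψ : AddChar F ℂ) : Prop :=
  ∀ (e d : V) (p : IsPair Q e d), ∀ L ≤ Fx Q ρ ψ e, (∀ h, ∀ x ∈ L, ρ (extW p h) x ∈ L) → L = ⊥ ∨ L = Fx Q ρ ψ e

namespace Ctx

variable (C : Ctx Q ρ ψ)

include C

omit [Fintype V] in
theorem extW_map {e d : V} (p : IsPair Q e d) (h : omg (restr Q (pperp Q e d))) {y : V} (hy : y ∈ pperp Q e d) :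
    app (extW p h) y ∈ pperp Q e d := by
  obtain ⟨h1, h2⟩ := mem_pperp.1 hy
  rw [mem_pperp]
  constructor
  · have h3 := b_app (extW p h) e y
    rwa [extW_e, h1] at h3
  · have h3 := b_app (extW p h) d y
    rwa [extW_d, h2] at h3

omit [Fintype V] in
theorem finrank_KK_frame {e d f g : V} (H : Frame Q e d f g) {e' y : V} (he' : Q e' = 0) (he'0 : e' ≠ 0)
    (hy : Q y = 0) (hey : polar Q e' y = 0) (hns : y ∉ Submodule.span F {e'}) :
    finrank ℂ (KK Q ρ ψ e' y) = finrank ℂ (KK Q ρ ψ e f) :=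
  C.finrank_KK_eq H.p.qe H.p'.qe he' hy H.ef hey (indep_pperp H.p H.hf H.p'.ne)
    ((LinearIndependent.pair_iff' he'0).2 fun t ht => hns (Submodule.mem_span_singleton.2 ⟨t, ht⟩))

/-- The sum of the projections to the small fixed spaces is a scalar on Fx e. -/
theorem cscal (hirr : FxIrred Q ρ ψ) {e₀ d₀ f₀ g₀ : V} (H₀ : Frame Q e₀ d₀ f₀ g₀) {e d : V} (p : IsPair Q e d)
    {x : W} (hx : x ∈ Fx Q ρ ψ e) :
    (finrank ℂ (Fx Q ρ ψ e) : ℝ) * ∑ y ∈ sgF Q (pperp Q e d), ‖(KK Q ρ ψ e y).starProjection x‖ ^ 2 =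
      (sgF Q (pperp Q e d)).card * finrank ℂ (KK Q ρ ψ e₀ f₀) * ‖x‖ ^ 2 := by
  classical
  obtain ⟨T, hT⟩ : ∃ T : W →ₗ[ℂ] W, ∑ y ∈ sgF Q (pperp Q e d),
      ((KK Q ρ ψ e y).starProjection : W →ₗ[ℂ] W) = T := ⟨_, rfl⟩
  have hTx : ∀ x, T x = ∑ y ∈ sgF Q (pperp Q e d), (KK Q ρ ψ e y).starProjection x := fun x => by
    rw [← hT, LinearMap.sum_apply]; rfl
  obtain ⟨c, hc⟩ := schur_on (ρ := ρ) (extW p) (hirr e d p) (fun h z hz => C.extW_stable p h hz) T
    (fun z hz => by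
      rw [hTx]
      exact Submodule.sum_mem _ fun y _ => (Submodule.mem_inf.1 (Submodule.starProjection_apply_mem _ z)).1)
    fun h z hz => by
      rw [hTx, hTx, map_sum]
      have hinv : ∀ y, app (extW p h⁻¹) (app (extW p h) y) = y ∧ app (extW p h) (app (extW p h⁻¹) y) = y :=
        fun y => ⟨by rw [map_inv, app_inv_app], by rw [map_inv, app_app_inv]⟩
      have hmem : ∀ k, ∀ y ∈ sgF Q (pperp Q e d), app (extW p k) y ∈ sgF Q (pperp Q e d) := fun k y hy => by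
        obtain ⟨h1, h2, h3⟩ := mem_sgF.1 hy
        exact mem_sgF.2 ⟨C.extW_map p k h1, app_ne _ h2, by rw [q_app, h3]⟩
      refine Finset.sum_nbij' (fun y => app (extW p h⁻¹) y) (fun y => app (extW p h) y)
        (fun y hy => hmem _ y hy) (fun y hy => hmem _ y hy) (fun y _ => (hinv y).2) (fun y _ => (hinv y).1) ?_
      intro y hy
      refine C.unit.proj_map (fun w => ?_) z
      have h3 := C.KK_map (ψ := ψ) (e := e) (f := app (extW p h⁻¹) y) p.qe
        (mem_sgF.1 (hmem h⁻¹ y hy)).2.2 (extW p h) (x := w)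
      rwa [extW_e, (hinv y).2] at h3
  have hle : ∀ y ∈ sgF Q (pperp Q e d), KK Q ρ ψ e y ≤ Fx Q ρ ψ e := fun y _ => inf_le_left
  have htr : c * finrank ℂ (Fx Q ρ ψ e) =
      (((sgF Q (pperp Q e d)).card * finrank ℂ (KK Q ρ ψ e₀ f₀) : ℕ) : ℂ) := by
    have h1 : T = c • ((Fx Q ρ ψ e).starProjection : W →ₗ[ℂ] W) := LinearMap.ext fun z => by
      show T z = c • (Fx Q ρ ψ e).starProjection z
      rw [← hc _ (Submodule.starProjection_apply_mem _ _), hTx, hTx]
      exact Finset.sum_congr rfl fun y hy => (proj_comp_le (hle y hy) z).symm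
    have h2 := congrArg (LinearMap.trace ℂ W) h1
    rw [map_smul, trace_proj, smul_eq_mul, ← hT, map_sum] at h2
    rw [← h2, Finset.sum_congr rfl fun y hy => (trace_proj _).trans (congrArg Nat.cast
      (C.finrank_KK_frame H₀ p.qe p.ne (mem_sgF.1 hy).2.2 (mem_pperp.1 (mem_sgF.1 hy).1).1 fun hm => by
        obtain ⟨t, ht⟩ := Submodule.mem_span_singleton.1 hm
        have h4 := (mem_pperp.1 (mem_sgF.1 hy).1).2
        rw [← ht, b_smul_right, p.de, mul_one] at h4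
        exact (mem_sgF.1 hy).2.1 (by rw [← ht, h4, zero_smul]))),
      Finset.sum_const, nsmul_eq_mul, Nat.cast_mul]
  have hsum : ((∑ y ∈ sgF Q (pperp Q e d), ‖(KK Q ρ ψ e y).starProjection x‖ ^ 2 : ℝ) : ℂ)
      = c * ((‖x‖ ^ 2 : ℝ) : ℂ) := by
    rw [Complex.ofReal_sum, Finset.sum_congr rfl fun y _ => norm_sq_proj _ x, ← inner_sum, ← hTx,
      hc x hx, inner_smul_right, Complex.ofReal_pow, inner_self_eq_norm_sq_to_K]
    rfl
  apply Complex.ofReal_injective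
  rw [Complex.ofReal_mul, hsum, ← mul_assoc, Complex.ofReal_natCast, mul_comm _ c, htr]
  push_cast
  ring

/-- The bound on the projection to Fx d. -/
theorem nu_le (hirr : FxIrred Q ρ ψ) {e₀ d₀ f₀ g₀ : V} (H₀ : Frame Q e₀ d₀ f₀ g₀) {e d f g : V}
    (H : Frame Q e d f g) {x : W} (hx : x ∈ MM Q ρ e f) :
    (finrank ℂ (Fx Q ρ ψ f) : ℝ) * (((Nat.card F : ℝ) - 1) * Nat.card (Z4 Q e d f g) *
        ‖(Fx Q ρ ψ d).starProjection x‖ ^ 2) ≤
      (sgF Q (pperp Q f g)).card * finrank ℂ (KK Q ρ ψ e₀ f₀) * ‖(Fx Q ρ ψ f).starProjection x‖ ^ 2 := by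
  classical
  obtain ⟨v, hv⟩ : ∃ v, (Fx Q ρ ψ f).starProjection x = v := ⟨_, rfl⟩
  have hvK : v ∈ KK Q ρ ψ f e := hv ▸ C.proj_f_mem hx H.p.qe H.p'.qe H.ef
  rw [← C.proj_d_f H hx, hv, ← C.cscal hirr H₀ H.p' hvK.1]
  refine mul_le_mul_of_nonneg_left ?_ (Nat.cast_nonneg _)
  have hinf : pperp Q f g ⊓ pperp Q e d = Z4 Q e d f g := inf_comm _ _
  rw [sum_sgF H.p H.symm.hf H.symm.hg]
  simp only [hinf]
  refine le_trans ?_ (le_add_of_nonneg_left (add_nonneg (Finset.sum_nonneg fun _ _ => sq_nonneg _)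
    (Finset.sum_nonneg fun _ _ => Finset.sum_nonneg fun _ _ => sq_nonneg _)))
  refine le_trans (le_of_eq ?_) (Finset.sum_le_sum (f := fun _ => (Nat.card (Z4 Q e d f g) : ℝ) *
      ‖(Fx Q ρ ψ d).starProjection v‖ ^ 2) fun b hb => ?_)
  · rw [Finset.sum_const, Finset.card_erase_of_mem (Finset.mem_univ _), Finset.card_univ, nsmul_eq_mul,
      Nat.cast_sub Fintype.card_pos, Nat.cast_one, Nat.card_eq_fintype_card (α := F)]
    ring
  refine le_trans (le_of_eq ?_) (Finset.card_nsmul_le_sum _ _ (‖(Fx Q ρ ψ d).starProjection v‖ ^ 2) fun z hz => ?_)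
  · rw [nsmul_eq_mul, Nat.card_eq_fintype_card, Fintype.card_subtype]
  have hb0 := Finset.ne_of_mem_erase hb
  have hz' := (Finset.mem_filter.1 hz).2
  obtain ⟨T, hT, h0, hrep⟩ := C.sing_repr H.p (y := z) hz'.1 hb0
  have hTf : app T f = f := hT ▸ tr_fix C.good H.p.qe h0 H.fe (by rw [b_smul_right, H.zf hz', mul_zero])
  have hfd : polar Q f (app T d) = 0 := by rw [← hTf, b_app, H.fd]
  have hTv : ρ T v = (1 : ℂ) • v := by
    rw [one_smul, hT]
    exact ((mem_MM.1 hvK.2) _ (by rw [b_smul_right, H.zf hz', mul_zero]) h0).2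
  simp only [hrep, C.KK_scale (e := f) (y := app T d) hb0 (by rw [q_app, H.p.qd]) hfd]
  rw [C.norm_proj_move (K := KK Q ρ ψ f d) (K' := KK Q ρ ψ f (app T d)) (fun w => by
    have h3 := C.KK_map (ψ := ψ) H.p'.qe H.p.qd T (x := w)
    rwa [hTf] at h3) hTv norm_one]
  exact pow_le_pow_left₀ (norm_nonneg _) (C.norm_proj_le_KK H.p'.qe H.p.qd H.fd hvK.1) 2

variable {e d f g : V} (H : Frame Q e d f g)

include H

omit [Fintype V] in
/-- The labelled lines lie in the small fixed space. -/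
theorem line_le_MM (hL : LamLine Q ρ ψ e d f g) {a : F} (ha : a ≠ 0) : E Q ρ ψ e (a • f) ≤ MM Q ρ e f := by
  intro x hx
  rw [mem_MM]
  intro y h1 h2
  refine ⟨by rw [hx y h1, b_smul_left, h2, mul_zero, AddChar.map_zero_eq_one, one_smul], ?_⟩
  have hz := H.split_ef h1 h2
  obtain ⟨z, hzdef⟩ : ∃ z, y - polar Q y d • e - polar Q y g • f = z := ⟨_, rfl⟩
  rw [hzdef] at hz
  have a1 : polar Q f (polar Q y d • e) = 0 := by rw [b_smul_right, H.fe, mul_zero]
  have a2 : polar Q f (polar Q y g • f) = 0 := by rw [b_smul_right, H.p'.ee, mul_zero]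
  have a3 : polar Q f (polar Q y d • e + polar Q y g • f) = 0 := by rw [b_add_right, a1, a2, add_zero]
  rw [show y = polar Q y d • e + polar Q y g • f + z by rw [← hzdef]; abel,
    tr_add C.good H.p'.qe a3 (H.zf hz), tr_add C.good H.p'.qe a1 a2, tr_self C.good H.p'.qe, mul_one]
  refine fix_mul ?_ (hL a ha z hz x hx)
  have hef : polar Q e (-f) = 0 := by rw [← neg_one_smul F f, b_smul_right, H.ef, mul_zero]
  rw [tr_swap C.good H.p'.qe (by rw [q_smul, H.p.qe, mul_zero]) a1, tr_scale C.good _ H.p.qe hef,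
    hx _ (by rw [b_smul_right, hef, mul_zero]), b_smul_left, b_smul_right, ← neg_one_smul F f, b_smul_right,
    H.p'.ee, mul_zero, mul_zero, mul_zero, AddChar.map_zero_eq_one, one_smul]

theorem finrank_MM_le (hline : ∀ a : F, a ≠ 0 → finrank ℂ (E Q ρ ψ e (a • f)) ≤ 1) :
    finrank ℂ (MM Q ρ e f) ≤ finrank ℂ (KK Q ρ ψ e f) + (Nat.card F - 1) := by
  classical
  haveI := Fintype.ofFinite (pperp Q e d)
  have hdec := (C.unit.eig_decomp (t := fun y : pperp Q e d => tr Q e (y : V)) (C.charFam H.p) (C.tr_add_pperp H.p)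
    (tr_zero C.good H.p.qe) (K := MM Q ρ e f)
    fun a x hx => C.MM_stable H.p.qe H.p'.qe H.ef (mem_pperp.1 a.2).1 hx).2
  have hsub : ∀ w : pperp Q e d, eigS ρ (fun y : pperp Q e d => tr Q e (y : V)) (MM Q ρ e f)
      (fun y => ψ (polar Q (w : V) (y : V))) ≤ E Q ρ ψ e (w : V) ⊓ MM Q ρ e f := fun w x hx =>
    Submodule.mem_inf.2 ⟨by rw [C.E_eq_eigS H.p w]; exact ⟨Submodule.mem_top, hx.2⟩, hx.1⟩
  obtain ⟨L, hL⟩ : ∃ L, (Finset.univ.erase (0 : F)).image
      (fun a => (⟨a • f, Submodule.smul_mem _ _ H.hf⟩ : pperp Q e d)) = L := ⟨_, rfl⟩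
  rw [hdec, ← Finset.add_sum_erase _ _ (Finset.mem_univ (0 : pperp Q e d))]
  refine add_le_add (Submodule.finrank_mono fun x hx => ?_) ?_
  · have := hsub 0 hx
    rwa [Submodule.coe_zero] at this
  calc ∑ w ∈ Finset.univ.erase (0 : pperp Q e d), _
      = ∑ w ∈ L, finrank ℂ (eigS ρ (fun y : pperp Q e d => tr Q e (y : V)) (MM Q ρ e f)
          (fun y => ψ (polar Q (w : V) (y : V)))) := by
        refine (Finset.sum_subset (fun w hw => ?_) fun w hw hwL => ?_).symm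
        · rw [← hL, Finset.mem_image] at hw
          obtain ⟨a, ha, rfl⟩ := hw
          refine Finset.mem_erase.2 ⟨fun h => smul_ne_zero (Finset.ne_of_mem_erase ha) H.p'.ne
            (congrArg Subtype.val h), Finset.mem_univ _⟩
        · rw [Submodule.finrank_eq_zero]
          by_contra h0
          obtain ⟨x, hx, hx0⟩ := (Submodule.ne_bot_iff _).1 h0
          obtain ⟨hxE, hxM⟩ := Submodule.mem_inf.1 (hsub w hx)
          have hperp : ∀ y, polar Q e y = 0 → polar Q f y = 0 → polar Q (w : V) y = 0 := by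
            intro y h1 h2
            refine psi_eq_zero C.psi fun t => ?_
            have h3 := ((mem_MM.1 hxM) (t • y) (by rw [b_smul_right, h1, mul_zero])
              (by rw [b_smul_right, h2, mul_zero])).1
            rw [hxE _ (by rw [b_smul_right, h1, mul_zero]), b_smul_right, mul_comm] at h3
            exact smul_left_injective ℂ hx0 (by simpa using h3)
          have h1 := H.part_mem w.2
          rw [hperp f H.ef H.p'.ee, zero_smul, sub_zero] at h1
          have h2 := C.z4_nondeg H _ h1 fun b hb => by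
            rw [b_sub_left, b_smul_left, H.zf hb, hperp b (H.ze hb) (H.zf hb), mul_zero, sub_zero]
          rw [sub_eq_zero] at h2
          refine hwL ?_
          rw [← hL, Finset.mem_image]
          refine ⟨polar Q (w : V) g, Finset.mem_erase.2 ⟨fun h => Finset.ne_of_mem_erase hw
            (Subtype.ext (by rw [h2, h, zero_smul]; rfl)), Finset.mem_univ _⟩, Subtype.ext h2.symm⟩
    _ ≤ L.card • 1 := Finset.sum_le_card_nsmul _ _ _ fun w hw => by
        rw [← hL, Finset.mem_image] at hw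
        obtain ⟨a, ha, rfl⟩ := hw
        exact (Submodule.finrank_mono fun x hx => (Submodule.mem_inf.1 (hsub _ hx)).1).trans
          (hline a (Finset.ne_of_mem_erase ha))
    _ ≤ Nat.card F - 1 := by
        rw [smul_eq_mul, mul_one, ← hL, Nat.card_eq_fintype_card, ← Finset.card_univ,
          ← Finset.card_erase_of_mem (Finset.mem_univ (0 : F))]
        exact Finset.card_image_le

omit [Fintype V] in
/-- An orthonormal family of test vectors. -/
theorem exists_test [Fintype V] [DecidableEq F] (hL : LamLine Q ρ ψ e d f g)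
    (hline : ∀ a : F, a ≠ 0 → finrank ℂ (E Q ρ ψ e (a • f)) = 1) :
    ∃ (ε : ℕ) (u : Fin ε → W) (z : {a : F // a ≠ 0} → W), ε ≤ finrank ℂ (KK Q ρ ψ e f) ∧ ε ≤ Nat.card F - 1 ∧
      (∀ j, u j ∈ KK Q ρ ψ e f ∧ ‖u j‖ = 1) ∧ (∀ a, z a ∈ E Q ρ ψ e (a.1 • f) ∧ ‖z a‖ = 1) ∧
      (∑ j, ‖(Fx Q ρ ψ f).starProjection (u j)‖ ^ 2) + ∑ a, ‖(Fx Q ρ ψ f).starProjection (z a)‖ ^ 2 ≤ ε := by
  classical
  have hsame : finrank ℂ (KK Q ρ ψ f e) = finrank ℂ (KK Q ρ ψ e f) :=
    C.finrank_KK_frame H H.p'.qe H.p'.ne H.p.qe H.fe fun h => by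
      obtain ⟨t, ht⟩ := Submodule.mem_span_singleton.1 h
      have h1 := H.p.de
      rw [← ht, b_smul_right, H.df, mul_zero] at h1
      exact zero_ne_one h1
  obtain ⟨F0, hF0⟩ : ∃ F0, KK Q ρ ψ e f ⊓ KK Q ρ ψ f e = F0 := ⟨_, rfl⟩
  obtain ⟨N, hN⟩ : ∃ N, F0ᗮ ⊓ KK Q ρ ψ e f = N := ⟨_, rfl⟩
  obtain ⟨N', hN'⟩ : ∃ N', F0ᗮ ⊓ KK Q ρ ψ f e = N' := ⟨_, rfl⟩
  have hz : ∀ a : {a : F // a ≠ 0}, ∃ z ∈ E Q ρ ψ e (a.1 • f), ‖z‖ = 1 := by
    intro a
    have hne : E Q ρ ψ e (a.1 • f) ≠ ⊥ := fun h => by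
      have := hline a.1 a.2
      rw [h, finrank_bot] at this
      exact zero_ne_one this
    obtain ⟨z, hz, hz0⟩ := (Submodule.ne_bot_iff _).1 hne
    exact ⟨(‖z‖ : ℂ)⁻¹ • z, Submodule.smul_mem _ _ hz, norm_smul_inv_norm hz0⟩
  choose z hz hz1 using hz
  let b := stdOrthonormalBasis ℂ N
  have hmM : ∀ {K : Submodule ℂ W}, K ≤ MM Q ρ e f → F0ᗮ ⊓ K ≤ F0ᗮ ⊓ MM Q ρ e f := fun h => inf_le_inf_left _ h
  have hd1 := Submodule.finrank_add_inf_finrank_orthogonal (K₁ := F0) (K₂ := KK Q ρ ψ e f) (hF0 ▸ inf_le_left)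
  have hd2 := Submodule.finrank_add_inf_finrank_orthogonal (K₁ := F0) (K₂ := KK Q ρ ψ f e) (hF0 ▸ inf_le_right)
  rw [hN] at hd1
  rw [hN', hsame] at hd2
  have hMle := C.finrank_MM_le H (fun a ha => (hline a ha).le)
  have hd3 := Submodule.finrank_add_inf_finrank_orthogonal (K₁ := F0) (K₂ := MM Q ρ e f)
    (hF0 ▸ (inf_le_left.trans inf_le_right))
  have hsum : finrank ℂ N + finrank ℂ N' ≤ finrank ℂ (F0ᗮ ⊓ MM Q ρ e f : Submodule ℂ W) := by
    rw [← Submodule.finrank_sup_add_finrank_inf_eq, show N ⊓ N' = ⊥ from ?_, finrank_bot, add_zero]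
    · refine Submodule.finrank_mono (sup_le ?_ ?_)
      · rw [← hN]; exact hmM inf_le_right
      · rw [← hN', MM_comm e f]; exact inf_le_inf_left _ inf_le_right
    rw [Submodule.eq_bot_iff]
    intro x hx
    obtain ⟨h1, h2⟩ := Submodule.mem_inf.1 hx
    rw [← hN] at h1
    rw [← hN'] at h2
    exact inner_self_eq_zero.1 (h1.1 x (hF0 ▸ ⟨h1.2, h2.2⟩))
  have hbN : ∀ j, (b j : W) ∈ F0ᗮ ∧ (b j : W) ∈ KK Q ρ ψ e f := fun j => by
    have := (b j).2
    simp only [← hN] at this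
    exact this
  have hafY : ∀ a : {a : F // a ≠ 0}, a.1 • f ∈ pperp Q e d := fun a => Submodule.smul_mem _ _ H.hf
  have haf0 : ∀ a : {a : F // a ≠ 0}, a.1 • f ≠ 0 := fun a => smul_ne_zero a.2 H.p'.ne
  have hzperp : ∀ a, z a ∈ F0ᗮ := fun a w hw => by
    rw [← hF0] at hw
    exact C.E_orth H.p (Submodule.zero_mem _) (hafY a) (haf0 a).symm hw.1.1 (hz a)
  let x : Fin (finrank ℂ N) ⊕ {a : F // a ≠ 0} → W := Sum.elim (fun j => (b j : W)) z
  have hx : Orthonormal ℂ x := by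
    refine ⟨fun i => ?_, fun i i' hne => ?_⟩
    · rcases i with j | a
      · exact b.orthonormal.1 j
      · exact hz1 a
    rcases i with j | a <;> rcases i' with j' | a' <;> simp only [x, Sum.elim_inl, Sum.elim_inr]
    · exact (Submodule.coe_inner N _ _).symm.trans (b.orthonormal.2 fun h => hne (by rw [h]))
    · exact C.E_orth H.p (Submodule.zero_mem _) (hafY a') (haf0 a').symm (hbN j).2.1 (hz a')
    · exact C.E_orth H.p (hafY a) (Submodule.zero_mem _) (haf0 a) (hz a) (hbN j').2.1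
    · refine C.E_orth H.p (hafY a) (hafY a') (fun h => hne ?_) (hz a) (hz a')
      rw [Subtype.ext (smul_left_injective F H.p'.ne h : a.1 = a'.1)]
  have hxM : ∀ i, x i ∈ F0ᗮ ∧ x i ∈ MM Q ρ e f := by
    rintro (j | a)
    · exact ⟨(hbN j).1, (hbN j).2.2⟩
    · exact ⟨hzperp a, C.line_le_MM H hL a.2 (hz a)⟩
  have hP : ∀ i, (Fx Q ρ ψ f).starProjection (x i) = N'.starProjection (x i) := by
    intro i
    have h1 : (Fx Q ρ ψ f).starProjection (x i) ∈ N' := by
      rw [← hN']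
      refine Submodule.mem_inf.2 ⟨fun w hw => ?_, C.proj_f_mem (hxM i).2 H.p.qe H.p'.qe H.ef⟩
      have hwf : w ∈ Fx Q ρ ψ f := by rw [← hF0] at hw; exact hw.2.1
      rw [← Submodule.inner_starProjection_left_eq_right, Submodule.starProjection_eq_self_iff.2 hwf]
      exact (hxM i).1 w hw
    have h2 : N' ≤ Fx Q ρ ψ f := hN' ▸ (inf_le_right.trans inf_le_left)
    rw [← proj_comp_le h2 (x i), Submodule.starProjection_eq_self_iff.2 h1]
  refine ⟨finrank ℂ N, fun j => b j, z, by omega, by omega, fun j => ⟨(hbN j).2, b.orthonormal.1 j⟩,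
    fun a => ⟨hz a, hz1 a⟩, ?_⟩
  have h := sum_norm_proj_le hx N'
  simp only [← hP, Fintype.sum_sum_type, x, Sum.elim_inl, Sum.elim_inr] at h
  rwa [show finrank ℂ N' = finrank ℂ N by omega] at h

end Ctx

end Cfsg.Agent.OrthDeg
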