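/-
The base cases with at most one core fixed line, and the numerical part of the plus base.
-/
import Cfsg.Agent.Lib.OrthDeg.Scalar
import Cfsg.Agent.Lib.OrthDeg.Integral

set_option autoImplicit false

namespace Cfsg.Agent.OrthDeg

open QuadraticMap Module Cfsg.Agent.Orth
open scoped InnerProductSpace

universe u v

variable {F : Type u} {V : Type v} [Field F] [Fintype F] [AddCommGroup V] [Module F V] [FiniteDimensional F V]
  [Fintype V] {Q : QuadraticForm F V}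
  {W : Type} [NormedAddCommGroup W] [InnerProductSpace ℂ W] [FiniteDimensional ℂ W]
  {ρ : omg Q →* (W →ₗ[ℂ] W)} {ψ : AddChar F ℂ}

theorem minus_arith {q : ℤ} (hq : 2 ≤ q) {j : ℕ}
    (h : q ^ 5 + q - 1 ∣ q ^ j * ((q ^ 7 - q ^ 4 + q ^ 3 - 1) * (q * (q ^ 2 - q + 1)))) : False := by
  have hpos : 0 < q ^ 2 - q + 1 := by nlinarith
  have h1 : q ^ 3 + q ^ 2 - 1 ∣ q ^ (j + 1) * (q ^ 7 - q ^ 4 + q ^ 3 - 1) := by
    refine Int.dvd_of_mul_dvd_mul_right hpos.ne' ?_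
    rw [show (q ^ 3 + q ^ 2 - 1) * (q ^ 2 - q + 1) = q ^ 5 + q - 1 by ring,
      show q ^ (j + 1) * (q ^ 7 - q ^ 4 + q ^ 3 - 1) * (q ^ 2 - q + 1) =
        q ^ j * ((q ^ 7 - q ^ 4 + q ^ 3 - 1) * (q * (q ^ 2 - q + 1))) by ring]
    exact h
  have hc : IsCoprime (q ^ 3 + q ^ 2 - 1) q := ⟨-1, q ^ 2 + q, by ring⟩
  have h2 := (hc.pow_right (n := j + 1)).dvd_of_dvd_mul_left h1
  have h3 : q ^ 3 + q ^ 2 - 1 ∣ q := by
    have h4 := dvd_sub (Dvd.intro (q ^ 4 - q ^ 3 + q ^ 2 - q + 1) rfl : q ^ 3 + q ^ 2 - 1 ∣ _) h2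
    rwa [show (q ^ 3 + q ^ 2 - 1) * (q ^ 4 - q ^ 3 + q ^ 2 - q + 1) - (q ^ 7 - q ^ 4 + q ^ 3 - 1) = q by ring] at h4
  have := Int.le_of_dvd (by omega) h3
  nlinarith

theorem plus_arith {q : ℤ} (hq : 4 ≤ q) {j : ℕ}
    (h : q ^ 5 + 2 * q ^ 3 + q - 1 ∣ q ^ j * ((q ^ 7 + q ^ 4 - q ^ 3 - 1) * (q * (q ^ 2 + q + 1)))) : False := by
  have hpos : 0 < q ^ 2 + q + 1 := by nlinarith
  have h1 : q ^ 3 - q ^ 2 + 2 * q - 1 ∣ q ^ (j + 1) * (q ^ 7 + q ^ 4 - q ^ 3 - 1) := by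
    refine Int.dvd_of_mul_dvd_mul_right hpos.ne' ?_
    rw [show (q ^ 3 - q ^ 2 + 2 * q - 1) * (q ^ 2 + q + 1) = q ^ 5 + 2 * q ^ 3 + q - 1 by ring,
      show q ^ (j + 1) * (q ^ 7 + q ^ 4 - q ^ 3 - 1) * (q ^ 2 + q + 1) =
        q ^ j * ((q ^ 7 + q ^ 4 - q ^ 3 - 1) * (q * (q ^ 2 + q + 1))) by ring]
    exact h
  have hc : IsCoprime (q ^ 3 - q ^ 2 + 2 * q - 1) q := ⟨-1, q ^ 2 - q + 2, by ring⟩
  have h2 := (hc.pow_right (n := j + 1)).dvd_of_dvd_mul_left h1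
  have h4 := dvd_sub h2 (Dvd.intro (q ^ 4 + q ^ 3 - q ^ 2 - q + 1) rfl : q ^ 3 - q ^ 2 + 2 * q - 1 ∣ _)
  rw [show (q ^ 7 + q ^ 4 - q ^ 3 - 1) - (q ^ 3 - q ^ 2 + 2 * q - 1) * (q ^ 4 + q ^ 3 - q ^ 2 - q + 1)
    = q * (2 * q - 3) by ring] at h4
  have := Int.le_of_dvd (by omega) (hc.dvd_of_dvd_mul_left h4)
  nlinarith

theorem odd_arith {q : ℤ} (hq : 2 ≤ q) {j : ℕ} (h : q ^ 4 + q ^ 2 - 1 ∣ q ^ j * ((q ^ 6 - 1) * q ^ 2)) :
    False := by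
  have hc : IsCoprime (q ^ 4 + q ^ 2 - 1) q := ⟨-1, q ^ 3 + q, by ring⟩
  rw [show q ^ j * ((q ^ 6 - 1) * q ^ 2) = q ^ (j + 2) * (q ^ 6 - 1) by ring] at h
  have h2 := (hc.pow_right (n := j + 2)).dvd_of_dvd_mul_left h
  have h4 := dvd_sub h2 (Dvd.intro (q ^ 2) rfl : q ^ 4 + q ^ 2 - 1 ∣ _)
  have h5 := dvd_add h4 (dvd_refl (q ^ 4 + q ^ 2 - 1))
  rw [show q ^ 6 - 1 - (q ^ 4 + q ^ 2 - 1) * q ^ 2 + (q ^ 4 + q ^ 2 - 1) = 2 * q ^ 2 - 2 by ring] at h5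
  have := Int.le_of_dvd (by nlinarith) h5
  nlinarith [mul_le_mul hq hq (by norm_num) (by omega)]

theorem minus_zero_arith {q k : ℝ} (hq : 2 ≤ q) (hk : k = q ^ 5 + q - 2)
    (h : q ^ 7 - q ^ 4 + q ^ 3 - 1 ≤ k * q) : False := by
  subst hk
  nlinarith [pow_le_pow_left₀ (by norm_num) hq 4, pow_le_pow_left₀ (by norm_num) hq 2, mul_nonneg (mul_nonneg (show (0:ℝ) ≤ q ^ 4 by positivity) (show (0:ℝ) ≤ q - 2 by linarith)) (show (0:ℝ) ≤ q by linarith)]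

namespace Ctx

variable (C : Ctx Q ρ ψ) {c i : ℕ} {e d f g : V} (H : Frame Q e d f g)

include C H

/-- No labelled line survives without a core fixed line. -/
theorem no_core (hirr : Irred ρ) (S : Small Q ρ ψ e d f g c i)
    (h0 : finrank ℂ (KK Q ρ ψ e f) = 0) :
    ((sgF Q ⊤).card : ℝ) * finrank ℂ (Fx Q ρ ψ e) ≤
      finrank ℂ W * (Nat.card F * (sgF Q (Z4 Q e d f g)).card) := by
  classical
  have h1 : finrank ℂ (E Q ρ ψ e ((1 : F) • f)) = 1 :=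
    S.sing _ (Submodule.smul_mem _ _ H.hf) (by rw [one_smul]; exact H.p'.ne) (by rw [one_smul, H.p'.qe])
  have hne : E Q ρ ψ e ((1 : F) • f) ≠ ⊥ := fun h => by
    rw [h, finrank_bot] at h1
    exact zero_ne_one h1
  obtain ⟨z, hz, hz0⟩ := (Submodule.ne_bot_iff _).1 hne
  obtain ⟨x, hx⟩ : ∃ x, (‖z‖ : ℂ)⁻¹ • z = x := ⟨_, rfl⟩
  have hxE : x ∈ E Q ρ ψ e ((1 : F) • f) := hx ▸ Submodule.smul_mem _ _ hz
  have hx1 : ‖x‖ = 1 := hx ▸ norm_smul_inv_norm hz0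
  have hM := C.line_le_MM H S.line one_ne_zero hxE
  have hpf : (Fx Q ρ ψ f).starProjection x = 0 := by
    have h2 : finrank ℂ (KK Q ρ ψ f e) = 0 := h0 ▸ C.finrank_KK_frame H H.p'.qe H.p'.ne H.p.qe H.fe fun h => by
      obtain ⟨t, ht⟩ := Submodule.mem_span_singleton.1 h
      have h1 := H.p.de
      rw [← ht, b_smul_right, H.df, mul_zero] at h1
      exact zero_ne_one h1
    have h3 := C.proj_f_mem (ψ := ψ) hM H.p.qe H.p'.qe H.ef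
    rwa [Submodule.finrank_eq_zero.1 h2, Submodule.mem_bot] at h3
  have hpd : (Fx Q ρ ψ d).starProjection x = 0 := by rw [← C.proj_d_f H hM, hpf, map_zero]
  have h4 := C.sum_le_z H one_ne_zero hxE hx1
  rw [hpf, hpd, norm_zero] at h4
  have h5 := C.proj_sum hirr H.p.ne H.p.qe x
  rw [hx1, one_pow, mul_one] at h5
  rw [← h5]
  refine mul_le_mul_of_nonneg_left (h4.trans (le_of_eq ?_)) (Nat.cast_nonneg _)
  simp

theorem base_minus (hirr : Irred ρ) (hne : ∃ g x, ρ g x ≠ x) (hT : HasType Q 2 3)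
    (S : Small Q ρ ψ e d f g 2 1) : False := by
  obtain ⟨q, hqdef⟩ : ∃ q, Nat.card F = q := ⟨_, rfl⟩
  have hq2 : 2 ≤ q := hqdef ▸ Finite.one_lt_card
  have hv := card_sgF hT.top
  have hz := card_sgF (z4_type (i := 1) C.good.nd hT H)
  have h1 := S.dim
  have h2 := S.fx
  have h3 := S.fxle
  rw [hqdef] at hv hz h1 h2 h3
  have hz1 : (zc q 2 1 : ℤ) = q ^ 3 - q ^ 2 + q := by
    simp only [zc]
    push_cast [Nat.cast_sub (show 1 ≤ q by omega)]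
    ring
  have hz2 : (zc q 2 2 : ℤ) = q ^ 5 - q ^ 3 + q ^ 2 := by
    simp only [zc]
    push_cast [Nat.cast_sub (show 1 ≤ q by omega)]
    ring
  have hz3 : (zc q 2 3 : ℤ) = q ^ 7 - q ^ 4 + q ^ 3 := by
    simp only [zc]
    push_cast [Nat.cast_sub (show 1 ≤ q by omega)]
    ring
  have hm : mdeg q 2 2 = zc q 2 1 := by
    simp [mdeg, dd, zc]
  simp only [Nat.reduceAdd] at h1 h2 h3
  rw [hm] at h3
  have hd : finrank ℂ (KK Q ρ ψ e f) = 0 ∨ finrank ℂ (KK Q ρ ψ e f) = 1 := by omega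
  have hp1 := zc_pos q 2 (by omega) 1
  have hp3 := zc_pos q 2 (by omega) 3
  rcases hd with hd | hd
  · have h := C.no_core H hirr S hd
    have e1 : (finrank ℂ (Fx Q ρ ψ e) : ℤ) = q ^ 3 - q ^ 2 + q - 1 := by omega
    have e2 : (finrank ℂ W : ℤ) = q ^ 5 + q - 2 := by push_cast [] at *; omega
    have e3 : ((sgF Q (Z4 Q e d f g)).card : ℤ) = q ^ 3 - q ^ 2 + q - 1 := by omega
    have e4 : ((sgF Q ⊤).card : ℤ) = q ^ 7 - q ^ 4 + q ^ 3 - 1 := by omega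
    have r1 := congrArg (fun z : ℤ => (z : ℝ)) e1
    have r2 := congrArg (fun z : ℤ => (z : ℝ)) e2
    have r3 := congrArg (fun z : ℤ => (z : ℝ)) e3
    have r4 := congrArg (fun z : ℤ => (z : ℝ)) e4
    simp only [Int.cast_natCast] at r1 r2 r3 r4
    push_cast at r1 r2 r3 r4
    rw [r1, r3, r4, hqdef] at h
    have hqR : (2 : ℝ) ≤ q := by exact_mod_cast hq2
    refine minus_zero_arith hqR r2 (le_of_mul_le_mul_right ?_ (show (0 : ℝ) < q ^ 3 - q ^ 2 + q - 1 by nlinarith))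
    linarith
  · have h := Int.natCast_dvd_natCast.2 (C.dvd_proj hirr hne H.p.ne H.p.qe)
    have e1 : (finrank ℂ (Fx Q ρ ψ e) : ℤ) = q * ((q : ℤ) ^ 2 - q + 1) := by
      rw [show (q : ℤ) * ((q : ℤ) ^ 2 - q + 1) = q ^ 3 - q ^ 2 + q by ring]
      omega
    have e2 : (finrank ℂ W : ℤ) = q ^ 5 + q - 1 := by
      have : (q : ℤ) * ((q : ℤ) ^ 2 - q + 1) = q ^ 3 - q ^ 2 + q := by ring
      omega
    have e4 : ((sgF Q ⊤).card : ℤ) = q ^ 7 - q ^ 4 + q ^ 3 - 1 := by omega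
    rw [Nat.cast_mul, Nat.cast_mul, Nat.cast_pow, e1, e2, e4, hqdef] at h
    exact minus_arith (by omega) h

theorem base_plus (hirr : Irred ρ) (hne : ∃ g x, ρ g x ≠ x) (hT : HasType Q 0 4) (hq : 4 ≤ Nat.card F)
    (S : Small Q ρ ψ e d f g 0 2) (hfx : mdeg (Nat.card F) 0 3 ≤ finrank ℂ (Fx Q ρ ψ e)) : False := by
  obtain ⟨q, hqdef⟩ : ∃ q, Nat.card F = q := ⟨_, rfl⟩
  have hv := card_sgF hT.top
  have h1 := S.dim
  have h3 := S.fxle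
  rw [hqdef] at hv h1 h3 hfx hq
  have hz4 : (zc q 0 4 : ℤ) = q ^ 7 + q ^ 4 - q ^ 3 := by
    simp only [zc]
    push_cast [Nat.cast_sub (show 1 ≤ q by omega)]
    ring
  have hz3 : (zc q 0 3 : ℤ) = q ^ 5 + q ^ 3 - q ^ 2 := by
    simp only [zc]
    push_cast [Nat.cast_sub (show 1 ≤ q by omega)]
    ring
  have hm : (mdeg q 0 3 : ℤ) = q * ((q : ℤ) ^ 2 + q + 1) := by
    simp only [mdeg, dd, zc, Nat.zero_div, Nat.sub_zero]
    push_cast [Nat.cast_sub (show 1 ≤ q by omega)]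
    ring
  have hp4 := zc_pos q 0 (by omega) 4
  simp only [Nat.reduceAdd] at h1 h3
  have h := Int.natCast_dvd_natCast.2 (C.dvd_proj hirr hne H.p.ne H.p.qe)
  have e1 : (finrank ℂ (Fx Q ρ ψ e) : ℤ) = q * ((q : ℤ) ^ 2 + q + 1) := by omega
  have hexp : (q : ℤ) * ((q : ℤ) ^ 2 + q + 1) = q ^ 3 + q ^ 2 + q := by ring
  have e2 : (finrank ℂ W : ℤ) = q ^ 5 + 2 * q ^ 3 + q - 1 := by omega
  have e4 : ((sgF Q ⊤).card : ℤ) = q ^ 7 + q ^ 4 - q ^ 3 - 1 := by omega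
  rw [Nat.cast_mul, Nat.cast_mul, Nat.cast_pow, e1, e2, e4, hqdef] at h
  exact plus_arith (by omega) h

theorem base_odd_small (hirr : Irred ρ) (hne : ∃ g x, ρ g x ≠ x) (hT : HasType Q 1 3)
    (S : Small Q ρ ψ e d f g 1 1) : finrank ℂ (KK Q ρ ψ e f) = 2 := by
  obtain ⟨q, hqdef⟩ : ∃ q, Nat.card F = q := ⟨_, rfl⟩
  have hq2 : 2 ≤ q := hqdef ▸ Finite.one_lt_card
  have hv := card_sgF hT.top
  have hz := card_sgF (z4_type (i := 1) C.good.nd hT H)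
  have h1 := S.dim
  have h2 := S.fx
  have h3 := S.fxle
  rw [hqdef] at hv hz h1 h2 h3
  have hz1 : (zc q 1 1 : ℤ) = q ^ 2 := by
    simp only [zc]
    push_cast [Nat.cast_sub (show 1 ≤ q by omega)]
    ring
  have hz2 : (zc q 1 2 : ℤ) = q ^ 4 := by
    simp only [zc]
    push_cast [Nat.cast_sub (show 1 ≤ q by omega)]
    ring
  have hz3 : (zc q 1 3 : ℤ) = q ^ 6 := by
    simp only [zc]
    push_cast [Nat.cast_sub (show 1 ≤ q by omega)]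
    ring
  have hm : mdeg q 1 2 = zc q 1 1 + 1 := by
    simp [mdeg, dd, zc]
  simp only [Nat.reduceAdd] at h1 h2 h3
  rw [hm] at h3
  have hp1 := zc_pos q 1 (by omega) 1
  have hp3 := zc_pos q 1 (by omega) 3
  by_contra hne2
  have hd : finrank ℂ (KK Q ρ ψ e f) = 0 ∨ finrank ℂ (KK Q ρ ψ e f) = 1 := by omega
  rcases hd with hd | hd
  · have h := C.no_core H hirr S hd
    have e1 : (finrank ℂ (Fx Q ρ ψ e) : ℤ) = q ^ 2 - 1 := by omega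
    have e2 : (finrank ℂ W : ℤ) = q ^ 4 + q ^ 2 - 2 := by omega
    have e3 : ((sgF Q (Z4 Q e d f g)).card : ℤ) = q ^ 2 - 1 := by omega
    have e4 : ((sgF Q ⊤).card : ℤ) = q ^ 6 - 1 := by omega
    have hi : ((sgF Q ⊤).card : ℤ) * finrank ℂ (Fx Q ρ ψ e) ≤
        finrank ℂ W * ((Nat.card F : ℤ) * (sgF Q (Z4 Q e d f g)).card) := by
      exact_mod_cast h
    rw [e1, e2, e3, e4, hqdef] at hi
    have hq' : (2 : ℤ) ≤ q := by exact_mod_cast hq2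
    have h5 : (q : ℤ) ^ 6 - 1 ≤ (q ^ 4 + q ^ 2 - 2) * q :=
      le_of_mul_le_mul_right (by linarith) (show (0 : ℤ) < q ^ 2 - 1 by nlinarith)
    have h6 : (0 : ℤ) ≤ q ^ 5 * (q - 2) := mul_nonneg (by positivity) (by omega)
    have h7 : (0 : ℤ) ≤ q ^ 3 * (q ^ 2 - 2) := mul_nonneg (by positivity) (by nlinarith)
    nlinarith [pow_le_pow_left₀ (by norm_num : (0 : ℤ) ≤ 2) hq' 3]
  · have h := Int.natCast_dvd_natCast.2 (C.dvd_proj hirr hne H.p.ne H.p.qe)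
    have e1 : (finrank ℂ (Fx Q ρ ψ e) : ℤ) = (q : ℤ) ^ 2 := by omega
    have e2 : (finrank ℂ W : ℤ) = q ^ 4 + q ^ 2 - 1 := by omega
    have e4 : ((sgF Q ⊤).card : ℤ) = q ^ 6 - 1 := by omega
    rw [Nat.cast_mul, Nat.cast_mul, Nat.cast_pow, e1, e2, e4, hqdef] at h
    exact odd_arith (by omega) h

end Ctx

end Cfsg.Agent.OrthDeg
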