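/-
Traces of unitary involutions through orthogonal decompositions, and class sums.
-/
import Cfsg.Agent.Lib.OrthDeg.Unitary
import Cfsg.Agent.Lib.OrthDeg.Sub

set_option autoImplicit false

namespace Cfsg.Agent.OrthDeg

open Module
open scoped InnerProductSpace

variable {G : Type*} [Group G] {W : Type*} [NormedAddCommGroup W] [InnerProductSpace ℂ W] [FiniteDimensional ℂ W]
  {ρ : G →* (W →ₗ[ℂ] W)}

/-- The trace of an operator compressed to a subspace. -/
noncomputable def ctrace (K : Submodule ℂ W) (A : W →ₗ[ℂ] W) : ℂ :=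
  LinearMap.trace ℂ W ((K.starProjection : W →ₗ[ℂ] W) * A)

theorem ctrace_top (A : W →ₗ[ℂ] W) : ctrace ⊤ A = LinearMap.trace ℂ W A := by
  refine congrArg (LinearMap.trace ℂ W)
    (show ((⊤ : Submodule ℂ W).starProjection : W →ₗ[ℂ] W) * A = A from LinearMap.ext fun x => ?_)
  rw [Module.End.mul_apply]
  exact Submodule.starProjection_eq_self_iff.2 Submodule.mem_top

/-- Compressed traces add along a decomposition. -/
theorem ctrace_sum {ι : Type*} [Fintype ι] (E : ι → Submodule ℂ W) (K : Submodule ℂ W)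
    (hle : ∀ i, E i ≤ K) (h : ∀ x ∈ K, ∑ i, (E i).starProjection x = x) (A : W →ₗ[ℂ] W) :
    ctrace K A = ∑ i, ctrace (E i) A := by
  have hmap : (K.starProjection : W →ₗ[ℂ] W) = ∑ i, ((E i).starProjection : W →ₗ[ℂ] W) := by
    refine LinearMap.ext fun x => ?_
    rw [LinearMap.sum_apply]
    show K.starProjection x = ∑ i, (E i).starProjection x
    rw [← h _ (K.starProjection_apply_mem x)]
    exact Finset.sum_congr rfl fun i _ => proj_comp_le (hle i) x
  unfold ctrace
  rw [hmap, Finset.sum_mul, map_sum]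

/-- An operator acting as a scalar after compression. -/
theorem ctrace_scalar (E : Submodule ℂ W) (A : W →ₗ[ℂ] W) (η : ℂ)
    (hA : ∀ x ∈ E, E.starProjection (A x) = η • x) : ctrace E A = η * finrank ℂ E := by
  have h1 : (E.starProjection : W →ₗ[ℂ] W) * A * (E.starProjection : W →ₗ[ℂ] W) =
      η • (E.starProjection : W →ₗ[ℂ] W) := LinearMap.ext fun x => by
    rw [Module.End.mul_apply, Module.End.mul_apply, LinearMap.smul_apply]
    exact hA _ (E.starProjection_apply_mem x)
  have h2 : (E.starProjection : W →ₗ[ℂ] W) * (E.starProjection : W →ₗ[ℂ] W) = E.starProjection :=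
    LinearMap.ext fun x => by
      rw [Module.End.mul_apply]
      exact proj_comp_le le_rfl x
  have h3 := congrArg (LinearMap.trace ℂ W) h1
  rw [LinearMap.trace_mul_cycle, h2, map_smul, trace_proj, smul_eq_mul] at h3
  exact h3

/-- The part of a subspace where an element acts by a given scalar. -/
def sgS (ρ : G →* (W →ₗ[ℂ] W)) (s : G) (K : Submodule ℂ W) (η : ℂ) : Submodule ℂ W where
  carrier := {x | x ∈ K ∧ ρ s x = η • x}
  add_mem' {x y} hx hy := ⟨K.add_mem hx.1 hy.1, by rw [map_add, hx.2, hy.2, smul_add]⟩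
  zero_mem' := ⟨K.zero_mem, by rw [map_zero, smul_zero]⟩
  smul_mem' c x hx := ⟨K.smul_mem c hx.1, by rw [map_smul, hx.2, smul_comm]⟩

theorem mem_sgS {s : G} {K : Submodule ℂ W} {η : ℂ} {x : W} :
    x ∈ sgS ρ s K η ↔ x ∈ K ∧ ρ s x = η • x := Iff.rfl

/-- A stable subspace splits into the two parts of an involution. -/
theorem IsUnitary.sgn_split (hu : IsUnitary ρ) {s : G} (hs : s * s = 1) {K : Submodule ℂ W}
    (hK : ∀ x ∈ K, ρ s x ∈ K) :
    finrank ℂ K = finrank ℂ (sgS ρ s K 1) + finrank ℂ (sgS ρ s K (-1)) ∧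
      ctrace K (ρ s) = (finrank ℂ (sgS ρ s K 1) : ℂ) - finrank ℂ (sgS ρ s K (-1)) := by
  have hss : ∀ x, ρ s (ρ s x) = x := fun x => by rw [← rho_mul, hs, rho_one]
  have hproj : ∀ (η : ℂ), η * η = 1 → ∀ x ∈ K,
      (sgS ρ s K η).starProjection x = (2 : ℂ)⁻¹ • (x + η • ρ s x) := by
    intro η hη x hx
    refine Submodule.eq_starProjection_of_mem_of_inner_eq_zero
      ⟨K.smul_mem _ (K.add_mem hx (K.smul_mem _ (hK x hx))), ?_⟩ fun y hy => ?_
    · rw [map_smul, map_add, map_smul, hss, smul_comm η, smul_add, smul_add, smul_add, smul_smul η η, hη, one_smul]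
      abel
    · have h1 : ⟪ρ s x, y⟫_ℂ = η * ⟪x, y⟫_ℂ := by
        rw [← hu s x y, ← inner_smul_right, hy.2, smul_smul, hη, one_smul]
      have hcη : (starRingEnd ℂ) η = η := by
        rcases mul_self_eq_one_iff.1 hη with rfl | rfl <;> simp
      rw [inner_sub_left, inner_smul_left, inner_add_left, inner_smul_left, h1, hcη, ← mul_assoc η, hη, one_mul,
        map_inv₀, map_ofNat]
      ring
  let E : Fin 2 → Submodule ℂ W := ![sgS ρ s K 1, sgS ρ s K (-1)]
  have hle : ∀ i, E i ≤ K := fun i x hx => by fin_cases i <;> exact hx.1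
  have hsum : ∀ x ∈ K, ∑ i, (E i).starProjection x = x := fun x hx => by
    rw [Fin.sum_univ_two]
    show (sgS ρ s K 1).starProjection x + (sgS ρ s K (-1)).starProjection x = x
    rw [hproj 1 (one_mul 1) x hx, hproj (-1) (by norm_num) x hx]
    module
  constructor
  · rw [finrank_of_sum_proj E K hle hsum, Fin.sum_univ_two]
    rfl
  · rw [ctrace_sum E K hle hsum, Fin.sum_univ_two]
    show ctrace (sgS ρ s K 1) _ + ctrace (sgS ρ s K (-1)) _ = _
    rw [ctrace_scalar (sgS ρ s K 1) (ρ s) 1 (fun x hx => by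
        rw [hx.2, map_smul, Submodule.starProjection_eq_self_iff.2 hx]),
      ctrace_scalar (sgS ρ s K (-1)) (ρ s) (-1) (fun x hx => by
        rw [hx.2, map_smul, Submodule.starProjection_eq_self_iff.2 hx])]
    ring

omit [FiniteDimensional ℂ W] in
/-- An element commuting with s carries its sign. -/
theorem sgn_transfer {T s : G} (hc : T * s = s * T) {E E' : Submodule ℂ W}
    (h : ∀ x, ρ T x ∈ E' ↔ x ∈ E) {η : ℂ} (hE : ∀ x ∈ E, ρ s x = η • x) {x : W} (hx : x ∈ E') :
    ρ s x = η • x := by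
  have h1 : ρ T⁻¹ x ∈ E := (h _).1 (by rwa [rho_apply_inv])
  conv_lhs => rw [← rho_apply_inv (ρ := ρ) T x, ← rho_mul, ← hc, rho_mul, hE _ h1, map_smul, rho_apply_inv]

/-- On a stable line an involution has a sign. -/
theorem IsUnitary.line_sgn (hu : IsUnitary ρ) {s : G} (hs : s * s = 1) {K : Submodule ℂ W}
    (hK : ∀ x ∈ K, ρ s x ∈ K) (h1 : finrank ℂ K = 1) :
    ∃ η : ℤ, (η = 1 ∨ η = -1) ∧ ∀ x ∈ K, ρ s x = (η : ℂ) • x := by
  obtain ⟨hsum, -⟩ := hu.sgn_split hs hK
  have hfull : ∀ (η : ℂ), finrank ℂ (sgS ρ s K η) = 1 → ∀ x ∈ K, ρ s x = η • x := fun η hη x hx => by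
    have h2 := Submodule.eq_of_le_of_finrank_le (S₁ := sgS ρ s K η) (fun y hy => hy.1) (le_of_eq (h1.trans hη.symm) :
      finrank ℂ K ≤ finrank ℂ (sgS ρ s K η))
    exact (h2.symm ▸ hx : x ∈ sgS ρ s K η).2
  rcases Nat.eq_zero_or_pos (finrank ℂ (sgS ρ s K 1)) with h | h
  · exact ⟨-1, Or.inr rfl, by push_cast; exact hfull (-1) (by omega)⟩
  · exact ⟨1, Or.inl rfl, by push_cast; exact hfull 1 (by omega)⟩

/-- A set of conjugates sums to a scalar with known trace. -/
theorem trace_conj_sum {ι : Type*} (S : Finset ι) (g : ι → G) (s : G) {c : ℂ}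
    (hc : ∀ x, ∑ i ∈ S, ρ (g i * s * (g i)⁻¹) x = c • x) :
    c * finrank ℂ W = S.card * LinearMap.trace ℂ W (ρ s) := by
  have h1 : ∑ i ∈ S, ρ (g i * s * (g i)⁻¹) = c • LinearMap.id := LinearMap.ext fun x => by
    rw [LinearMap.sum_apply, hc, LinearMap.smul_apply, LinearMap.id_apply]
  have h2 := congrArg (LinearMap.trace ℂ W) h1
  rw [map_sum, map_smul, LinearMap.trace_id, smul_eq_mul,
    Finset.sum_congr rfl (g := fun _ => LinearMap.trace ℂ W (ρ s)) fun i _ => ?_, Finset.sum_const,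
    nsmul_eq_mul] at h2
  · exact h2.symm
  rw [map_mul, LinearMap.trace_mul_comm, ← map_mul, ← mul_assoc, inv_mul_cancel, one_mul]

end Cfsg.Agent.OrthDeg
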