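/-
Dimension seven, odd characteristic: an involution of Omega that is a negative reflection, and elements
centralising it.
-/
import Cfsg.Agent.Lib.OrthDeg.Supp

set_option autoImplicit false

namespace Cfsg.Agent.OrthDeg

open QuadraticMap Module Cfsg.Agent.Orth

universe u v

variable {F : Type u} {V : Type v} [Field F] [Fintype F] [AddCommGroup V] [Module F V] [FiniteDimensional F V]
  {Q : QuadraticForm F V}

/-- A frame with an orthogonal basis of the core. -/
structure OddFrame (Q : QuadraticForm F V) (e d f g a b x : V) : Prop where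
  H : Frame Q e d f g
  ha : a ∈ Z4 Q e d f g
  hb : b ∈ Z4 Q e d f g
  hx : x ∈ Z4 Q e d f g
  qa : Q a = 1
  qb : Q b = 1
  qx : Q x ≠ 0
  ab : polar Q a b = 0
  ax : polar Q a x = 0
  bx : polar Q b x = 0
  full : ∀ z ∈ Z4 Q e d f g, polar Q z a = 0 → polar Q z b = 0 → polar Q z x = 0 → z = 0

omit [Fintype F] [FiniteDimensional F V] in
theorem line_nondeg (h2 : (2 : F) ≠ 0) {a : V} (ha : Q a ≠ 0) :
    ∀ v ∈ Submodule.span F {a}, (∀ w ∈ Submodule.span F {a}, polar Q v w = 0) → v = 0 := by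
  intro v hv h
  obtain ⟨s, rfl⟩ := Submodule.mem_span_singleton.1 hv
  have h1 := h a (Submodule.mem_span_singleton_self a)
  rw [b_smul_left, b_self] at h1
  rw [(mul_eq_zero.1 h1).resolve_right (mul_ne_zero h2 ha), zero_smul]

theorem exists_oddFrame (hG : Good Q) (h2 : (2 : F) ≠ 0) (hT : HasType Q 1 3) {e d f g : V}
    (H : Frame Q e d f g) : ∃ a b x, OddFrame Q e d f g a b x := by
  obtain ⟨Z, hZ⟩ : ∃ Z, Z4 Q e d f g = Z := ⟨_, rfl⟩
  have hty := z4_type (i := 1) hG.nd hT H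
  have hnd : (polarBilin (restr Q Z)).Nondegenerate := by
    have pY : IsPair (restr Q (pperp Q e d)) ⟨f, H.hf⟩ ⟨g, H.hg⟩ := ⟨H.p'.qe, H.p'.qd, H.p'.ed⟩
    refine nondeg_restr fun z hz h => ?_
    rw [← hZ] at hz h
    refine eq_zero_of_b hG.nd fun v => ?_
    obtain ⟨y, hy⟩ : ∃ y, v - polar Q v d • e - polar Q v e • d = y := ⟨_, rfl⟩
    have hyY : y ∈ pperp Q e d := hy ▸ pperp_part H.p v
    have h1 := h _ (H.part_mem hyY)
    simp only [b_sub_right, b_smul_right, b_comm z f, b_comm z g, H.zf hz, H.zg hz, mul_zero, sub_zero] at h1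
    rw [← hy, b_sub_right, b_sub_right, b_smul_right, b_smul_right, b_comm z e, b_comm z d, H.ze hz, H.zd hz] at h1
    simpa using h1
  rw [hZ] at hty
  have hd3 : finrank F Z = 3 := hty.1
  obtain ⟨a, ha⟩ := exists_value hnd (by omega) 1
  have hl := line_nondeg (Q := restr Q Z) h2 (ha.symm ▸ one_ne_zero : restr Q Z a ≠ 0)
  have ha0 : a ≠ 0 := fun h => by rw [h, map_zero] at ha; exact zero_ne_one ha
  have hfr := finrank_perp hl
  rw [finrank_span_singleton ha0] at hfr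
  have hnd2 := nondeg_restr (perp_nondeg hnd hl)
  obtain ⟨b, hb⟩ := exists_value hnd2 (by omega) 1
  have hl2 := line_nondeg (Q := restr (restr Q Z) (perp (restr Q Z) (F ∙ a))) h2
    (hb.symm ▸ one_ne_zero : restr (restr Q Z) (perp (restr Q Z) (F ∙ a)) b ≠ 0)
  have hb0 : b ≠ 0 := fun h => by rw [h, map_zero] at hb; exact zero_ne_one hb
  have hfr2 := finrank_perp hl2
  rw [finrank_span_singleton hb0] at hfr2
  have hnd3 := nondeg_restr (perp_nondeg hnd2 hl2)
  have hfr3 : 1 ≤ finrank F (perp (restr (restr Q Z) (perp (restr Q Z) (F ∙ a))) (F ∙ b)) := by omega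
  have hle : finrank F (perp (restr (restr Q Z) (perp (restr Q Z) (F ∙ a))) (F ∙ b)) ≤ 1 := by
    have u1 := Submodule.finrank_add_finrank_le_of_disjoint (s := F ∙ a) (t := perp (restr Q Z) (F ∙ a))
      (Submodule.disjoint_def.2 fun v hv hv' => hl v hv fun w hw => by rw [b_comm]; exact hv' w hw)
    have u2 := Submodule.finrank_add_finrank_le_of_disjoint (s := F ∙ b)
      (t := perp (restr (restr Q Z) (perp (restr Q Z) (F ∙ a))) (F ∙ b))
      (Submodule.disjoint_def.2 fun v hv hv' => hl2 v hv fun w hw => by rw [b_comm]; exact hv' w hw)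
    rw [finrank_span_singleton ha0] at u1
    rw [finrank_span_singleton hb0] at u2
    omega
  have := Module.nontrivial_of_finrank_pos (R := F) hfr3
  obtain ⟨x, hx0⟩ := exists_ne (0 : perp (restr (restr Q Z) (perp (restr Q Z) (F ∙ a))) (F ∙ b))
  have hx : restr (restr (restr Q Z) (perp (restr Q Z) (F ∙ a)))
      (perp (restr (restr Q Z) (perp (restr Q Z) (F ∙ a))) (F ∙ b)) x ≠ 0 := fun h => by
    refine hx0 (eq_zero_of_b hnd3 fun y => ?_)
    obtain ⟨s, rfl⟩ := (finrank_eq_one_iff_of_nonzero' x hx0).1 (le_antisymm hle hfr3) y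
    rw [b_smul_right, b_self, h, mul_zero, mul_zero]
  let x₂ : perp (restr Q Z) (F ∙ a) := x
  let x₁ : Z := x₂
  let b₁ : Z := b
  have hax : polar Q (a : V) (x₁ : V) = 0 := x₂.2 a (Submodule.mem_span_singleton_self a)
  have hbx : polar Q (b₁ : V) (x₁ : V) = 0 := x.2 b (Submodule.mem_span_singleton_self b)
  have hab : polar Q (a : V) (b₁ : V) = 0 := b.2 a (Submodule.mem_span_singleton_self a)
  have hmem : ∀ z : Z, (z : V) ∈ Z4 Q e d f g := fun z => hZ.symm ▸ z.2
  refine ⟨a, b₁, x₁, H, hmem a, hmem b₁, hmem x₁, ha, hb, hx, hab, hax, hbx, fun z hz k1 k2 k3 => ?_⟩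
  rw [hZ] at hz
  have m1 : (⟨z, hz⟩ : Z) ∈ perp (restr Q Z) (F ∙ a) := mem_perp_span.2 (by
    intro w hw; rw [Set.mem_singleton_iff] at hw; subst hw
    rw [b_comm]; exact k1)
  have m2 : (⟨_, m1⟩ : perp (restr Q Z) (F ∙ a)) ∈ perp (restr (restr Q Z) (perp (restr Q Z) (F ∙ a))) (F ∙ b) :=
    mem_perp_span.2 (by
      intro w hw; rw [Set.mem_singleton_iff] at hw; subst hw
      rw [b_comm]; exact k2)
  obtain ⟨s, hs⟩ := (finrank_eq_one_iff_of_nonzero' x hx0).1 (le_antisymm hle hfr3) ⟨⟨⟨z, hz⟩, m1⟩, m2⟩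
  have hz' : z = s • (x₁ : V) := by
    have := congrArg (fun w : perp (restr (restr Q Z) (perp (restr Q Z) (F ∙ a))) (F ∙ b) =>
      (((w : perp (restr Q Z) (F ∙ a)) : Z) : V)) hs
    exact this.symm
  rw [hz', b_smul_left, b_self] at k3
  rw [hz', (mul_eq_zero.1 k3).resolve_right (mul_ne_zero h2 hx), zero_smul]

theorem refl_apply {r : oGroup Q} {a : V} (h : IsRefl r.1 Q a) (v : V) : r.1 v = v - (polar Q v a / Q a) • a := h.2 v

theorem exists_reflG {a : V} (ha : Q a ≠ 0) : ∃ r : oGroup Q, IsRefl r.1 Q a := by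
  obtain ⟨r, hr, h⟩ := exists_isRefl ha
  exact ⟨⟨r, hr⟩, h⟩

/-- An isometry can be corrected to lie in Omega without changing it on the orthogonal of a plane. -/
theorem exists_correct (hG : Good Q) {R : Submodule F V} (hR : ∀ a ∈ R, (∀ b ∈ R, polar Q a b = 0) → a = 0)
    (hdim : 2 ≤ finrank F R) (g : oGroup Q) :
    ∃ h : omg Q, ∀ v, (∀ r ∈ R, polar Q v r = 0) → app h v = g.1 v := by
  obtain ⟨χ, hker, hχ⟩ := spinor_exists_ker hG.nd hG.dim
  have hr : ∀ c : SqCls F, ∃ r : oGroup Q, χ r = (Multiplicative.ofAdd 1, c) ∧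
      ∀ v, (∀ r ∈ R, polar Q v r = 0) → r.1 v = v := by
    intro c
    obtain ⟨u, rfl⟩ := QuotientGroup.mk_surjective c
    obtain ⟨w, hw⟩ := exists_value (nondeg_restr hR) hdim (u : F)
    have hw' : Q (w : V) = u := hw
    obtain ⟨r, hr⟩ := exists_reflG (Q := Q) (a := (w : V)) (by rw [hw']; exact u.ne_zero)
    exact ⟨r, by rw [hχ _ _ hr, reflVal, hw', sqc_unit], fun v hv => hr.fix (hv _ w.2)⟩
  obtain ⟨k, hkχ, hkfix⟩ : ∃ k : oGroup Q, χ k = (χ g)⁻¹ ∧ ∀ v, (∀ r ∈ R, polar Q v r = 0) → k.1 v = v := by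
    obtain ⟨ε, hε⟩ : ∃ ε, Multiplicative.toAdd (χ g)⁻¹.1 = ε := ⟨_, rfl⟩
    obtain ⟨r, hr1, hr2⟩ := hr (χ g)⁻¹.2
    obtain ⟨r₀, h01, h02⟩ := hr 1
    rcases (show ∀ x : ZMod 2, x = 0 ∨ x = 1 by decide) ε with rfl | rfl
    · refine ⟨r₀ * r, ?_, fun v hv => ?_⟩
      · rw [map_mul, hr1, h01, Prod.mk_mul_mk, one_mul]
        exact Prod.ext (Multiplicative.toAdd.injective (hε.symm ▸ (by decide : (1 : ZMod 2) + 1 = 0))) rfl
      · rw [Subgroup.coe_mul, LinearEquiv.mul_apply, hr2 v hv, h02 v hv]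
    · exact ⟨r, by rw [hr1]; exact Prod.ext (Multiplicative.toAdd.injective hε.symm) rfl, hr2⟩
  refine ⟨⟨g * k, ?_⟩, fun v hv => ?_⟩
  · show g * k ∈ commutator _
    rw [← hker, MonoidHom.mem_ker, map_mul, hkχ, mul_inv_cancel]
  · show (g * k).1 v = g.1 v
    rw [Subgroup.coe_mul, LinearEquiv.mul_apply, hkfix v hv]

theorem witt_three (hQ : (polarBilin Q).Nondegenerate) {v v' : Fin 3 → V} (h : LinearIndependent F v)
    (h' : LinearIndependent F v') (hq : ∀ i, Q (v' i) = Q (v i))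
    (hb : ∀ i j, polar Q (v' i) (v' j) = polar Q (v i) (v j)) : ∃ g ∈ oGroup Q, ∀ i, g (v i) = v' i := by
  let B := Module.Basis.span h
  let φ : Submodule.span F (Set.range v) →ₗ[F] V := B.constr F v'
  have hφ : ∀ z : Submodule.span F (Set.range v), ∃ s₀ s₁ s₂ : F, (z : V) = s₀ • v 0 + s₁ • v 1 + s₂ • v 2 ∧
      φ z = s₀ • v' 0 + s₁ • v' 1 + s₂ • v' 2 := fun z => by
    refine ⟨B.repr z 0, B.repr z 1, B.repr z 2, ?_, ?_⟩
    · conv_lhs => rw [← B.sum_repr z]
      rw [Fin.sum_univ_three]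
      simp [B, Module.Basis.span_apply]
    · simp [φ, Module.Basis.constr_apply_fintype, Fin.sum_univ_three]
  have hinj : Function.Injective φ := by
    rw [← LinearMap.ker_eq_bot, LinearMap.ker_eq_bot']
    intro z hz
    obtain ⟨s₀, s₁, s₂, hzv, hφz⟩ := hφ z
    rw [hz] at hφz
    have h0 := Fintype.linearIndependent_iff.1 h' ![s₀, s₁, s₂] (by rw [Fin.sum_univ_three]; simpa using hφz.symm)
    have a0 : s₀ = 0 := h0 0
    have a1 : s₁ = 0 := h0 1
    have a2 : s₂ = 0 := h0 2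
    exact Subtype.ext (by rw [hzv, a0, a1, a2, zero_smul, zero_smul, zero_smul, add_zero, add_zero]; rfl)
  obtain ⟨g, -, hg, hgφ⟩ := witt hQ full_oGroup _ φ hinj (fun z => by
    obtain ⟨s₀, s₁, s₂, hzv, hφz⟩ := hφ z
    rw [hzv, hφz]
    simp only [q_add, q_smul, b_add_left, b_smul_left, b_smul_right, hq, hb])
  refine ⟨g, hg, fun i => ?_⟩
  have h1 := hgφ (B i)
  rw [show ((B i : _) : V) = v i by simp [B, Module.Basis.span_apply]] at h1
  rw [h1, Module.Basis.constr_basis]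

namespace OddFrame

variable {e d f g a b x : V} (O : OddFrame Q e d f g a b x)

include O

theorem xe : polar Q x e = 0 := by rw [b_comm]; exact O.H.ze O.hx
theorem xd : polar Q x d = 0 := by rw [b_comm]; exact O.H.zd O.hx
theorem xf : polar Q x f = 0 := by rw [b_comm]; exact O.H.zf O.hx
theorem xg : polar Q x g = 0 := by rw [b_comm]; exact O.H.zg O.hx

theorem xY : x ∈ pperp Q e d := O.hx.1

theorem P_nondeg (h2 : (2 : F) ≠ 0) :
    ∀ v ∈ Submodule.span F {a, b}, (∀ w ∈ Submodule.span F {a, b}, polar Q v w = 0) → v = 0 := by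
  intro v hv h
  obtain ⟨s, t, rfl⟩ := Submodule.mem_span_pair.1 hv
  have k1 := h a (Submodule.subset_span (by simp))
  have k2 := h b (Submodule.subset_span (by simp))
  simp only [b_add_left, b_smul_left, b_self, O.qa, O.qb, O.ab, b_comm b a, mul_one, mul_zero, add_zero,
    zero_add] at k1 k2
  rw [(mul_eq_zero.1 k1).resolve_right h2, (mul_eq_zero.1 k2).resolve_right h2, zero_smul, zero_smul, add_zero]

theorem P_dim (h2 : (2 : F) ≠ 0) : 2 ≤ finrank F (Submodule.span F ({a, b} : Set V)) := by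
  have hind : LinearIndependent F ![a, b] := LinearIndependent.pair_iff.2 fun s t hst => by
    have k1 := congrArg (fun v => polar Q v a) hst
    have k2 := congrArg (fun v => polar Q v b) hst
    simp only [b_add_left, b_smul_left, b_self, O.qa, O.qb, O.ab, b_comm b a, b_zero_left, mul_one, mul_zero,
      add_zero, zero_add] at k1 k2
    exact ⟨(mul_eq_zero.1 k1).resolve_right h2, (mul_eq_zero.1 k2).resolve_right h2⟩
  have h3 := finrank_span_eq_card hind
  rw [Matrix.range_cons, Matrix.range_cons, Matrix.range_empty, Set.union_empty, Set.singleton_union,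
    Fintype.card_fin] at h3
  omega

theorem perp_P {v : V} (h1 : polar Q v a = 0) (h2 : polar Q v b = 0) :
    ∀ r ∈ Submodule.span F ({a, b} : Set V), polar Q v r = 0 := by
  intro r hr
  obtain ⟨s, t, rfl⟩ := Submodule.mem_span_pair.1 hr
  rw [b_add_right, b_smul_right, b_smul_right, h1, h2]; ring

/-- Coordinates. -/
theorem expand (h2 : (2 : F) ≠ 0) (v : V) :
    v = polar Q v d • e + polar Q v e • d + polar Q v g • f + polar Q v f • g + (polar Q v a / 2) • a +
      (polar Q v b / 2) • b + (polar Q v x / (2 * Q x)) • x := by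
  obtain ⟨r, hr⟩ : ∃ r, v - polar Q v d • e - polar Q v e • d - polar Q v g • f - polar Q v f • g -
      (polar Q v a / 2) • a - (polar Q v b / 2) • b - (polar Q v x / (2 * Q x)) • x = r := ⟨_, rfl⟩
  have H := O.H
  have c : ∀ {u : V}, u ∈ Z4 Q e d f g → polar Q e u = 0 ∧ polar Q d u = 0 ∧ polar Q f u = 0 ∧ polar Q g u = 0 :=
    fun hu => ⟨H.ze hu, H.zd hu, H.zf hu, H.zg hu⟩
  obtain ⟨ea, da, fa, ga⟩ := c O.ha
  obtain ⟨eb, db, fb, gb⟩ := c O.hb
  obtain ⟨ex, dx, fx, gx⟩ := c O.hx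
  have hx2 : 2 * Q x ≠ 0 := mul_ne_zero h2 O.qx
  have k : polar Q r e = 0 ∧ polar Q r d = 0 ∧ polar Q r f = 0 ∧ polar Q r g = 0 ∧ polar Q r a = 0 ∧
      polar Q r b = 0 ∧ polar Q r x = 0 := by
    rw [← hr]
    simp only [b_sub_left, b_smul_left, H.p.ee, H.p.dd, H.p.ed, H.p.de, H.p'.ee, H.p'.dd, H.p'.ed, H.p'.de,
      H.ef, H.eg, H.df, H.dg, H.fe, H.fd, H.ge, H.gd, ea, da, fa, ga, eb, db, fb, gb, ex, dx, fx, gx,
      b_comm a e, b_comm a d, b_comm a f, b_comm a g, b_comm b e, b_comm b d, b_comm b f, b_comm b g,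
      b_comm x e, b_comm x d, b_comm x f, b_comm x g, b_comm b a, b_comm x a, b_comm x b, O.ab, O.ax, O.bx,
      b_self a, b_self b, b_self x, O.qa, O.qb]
    have := O.qx
    refine ⟨by ring, by ring, by ring, by ring, ?_, ?_, ?_⟩ <;> field_simp <;> ring
  obtain ⟨k1, k2, k3, k4, k5, k6, k7⟩ := k
  have hrY : r ∈ pperp Q e d := mem_pperp.2 ⟨by rw [b_comm]; exact k1, by rw [b_comm]; exact k2⟩
  have hrZ : r ∈ Z4 Q e d f g := ⟨hrY, mem_pperp.2 ⟨by rw [b_comm]; exact k3, by rw [b_comm]; exact k4⟩⟩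
  have h0 := O.full r hrZ k5 k6 k7
  rw [← hr] at h0
  linear_combination (norm := module) h0

/-- The negative of the reflection in x lies in Omega. -/
theorem exists_inv (hG : Good Q) (h2 : (2 : F) ≠ 0) :
    ∃ s : omg Q, ∀ v, app s v = -v + (polar Q v x / Q x) • x := by
  obtain ⟨χ, hker, hχ⟩ := spinor_exists_ker hG.nd hG.dim
  have H := O.H
  have q1 : Q (e + d) = 1 := by rw [q_add, H.p.qe, H.p.qd, H.p.ed]; ring
  have q2 : Q (e - d) = -1 := by rw [q_sub, H.p.qe, H.p.qd, H.p.ed]; ring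
  have q3 : Q (f + g) = 1 := by rw [q_add, H.p'.qe, H.p'.qd, H.p'.ed]; ring
  have q4 : Q (f - g) = -1 := by rw [q_sub, H.p'.qe, H.p'.qd, H.p'.ed]; ring
  have hn1 : (-1 : F) ≠ 0 := neg_ne_zero.2 one_ne_zero
  obtain ⟨r₁, h₁⟩ := exists_reflG (Q := Q) (a := e + d) (by rw [q1]; exact one_ne_zero)
  obtain ⟨r₂, h₂⟩ := exists_reflG (Q := Q) (a := e - d) (by rw [q2]; exact hn1)
  obtain ⟨r₃, h₃⟩ := exists_reflG (Q := Q) (a := f + g) (by rw [q3]; exact one_ne_zero)
  obtain ⟨r₄, h₄⟩ := exists_reflG (Q := Q) (a := f - g) (by rw [q4]; exact hn1)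
  obtain ⟨r₅, h₅⟩ := exists_reflG (Q := Q) (a := a) (by rw [O.qa]; exact one_ne_zero)
  obtain ⟨r₆, h₆⟩ := exists_reflG (Q := Q) (a := b) (by rw [O.qb]; exact one_ne_zero)
  have hm : r₁ * r₂ * (r₃ * r₄) * (r₅ * r₆) ∈ omg Q := by
    show _ ∈ commutator _
    rw [← hker, MonoidHom.mem_ker]
    simp only [map_mul, hχ _ _ h₁, hχ _ _ h₂, hχ _ _ h₃, hχ _ _ h₄, hχ _ _ h₅, hχ _ _ h₆]
    have e12 : reflVal Q (f + g) = reflVal Q (e + d) := by rw [reflVal, reflVal, q1, q3]
    have e24 : reflVal Q (f - g) = reflVal Q (e - d) := by rw [reflVal, reflVal, q2, q4]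
    have e56 : reflVal Q b = reflVal Q a := by rw [reflVal, reflVal, O.qa, O.qb]
    rw [e12, e24, e56, reflVal_mul_self h₅.1, mul_one,
      show ∀ p r : SpinVal F, p * r * (p * r) = p * p * (r * r) from fun p r => mul_mul_mul_comm p r p r,
      reflVal_mul_self h₁.1, reflVal_mul_self h₂.1, one_mul]
  refine ⟨⟨_, hm⟩, fun v => ?_⟩
  show r₁.1 (r₂.1 (r₃.1 (r₄.1 (r₅.1 (r₆.1 v))))) = _
  obtain ⟨ea, da, fa, ga⟩ : polar Q e a = 0 ∧ polar Q d a = 0 ∧ polar Q f a = 0 ∧ polar Q g a = 0 :=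
    ⟨H.ze O.ha, H.zd O.ha, H.zf O.ha, H.zg O.ha⟩
  obtain ⟨eb, db, fb, gb⟩ : polar Q e b = 0 ∧ polar Q d b = 0 ∧ polar Q f b = 0 ∧ polar Q g b = 0 :=
    ⟨H.ze O.hb, H.zd O.hb, H.zf O.hb, H.zg O.hb⟩
  rw [refl_apply h₁, refl_apply h₂, refl_apply h₃, refl_apply h₄, refl_apply h₅, refl_apply h₆]
  simp only [q1, q2, q3, q4, O.qa, O.qb, b_sub_left, b_smul_left, b_add_right, b_sub_right, H.p.ee, H.p.dd,
    H.p.ed, H.p.de, H.p'.ee, H.p'.dd, H.p'.ed, H.p'.de, H.ef, H.eg, H.df, H.dg, H.fe, H.fd, H.ge, H.gd,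
    b_add_left, ea, da, fa, ga, eb, db, fb, gb, b_comm a e, b_comm a d, b_comm a f, b_comm a g, b_comm b e,
    b_comm b d, b_comm b f, b_comm b g, b_comm b a, O.ab]
  have hv := O.expand h2 v
  linear_combination (norm := (match_scalars <;> field_simp <;> ring)) (2 : F) • hv

/-- An element exchanging the two pairs and fixing x. -/
theorem exists_swap (hG : Good Q) (h2 : (2 : F) ≠ 0) :
    ∃ T : omg Q, app T e = f ∧ app T f = e ∧ app T d = g ∧ app T g = d ∧ app T x = x := by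
  have H := O.H
  have q1 : Q ((e - f) + (d - g)) = 2 := by
    rw [q_add, q_sub, q_sub, H.p.qe, H.p'.qe, H.p.qd, H.p'.qd, H.ef, H.dg, b_sub_left, b_sub_right, b_sub_right,
      H.p.ed, H.eg, H.fd, H.p'.ed]; ring
  have q2 : Q ((e - f) - (d - g)) = -2 := by
    rw [q_sub, q_sub, q_sub, H.p.qe, H.p'.qe, H.p.qd, H.p'.qd, H.ef, H.dg, b_sub_left, b_sub_right, b_sub_right,
      H.p.ed, H.eg, H.fd, H.p'.ed]; ring
  obtain ⟨r₁, h₁⟩ := exists_reflG (Q := Q) (a := (e - f) + (d - g)) (by rw [q1]; exact h2)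
  obtain ⟨r₂, h₂⟩ := exists_reflG (Q := Q) (a := (e - f) - (d - g)) (by rw [q2]; exact neg_ne_zero.2 h2)
  obtain ⟨T, hT⟩ := exists_correct hG (O.P_nondeg h2) (O.P_dim h2) (r₁ * r₂)
  have key : ∀ v, polar Q v a = 0 → polar Q v b = 0 → app T v = r₁.1 (r₂.1 v) := fun v ha hb =>
    hT v (O.perp_P ha hb)
  refine ⟨T, ?_, ?_, ?_, ?_, ?_⟩
  all_goals
    rw [key _ (by first | exact O.H.ze O.ha | exact O.H.zd O.ha | exact O.H.zf O.ha | exact O.H.zg O.ha |
        (rw [b_comm]; exact O.ax))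
      (by first | exact O.H.ze O.hb | exact O.H.zd O.hb | exact O.H.zf O.hb | exact O.H.zg O.hb |
        (rw [b_comm]; exact O.bx)), refl_apply h₂, refl_apply h₁, q1, q2]
    simp only [b_add_right, b_sub_right, b_sub_left, b_add_left, b_smul_left, H.p.ee, H.p.dd, H.p.ed, H.p.de,
      H.p'.ee, H.p'.dd, H.p'.ed, H.p'.de, H.ef, H.eg, H.df, H.dg, H.fe, H.fd, H.ge, H.gd, O.xe, O.xd, O.xf, O.xg]
    match_scalars <;> field_simp <;> ring

/-- An element exchanging e and d and fixing f, g, x. -/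
theorem exists_flip (hG : Good Q) (h2 : (2 : F) ≠ 0) :
    ∃ T : omg Q, app T e = d ∧ app T d = e ∧ app T f = f ∧ app T g = g ∧ app T x = x := by
  have H := O.H
  have q1 : Q (e - d) = -1 := by rw [q_sub, H.p.qe, H.p.qd, H.p.ed]; ring
  obtain ⟨r, h⟩ := exists_reflG (Q := Q) (a := e - d) (by rw [q1]; simp)
  obtain ⟨T, hT⟩ := exists_correct hG (O.P_nondeg h2) (O.P_dim h2) r
  have key : ∀ v, polar Q v a = 0 → polar Q v b = 0 → app T v = r.1 v := fun v ha hb =>
    hT v (O.perp_P ha hb)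
  refine ⟨T, ?_, ?_, ?_, ?_, ?_⟩
  all_goals
    rw [key _ (by first | exact O.H.ze O.ha | exact O.H.zd O.ha | exact O.H.zf O.ha | exact O.H.zg O.ha |
        (rw [b_comm]; exact O.ax))
      (by first | exact O.H.ze O.hb | exact O.H.zd O.hb | exact O.H.zf O.hb | exact O.H.zg O.hb |
        (rw [b_comm]; exact O.bx)), refl_apply h, q1]
    simp only [b_sub_right, H.p.ee, H.p.dd, H.p.ed, H.p.de, H.fe, H.fd, H.ge, H.gd, O.xe, O.xd]
    match_scalars <;> field_simp <;> ring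

/-- Transitivity on singular labels orthogonal to x, fixing x. -/
theorem exists_transport (hG : Good Q) (h2 : (2 : F) ≠ 0) {w w' : V} (hw : w ∈ pperp Q e d)
    (hw' : w' ∈ pperp Q e d) (h0 : w ≠ 0) (h0' : w' ≠ 0) (hq : Q w = 0) (hq' : Q w' = 0)
    (hwx : polar Q x w = 0) (hwx' : polar Q x w' = 0) :
    ∃ T : omg Q, app T e = e ∧ app T w = w' ∧ app T x = x := by
  have H := O.H
  have hxx : polar Q x x ≠ 0 := by rw [b_self]; exact mul_ne_zero h2 O.qx
  have hind : ∀ {w : V}, w ∈ pperp Q e d → w ≠ 0 → polar Q x w = 0 → LinearIndependent F ![e, w, x] := by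
    intro w hw h0 hwx
    rw [Fintype.linearIndependent_iff]
    intro s hs
    rw [Fin.sum_univ_three] at hs
    simp only [Matrix.cons_val_zero, Matrix.cons_val_one, Matrix.cons_val] at hs
    have k1 := congrArg (fun v => polar Q d v) hs
    have k2 := congrArg (fun v => polar Q x v) hs
    simp only [b_add_right, b_smul_right, H.p.de, (mem_pperp.1 hw).2, b_comm d x, O.xd, O.xe, hwx, b_zero_right,
      mul_one, mul_zero, add_zero, zero_add] at k1 k2
    have hs2 := (mul_eq_zero.1 k2).resolve_right hxx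
    rw [k1, hs2, zero_smul, zero_smul, zero_add, add_zero] at hs
    have hs1 := (smul_eq_zero.1 hs).resolve_right h0
    intro i
    fin_cases i
    exacts [k1, hs1, hs2]
  obtain ⟨g₀, hg₀, hgv⟩ := witt_three hG.nd (hind hw h0 hwx) (hind hw' h0' hwx')
    (fun i => by fin_cases i <;> simp [hq, hq'])
    (fun i j => by
      fin_cases i <;> fin_cases j <;>
        simp [H.p.ee, (mem_pperp.1 hw).1, (mem_pperp.1 hw').1, b_comm w e, b_comm w' e, b_comm e x, O.xe,
          hwx, hwx', b_comm w x, b_comm w' x, b_self, hq, hq'])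
  -- a plane orthogonal to e, w, x
  have hY := pperp_nondeg hG.nd H.p
  have hl := line_nondeg (Q := restr Q (pperp Q e d)) (a := ⟨x, O.xY⟩) h2 O.qx
  have hnd4 := nondeg_restr (perp_nondeg hY hl)
  have hwm : (⟨w, hw⟩ : pperp Q e d) ∈ perp (restr Q (pperp Q e d)) (F ∙ (⟨x, O.xY⟩ : pperp Q e d)) :=
    mem_perp_span.2 (by intro u hu; rw [Set.mem_singleton_iff] at hu; subst hu; exact hwx)
  obtain ⟨w'', hww, hw''⟩ := exists_partner hnd4 (e := ⟨_, hwm⟩)
    (fun h => h0 (congrArg (fun u : perp (restr Q (pperp Q e d)) (F ∙ (⟨x, O.xY⟩ : pperp Q e d)) =>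
      ((u : pperp Q e d) : V)) h)) hq
  have pw : IsPair (restr (restr Q (pperp Q e d)) (perp (restr Q (pperp Q e d)) (F ∙ (⟨x, O.xY⟩ : pperp Q e d))))
      ⟨_, hwm⟩ w'' := ⟨hq, hw'', hww⟩
  obtain ⟨X, hX⟩ : ∃ X, pperp (restr (restr Q (pperp Q e d))
      (perp (restr Q (pperp Q e d)) (F ∙ (⟨x, O.xY⟩ : pperp Q e d)))) ⟨_, hwm⟩ w'' = X := ⟨_, rfl⟩
  have hXnd := pperp_nondeg hnd4 pw
  rw [hX] at hXnd
  let ι : X →ₗ[F] V := (pperp Q e d).subtype.comp ((perp (restr Q (pperp Q e d))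
    (F ∙ (⟨x, O.xY⟩ : pperp Q e d))).subtype.comp X.subtype)
  have hRnd : ∀ u ∈ LinearMap.range ι, (∀ v ∈ LinearMap.range ι, polar Q u v = 0) → u = 0 := by
    rintro _ ⟨u, rfl⟩ hu
    rw [eq_zero_of_b hXnd (x := u) fun v => hu _ ⟨v, rfl⟩, map_zero]
  have hRdim : 2 ≤ finrank F (LinearMap.range ι) := by
    rw [LinearMap.finrank_range_of_inj (f := ι) (fun u v h => X.injective_subtype
      (Submodule.injective_subtype _ ((pperp Q e d).injective_subtype h)))]
    have u1 := finrank_pperp pw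
    rw [hX] at u1
    have u2 := finrank_perp hl
    have u3 : finrank F (F ∙ (⟨x, O.xY⟩ : pperp Q e d)) = 1 :=
      finrank_span_singleton (fun h => O.qx (by rw [show x = 0 from congrArg Subtype.val h, map_zero]))
    have u4 := finrank_pperp H.p
    have u5 := hG.dim
    have u6 : finrank F V = finrank F (Z4 Q e d f g) + 4 := by
      have pY : IsPair (restr Q (pperp Q e d)) ⟨f, H.hf⟩ ⟨g, H.hg⟩ := ⟨H.p'.qe, H.p'.qd, H.p'.ed⟩
      have v1 := finrank_pperp pY
      have v3 : finrank F (pperp (restr Q (pperp Q e d)) ⟨f, H.hf⟩ ⟨g, H.hg⟩) = finrank F (Z4 Q e d f g) := by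
        refine LinearEquiv.finrank_eq
          ((Submodule.equivMapOfInjective _ (pperp Q e d).injective_subtype _).trans (LinearEquiv.ofEq _ _ ?_))
        ext u
        simp only [Submodule.mem_map, Z4, Submodule.mem_inf]
        constructor
        · rintro ⟨y, hy, rfl⟩
          rw [mem_pperp] at hy
          exact ⟨y.2, mem_pperp.2 hy⟩
        · rintro ⟨k, k'⟩
          obtain ⟨k1, k2⟩ := mem_pperp.1 k'
          exact ⟨⟨u, k⟩, mem_pperp.2 ⟨k1, k2⟩, rfl⟩
      omega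
    have u7 : 3 ≤ finrank F (Z4 Q e d f g) := by
      have hli : LinearIndependent F ![(⟨a, O.ha⟩ : Z4 Q e d f g), ⟨b, O.hb⟩, ⟨x, O.hx⟩] := by
        rw [Fintype.linearIndependent_iff]
        intro s hs
        have hs' := congrArg Subtype.val hs
        simp only [Fin.sum_univ_three, Matrix.cons_val_zero, Matrix.cons_val_one, Matrix.cons_val,
          Submodule.coe_add, Submodule.coe_smul, Submodule.coe_zero] at hs'
        have k1 := congrArg (fun v => polar Q a v) hs'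
        have k2 := congrArg (fun v => polar Q b v) hs'
        have k3 := congrArg (fun v => polar Q x v) hs'
        simp only [b_add_right, b_smul_right, b_self, O.qa, O.qb, O.ab, O.ax, O.bx, b_comm b a, b_comm x a,
          b_comm x b, b_zero_right, mul_one, mul_zero, add_zero, zero_add] at k1 k2 k3
        intro i
        fin_cases i
        exacts [(mul_eq_zero.1 k1).resolve_right h2, (mul_eq_zero.1 k2).resolve_right h2,
          (mul_eq_zero.1 k3).resolve_right (mul_ne_zero h2 O.qx)]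
      simpa using hli.fintype_card_le_finrank
    omega
  obtain ⟨T, hT⟩ := exists_correct hG hRnd hRdim ⟨g₀, hg₀⟩
  have key : ∀ v, (∀ u : X, polar Q v (ι u) = 0) → app T v = g₀ v := fun v hv =>
    hT v (by rintro _ ⟨u, rfl⟩; exact hv u)
  have hXmem : ∀ u : X, polar Q w (ι u) = 0 ∧ polar Q x (ι u) = 0 ∧ polar Q e (ι u) = 0 := fun u => by
    have h1 := u.2
    simp only [← hX, mem_pperp] at h1
    exact ⟨h1.1, mem_perp_span.1 u.1.2 _ rfl, (mem_pperp.1 u.1.1.2).1⟩
  refine ⟨T, (key e fun u => (hXmem u).2.2).trans (hgv 0), (key w fun u => (hXmem u).1).trans (hgv 1),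
    (key x fun u => (hXmem u).2.1).trans (hgv 2)⟩

end OddFrame

end Cfsg.Agent.OrthDeg
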