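/-
Dimension seven, odd characteristic: the character at the negative reflection and its class sum.
-/
import Cfsg.Agent.Lib.OrthDeg.OddElem
import Cfsg.Agent.Lib.OrthDeg.Involution
import Cfsg.Agent.Lib.OrthDeg.ProjSum
import Cfsg.Agent.Lib.OrthDeg.Integral

set_option autoImplicit false

namespace Cfsg.Agent.OrthDeg

open QuadraticMap Module Cfsg.Agent.Orth
open scoped InnerProductSpace

universe u v

variable {F : Type u} {V : Type v} [Field F] [Fintype F] [AddCommGroup V] [Module F V] [FiniteDimensional F V]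
  {Q : QuadraticForm F V}

/-- Level sets in odd dimension. -/
theorem level_card_odd (h2 : (2 : F) ≠ 0) : ∀ (m : ℕ) {V : Type v} [AddCommGroup V] [Module F V]
    [FiniteDimensional F V] {Q : QuadraticForm F V}, (polarBilin Q).Nondegenerate → HasType Q 1 m →
    ∀ {t : F}, t ≠ 0 → ∃ L0 : ℤ, (L0 = 0 ∨ L0 = 2) ∧
      (Nat.card {v // Q v = t} : ℤ) = (Nat.card F : ℤ) ^ (2 * m) - (Nat.card F : ℤ) ^ m +
        (Nat.card F : ℤ) ^ m * L0
  | 0, V, _, _, _, Q, hQ, h, t, ht => by
    classical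
    haveI : Finite V := Module.finite_of_finite F
    haveI := Fintype.ofFinite V
    have hd : finrank F V = 1 := h.1
    haveI := Module.nontrivial_of_finrank_pos (R := F) (show 0 < finrank F V by omega)
    obtain ⟨v, hv⟩ := exists_ne (0 : V)
    have hQv : Q v ≠ 0 := fun h0 => hv (eq_zero_of_b hQ fun y => by
      obtain ⟨s, rfl⟩ := (finrank_eq_one_iff_of_nonzero' v hv).1 hd y
      rw [b_smul_right, b_self, h0, mul_zero, mul_zero])
    by_cases hex : ∃ s : F, Q (s • v) = t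
    · obtain ⟨s, hs⟩ := hex
      have hs0 : s ≠ 0 := fun h0 => ht (by rw [← hs, h0, zero_smul, map_zero])
      refine ⟨2, Or.inr rfl, ?_⟩
      have hset : (Finset.univ.filter fun w : V => Q w = t) = {s • v, (-s) • v} := by
        ext w
        obtain ⟨r, rfl⟩ := (finrank_eq_one_iff_of_nonzero' v hv).1 hd w
        simp only [Finset.mem_filter, Finset.mem_univ, true_and, Finset.mem_insert, Finset.mem_singleton,
          (smul_left_injective F hv).eq_iff]
        rw [← hs, q_smul, q_smul, mul_left_inj' hQv, mul_self_eq_mul_self_iff]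
      have hne : s • v ≠ (-s) • v := fun h0 => by
        have h1 : (2 : F) * s = 0 := by linear_combination smul_left_injective F hv h0
        exact hs0 ((mul_eq_zero.1 h1).resolve_left h2)
      rw [Nat.card_eq_fintype_card, Fintype.card_subtype, hset, Finset.card_pair hne]
      simp
    · refine ⟨0, Or.inl rfl, ?_⟩
      haveI : IsEmpty {w // Q w = t} := ⟨fun ⟨w, hw⟩ => hex (by
        obtain ⟨r, rfl⟩ := (finrank_eq_one_iff_of_nonzero' v hv).1 hd w
        exact ⟨r, hw⟩)⟩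
      simp
  | m + 1, V, _, _, _, Q, hQ, h, t, ht => by
    obtain ⟨e, d, p⟩ := h.exists_pair hQ
    have hY := h.restrict p
    obtain ⟨L0, hL0, hc⟩ := level_card_odd h2 m (pperp_nondeg hQ p) hY ht
    refine ⟨L0, hL0, ?_⟩
    simp only [restr_apply] at hc
    rw [card_level_pair p t, hY.1]
    push_cast [Nat.cast_sub (Nat.card_pos (α := F))]
    rw [hc]
    ring

/-- The divisibility coming from the class sum leaves little room. -/
theorem odd_class_arith {q L0 χ t η F' : ℤ} (hq : 5 ≤ q) (hL0 : L0 = 0 ∨ L0 = 2)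
    (hχ : χ = t + η * ((q - 1) + q * F' + (q - 1) * q ^ 2 + F')) (hη : η = 1 ∨ η = -1)
    (ht : t = -2 ∨ t = 0 ∨ t = 2) (hF : F' = 0 ∨ F' = 2 * (q - 1))
    (h : q ^ 2 * (q ^ 2 + 1) ∣ q ^ 3 * (q ^ 3 - 1 + L0) * χ) : F' = 0 ∧ t = 0 := by
  have h1 : q ^ 2 + 1 ∣ q * ((q ^ 3 - 1 + L0) * χ) := by
    refine Int.dvd_of_mul_dvd_mul_left (show q ^ 2 ≠ 0 by positivity) ?_
    rwa [show q ^ 2 * (q * ((q ^ 3 - 1 + L0) * χ)) = q ^ 3 * (q ^ 3 - 1 + L0) * χ by ring]
  have hc : IsCoprime (q ^ 2 + 1) q := ⟨1, -q, by ring⟩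
  obtain ⟨k, hk⟩ := hc.dvd_of_dvd_mul_left h1
  have h2 : q ^ 2 + 1 ∣ 2 * χ := by
    rcases hL0 with rfl | rfl
    · exact ⟨χ * (1 + q * (-q + 1)) - k * (-q + 1), by linear_combination -(-q + 1) * hk⟩
    · exact ⟨χ * (1 + q * (-q - 1)) - k * (-q - 1), by linear_combination -(-q - 1) * hk⟩
  obtain ⟨j, hj⟩ := h2
  have hbig : ∀ z : ℤ, q ^ 2 + 1 ∣ z → -25 ≤ z → z ≤ 25 → z = 0 := fun z hz h1 h2 => by
    refine Int.eq_zero_of_abs_lt_dvd hz (abs_lt.2 ⟨?_, ?_⟩) <;> nlinarith
  rcases hF with rfl | rfl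
  · have h3 : q ^ 2 + 1 ∣ 2 * t := ⟨j - 2 * η * (q - 1), by rw [hχ] at hj; linear_combination hj⟩
    have := hbig _ h3 (by omega) (by omega)
    exact ⟨rfl, by omega⟩
  · have h3 : q ^ 2 + 1 ∣ 2 * (t - 4 * η) :=
      ⟨j - 2 * η * (q + 1), by rw [hχ] at hj; linear_combination hj⟩
    have := hbig _ h3 (by omega) (by omega)
    omega

namespace OddFrame

variable {e d f g a b x : V} (O : OddFrame Q e d f g a b x) {s : omg Q}
  (hs : ∀ v, app s v = -v + (polar Q v x / Q x) • x)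

include O hs

theorem inv_x : app s x = x := by
  rw [hs, b_self, mul_div_assoc, div_self O.qx, mul_one]
  module

omit O in
theorem inv_perp {v : V} (hv : polar Q v x = 0) : app s v = -v := by
  rw [hs, hv, zero_div, zero_smul, add_zero]

theorem inv_sq : s * s = 1 := by
  refine omg_ext fun v => ?_
  rw [app_mul, app_one, hs v, show ∀ (u : V) (c : F), app s (-u + c • x) = -app s u + c • app s x from
    fun u c => by rw [show ∀ z, app s z = s.1.1 z from fun _ => rfl, map_add, map_neg, map_smul], O.inv_x hs, hs v]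
  module

theorem inv_comm {T : omg Q} (hT : app T x = x) : T * s = s * T := by
  refine omg_ext fun v => ?_
  rw [app_mul, app_mul, hs v, hs (app T v)]
  conv_rhs => rw [← hT, b_app, hT]
  rw [show ∀ (u : V) (c : F), app T (-u + c • x) = -app T u + c • app T x from
    fun u c => by rw [show ∀ z, app T z = T.1.1 z from fun _ => rfl, map_add, map_neg, map_smul], hT]

end OddFrame

variable {W : Type} [NormedAddCommGroup W] [InnerProductSpace ℂ W] [FiniteDimensional ℂ W]
  {ρ : omg Q →* (W →ₗ[ℂ] W)} {ψ : AddChar F ℂ}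

namespace Ctx

variable [Fintype V] (C : Ctx Q ρ ψ) {e d f g a b x : V} (O : OddFrame Q e d f g a b x) {s : omg Q}
  (hs : ∀ v, app s v = -v + (polar Q v x / Q x) • x)

include C O hs

/-- The involution permutes the labels by the reflection. -/
theorem E_inv {e' : V} (he : Q e' = 0) (hex : polar Q e' x = 0) {w : V} {u : W} (hu : u ∈ E Q ρ ψ e' w) :
    ρ s u ∈ E Q ρ ψ e' (w - (polar Q w x / Q x) • x) := by
  have h := (C.E_map he s).2 hu
  rw [OddFrame.inv_perp hs hex, hs w, show -e' = (-1 : F) • e' by module,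
    show -w + (polar Q w x / Q x) • x = (-1 : F) • (w - (polar Q w x / Q x) • x) by module,
    C.E_scale he (neg_ne_zero.2 one_ne_zero)] at h
  exact h

theorem E_inv_self {e' : V} (he : Q e' = 0) (hex : polar Q e' x = 0) {w : V} (hwx : polar Q w x = 0) {u : W}
    (hu : u ∈ E Q ρ ψ e' w) : ρ s u ∈ E Q ρ ψ e' w := by
  have h := C.E_inv O hs he hex hu
  rwa [hwx, zero_div, zero_smul, sub_zero] at h

theorem KK_inv {u : W} (hu : u ∈ KK Q ρ ψ e f) : ρ s u ∈ KK Q ρ ψ e f := by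
  have h := (C.KK_map (ψ := ψ) O.H.p.qe O.H.p'.qe s).2 hu
  rw [OddFrame.inv_perp hs (by rw [b_comm, O.xe]), OddFrame.inv_perp hs (by rw [b_comm, O.xf])] at h
  have hn : ∀ z, polar Q e z = 0 → polar Q (-e) z = 0 := fun z hz => by
    rw [← neg_one_smul F e, b_smul_left, hz, mul_zero]
  refine mem_KK.2 ⟨?_, fun y h1 h2 => ?_⟩
  · have h1 := (mem_KK.1 h).1
    rwa [show -e = (-1 : F) • e by module, C.Fx_scale O.H.p.qe (neg_ne_zero.2 one_ne_zero)] at h1
  · have hy : polar Q f (-y) = 0 := by rw [← neg_one_smul F y, b_smul_right, h2, mul_zero]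
    have hey : polar Q e (-y) = 0 := by rw [← neg_one_smul F y, b_smul_right, h1, mul_zero]
    have h3 := (mem_KK.1 h).2 (-y) (hn _ hey)
      (by rw [← neg_one_smul F f, b_smul_left, hy, mul_zero])
    rwa [show -f = (-1 : F) • f by module, tr_scale C.good _ O.H.p'.qe hy, neg_one_smul, neg_neg] at h3

/-- All invariant labelled lines carry one sign. -/
theorem line_sign (h2 : (2 : F) ≠ 0) (S : Small Q ρ ψ e d f g 1 1) :
    ∃ η : ℤ, (η = 1 ∨ η = -1) ∧ ∀ w ∈ pperp Q e d, w ≠ 0 → Q w = 0 → polar Q x w = 0 →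
      ∀ u ∈ E Q ρ ψ e w, ρ s u = (η : ℂ) • u := by
  obtain ⟨η, hη, hf⟩ := C.unit.line_sgn (O.inv_sq hs) (K := E Q ρ ψ e f)
    (fun u hu => C.E_inv_self O hs O.H.p.qe (by rw [b_comm, O.xe]) (by rw [b_comm, O.xf]) hu)
    (S.sing f O.H.hf O.H.p'.ne O.H.p'.qe)
  refine ⟨η, hη, fun w hw hw0 hq hwx u hu => ?_⟩
  obtain ⟨T, hTe, hTw, hTx⟩ := O.exists_transport C.good h2 O.H.hf hw O.H.p'.ne hw0 O.H.p'.qe hq O.xf hwx
  refine sgn_transfer (O.inv_comm hs hTx) (fun z => ?_) hf hu
  have h1 := C.E_map (ψ := ψ) (w := f) O.H.p.qe T (x := z)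
  rwa [hTe, hTw] at h1

/-- The core eigenspaces inside Fx e at isotropic vectors orthogonal to x carry the same sign. -/
theorem core_sign (h2 : (2 : F) ≠ 0) {η : ℤ} (hη : ∀ w ∈ pperp Q e d, w ≠ 0 → Q w = 0 → polar Q x w = 0 →
      ∀ u ∈ E Q ρ ψ e w, ρ s u = (η : ℂ) • u) {z : V} (hz : z ∈ Z4 Q e d f g) (hz0 : z ≠ 0) (hq : Q z = 0)
    (hzx : polar Q x z = 0) {u : W}
    (hu : u ∈ eigS ρ (fun y : Z4 Q e d f g => tr Q f (y : V)) (Fx Q ρ ψ e) (fun y => ψ (polar Q z (y : V))))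
    (hsu : ρ s u ∈ eigS ρ (fun y : Z4 Q e d f g => tr Q f (y : V)) (Fx Q ρ ψ e)
      (fun y => ψ (polar Q z (y : V)))) :
    ρ s u = (η : ℂ) • u := by
  have H := O.H
  obtain ⟨T, t1, t2, t3, t4, t5⟩ := O.exists_swap C.good h2
  obtain ⟨z', hz'⟩ : ∃ z', app T z' = z := ⟨app T⁻¹ z, app_app_inv T z⟩
  have k1 : z' ∈ pperp Q e d := mem_pperp.2
    ⟨by rw [← b_app T, t1, hz', H.zf hz], by rw [← b_app T, t3, hz', H.zg hz]⟩
  have k0 : z' ≠ 0 := fun h => hz0 (by rw [← hz', h]; exact map_zero _)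
  have kq : Q z' = 0 := by rw [← q_app T, hz', hq]
  have kx : polar Q x z' = 0 := by rw [← b_app T, t5, hz', hzx]
  have hsgn : ∀ y ∈ E Q ρ ψ f z, ρ s y = (η : ℂ) • y := fun y hy => by
    refine sgn_transfer (O.inv_comm hs t5) (fun w => ?_) (hη z' k1 k0 kq kx) hy
    have h1 := C.E_map (ψ := ψ) (w := z') H.p.qe T (x := w)
    rwa [t1, hz'] at h1
  have h3 := C.unit.proj_map (K := E Q ρ ψ f z) (K' := E Q ρ ψ f z) (g := s) (fun w => ⟨fun hw => ?_, fun hw =>
    C.E_inv_self O hs H.p'.qe (by rw [b_comm, O.xf]) (by rw [b_comm, hzx]) hw⟩) u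
  swap
  · have h4 := C.E_inv_self O hs H.p'.qe (by rw [b_comm, O.xf]) (by rw [b_comm, hzx]) hw
    rwa [← rho_mul, O.inv_sq hs, rho_one] at h4
  rw [hsgn _ ((E Q ρ ψ f z).starProjection_apply_mem u), ← map_smul] at h3
  exact sub_eq_zero.1 (C.Kz_proj_inj H hz hz0 (Submodule.sub_mem _ hsu (Submodule.smul_mem _ _ hu))
    (by rw [map_sub, h3, sub_self]))

/-- The trace inside Fx e. -/
theorem trace_Fx (h2 : (2 : F) ≠ 0) (hT : HasType Q 1 3) (S : Small Q ρ ψ e d f g 1 1) {η : ℤ}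
    (hη : ∀ w ∈ pperp Q e d, w ≠ 0 → Q w = 0 → polar Q x w = 0 → ∀ u ∈ E Q ρ ψ e w, ρ s u = (η : ℂ) • u) :
    ctrace (Fx Q ρ ψ e) (ρ s) = ctrace (KK Q ρ ψ e f) (ρ s) +
      ((η * (sgF Q (Z4 Q e d f g ⊓ orth1 Q x)).card : ℤ) : ℂ) := by
  classical
  haveI := Fintype.ofFinite (Z4 Q e d f g)
  have H := O.H
  have hexx : polar Q e x = 0 := by rw [b_comm, O.xe]
  let K : Z4 Q e d f g → Submodule ℂ W := fun z => eigS ρ (fun y : Z4 Q e d f g => tr Q f (y : V))
    (Fx Q ρ ψ e) (fun y => ψ (polar Q (z : V) (y : V)))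
  have hdec := C.unit.eig_decomp (t := fun y : Z4 Q e d f g => tr Q f (y : V)) (C.charFamZ H)
    (fun a b => tr_add C.good H.p'.qe (H.zf a.2) (H.zf b.2)) (tr_zero C.good H.p'.qe)
    (K := Fx Q ρ ψ e) fun a x hx => C.Fx_stable H.p.qe H.p'.qe H.ef (H.ze a.2) (H.zf a.2) hx
  -- the dimensions of the core eigenspaces
  have hdim : ∀ z : Z4 Q e d f g, z ≠ 0 → finrank ℂ (K z) = if Q (z : V) = 0 then 1 else 0 := by
    have hns : ∀ z : Z4 Q e d f g, z ≠ 0 → finrank ℂ (E Q ρ ψ f (z : V)) = finrank ℂ (E Q ρ ψ e (z : V)) := by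
      intro z hz
      have hz' : (z : V) ≠ 0 := fun h => hz (Subtype.ext h)
      exact C.finrank_E_eq H.p'.qe H.p.qe H.p'.ne H.p.ne (H.zf z.2) (H.ze z.2)
        (H.symm.not_mem_span (z := (z : V)) (by rw [Frame.z_comm]; exact z.2) hz')
        (H.not_mem_span z.2 hz') one_ne_zero (by rw [one_mul, one_mul])
    have hle : ∀ z ∈ Finset.univ.erase (0 : Z4 Q e d f g), finrank ℂ (K z) ≤ if Q (z : V) = 0 then 1 else 0 := by
      intro z hz
      have hz0 := Finset.ne_of_mem_erase hz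
      have hz' : (z : V) ≠ 0 := fun h => hz0 (Subtype.ext h)
      refine (C.Kz_le H z.2 hz').trans (le_of_eq ?_)
      rw [hns z hz0]
      split_ifs with hq
      · exact S.sing _ z.2.1 hz' hq
      · rw [S.nons _ z.2.1 hq, finrank_bot]
    refine fun z hz => (Finset.sum_eq_sum_iff_of_le hle).1 ?_ z (Finset.mem_erase.2 ⟨hz, Finset.mem_univ _⟩)
    have hZ := z4_type (i := 1) C.good.nd hT H
    have h1 := hdec.2
    rw [← Finset.add_sum_erase _ _ (Finset.mem_univ (0 : Z4 Q e d f g))] at h1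
    have h0 : finrank ℂ (K 0) = finrank ℂ (KK Q ρ ψ e f) := by
      rw [← C.Kz_zero H]
      rfl
    have hcard := card_sing (Z4 Q e d f g) hZ
    have hfx := S.fx
    have hpos := zc_pos (Nat.card F) 1 Nat.card_pos 1
    rw [Finset.sum_boole, show (Finset.univ.erase (0 : Z4 Q e d f g)).filter (fun z : Z4 Q e d f g => Q (z : V) = 0)
        = Finset.univ.filter fun z : Z4 Q e d f g => z ≠ 0 ∧ Q (z : V) = 0 by ext z; simp, hcard, Nat.cast_id]
    change finrank ℂ (Fx Q ρ ψ e) = finrank ℂ (K 0) + ∑ z ∈ Finset.univ.erase 0, finrank ℂ (K z) at h1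
    omega
  rw [ctrace_sum K (Fx Q ρ ψ e) (fun z u hu => hu.1) hdec.1,
    ← Finset.add_sum_erase _ _ (Finset.mem_univ (0 : Z4 Q e d f g))]
  congr 1
  · show ctrace (eigS ρ (fun y : Z4 Q e d f g => tr Q f (y : V)) (Fx Q ρ ψ e)
      (fun y => ψ (polar Q ((0 : Z4 Q e d f g) : V) (y : V)))) (ρ s) = _
    rw [Submodule.coe_zero, C.Kz_zero H]
  have hperm : ∀ (z : Z4 Q e d f g), ∀ u ∈ K z,
      ρ s u ∈ K (z - (polar Q (z : V) x / Q x) • ⟨x, O.hx⟩) := by
    intro z u hu
    refine ⟨C.E_inv_self O hs H.p.qe hexx (b_zero_left x) hu.1, fun y => ?_⟩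
    have hy' : -app s (y : V) ∈ Z4 Q e d f g := by
      rw [hs, neg_add, neg_neg, ← neg_smul]
      exact Submodule.add_mem _ y.2 (Submodule.smul_mem _ _ O.hx)
    have hfy : polar Q f (-(y : V)) = 0 := by rw [← neg_one_smul F (y : V), b_smul_right, H.zf y.2, mul_zero]
    have hconj : s * tr Q f (-app s (y : V)) * s⁻¹ = tr Q f (y : V) := by
      rw [tr_conj C.good s H.p'.qe (H.zf hy'), OddFrame.inv_perp hs (by rw [b_comm, O.xf]),
        show app s (-app s (y : V)) = -(y : V) by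
          rw [show -app s (y : V) = (-1 : F) • app s (y : V) by module,
            show app s ((-1 : F) • app s (y : V)) = (-1 : F) • app s (app s (y : V)) from map_smul _ _ _,
            ← app_mul, O.inv_sq hs, app_one, neg_one_smul],
        show -f = (-1 : F) • f by module, tr_scale C.good _ H.p'.qe hfy, neg_one_smul, neg_neg]
    have h1 := rho_conj (ρ := ρ) s (tr Q f (-app s (y : V))) u
    rw [hconj, hu.2 ⟨_, hy'⟩, map_smul] at h1
    rw [h1]
    congr 2
    simp only [Submodule.coe_sub, Submodule.coe_smul, hs, b_sub_left, b_smul_left, b_comm x (y : V)]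
    rw [show -(-(y : V) + (polar Q (y : V) x / Q x) • x) = (y : V) - (polar Q (y : V) x / Q x) • x by module,
      b_sub_right, b_smul_right]
    ring
  have hterm : ∀ z ∈ Finset.univ.erase (0 : Z4 Q e d f g), ctrace (K z) (ρ s) =
      if Q (z : V) = 0 ∧ polar Q x (z : V) = 0 then (η : ℂ) else 0 := by
    intro z hz
    have hz0 := Finset.ne_of_mem_erase hz
    have hz' : (z : V) ≠ 0 := fun h => hz0 (Subtype.ext h)
    have hd := hdim z hz0
    split_ifs with h
    · obtain ⟨hq, hzx⟩ := h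
      rw [if_pos hq] at hd
      rw [ctrace_scalar (K z) (ρ s) (η : ℂ) (fun u hu => ?_), hd, Nat.cast_one, mul_one]
      have h1 := hperm z u hu
      rw [b_comm (z : V) x, hzx, zero_div, zero_smul, sub_zero] at h1
      rw [C.core_sign O hs h2 hη z.2 hz' hq hzx hu h1, map_smul, Submodule.starProjection_eq_self_iff.2 hu]
    · rw [ctrace_scalar (K z) (ρ s) 0 (fun u hu => ?_), zero_mul]
      rw [zero_smul]
      by_cases hq : Q (z : V) = 0
      · refine Submodule.eq_starProjection_of_mem_of_inner_eq_zero (Submodule.zero_mem _) fun w hw => ?_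
        rw [sub_zero]
        refine C.unit.eig_orth (C.charFamZ H) (fun h' => h ⟨hq, ?_⟩) (hperm z u hu) hw
        have h3 : (polar Q (z : V) x / Q x) • x = 0 := congrArg Subtype.val (sub_eq_self.1 h')
        have h4 := (div_eq_zero_iff.1 ((smul_eq_zero.1 h3).resolve_right
          fun hx0 => O.qx (by rw [hx0, map_zero]))).resolve_right O.qx
        rw [b_comm]; exact h4
      · rw [if_neg hq, Submodule.finrank_eq_zero] at hd
        rw [hd, Submodule.mem_bot] at hu
        simp [hu]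
  rw [Finset.sum_congr rfl hterm, ← Finset.sum_filter, Finset.sum_const, nsmul_eq_mul, mul_comm]
  push_cast
  congr 2
  refine Finset.card_bij (fun z _ => (z : V)) ?_ ?_ ?_
  · intro z hz
    simp only [Finset.mem_filter, Finset.mem_erase] at hz
    exact mem_sgF.2 ⟨⟨z.2, hz.2.2⟩, fun h => hz.1.1 (Subtype.ext h), hz.2.1⟩
  · exact fun _ _ _ _ h => Subtype.ext h
  · intro v hv
    obtain ⟨⟨h1, h2'⟩, h3, h4⟩ := mem_sgF.1 hv
    exact ⟨⟨v, h1⟩, by
      simp only [Finset.mem_filter, Finset.mem_erase, Finset.mem_univ, and_true]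
      exact ⟨fun h => h3 (congrArg Subtype.val h), h4, h2'⟩, rfl⟩

/-- The trace on the whole space. -/
theorem trace_inv (S : Small Q ρ ψ e d f g 1 1) {η : ℤ}
    (hη : ∀ w ∈ pperp Q e d, w ≠ 0 → Q w = 0 → polar Q x w = 0 → ∀ u ∈ E Q ρ ψ e w, ρ s u = (η : ℂ) • u) :
    LinearMap.trace ℂ W (ρ s) = ctrace (Fx Q ρ ψ e) (ρ s) +
      ((η * (sgF Q (pperp Q e d ⊓ orth1 Q x)).card : ℤ) : ℂ) := by
  classical
  haveI := Fintype.ofFinite (pperp Q e d)
  have H := O.H
  have hexx : polar Q e x = 0 := by rw [b_comm, O.xe]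
  rw [← ctrace_top, ctrace_sum (fun w : pperp Q e d => E Q ρ ψ e (w : V)) ⊤ (fun _ => le_top)
    (fun u _ => (C.decomp_top H.p).1 u), ← Finset.add_sum_erase _ _ (Finset.mem_univ (0 : pperp Q e d))]
  congr 1
  have hterm : ∀ w ∈ Finset.univ.erase (0 : pperp Q e d), ctrace (E Q ρ ψ e (w : V)) (ρ s) =
      if Q (w : V) = 0 ∧ polar Q x (w : V) = 0 then (η : ℂ) else 0 := by
    intro w hw
    have hw0 := Finset.ne_of_mem_erase hw
    have hw' : (w : V) ≠ 0 := fun h => hw0 (Subtype.ext h)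
    split_ifs with h
    · rw [ctrace_scalar _ (ρ s) (η : ℂ) (fun u hu => by
        rw [hη _ w.2 hw' h.1 h.2 u hu, map_smul, Submodule.starProjection_eq_self_iff.2 hu]),
        S.sing _ w.2 hw' h.1, Nat.cast_one, mul_one]
    · rw [ctrace_scalar _ (ρ s) 0 (fun u hu => ?_), zero_mul]
      rw [zero_smul]
      by_cases hq : Q (w : V) = 0
      · refine Submodule.eq_starProjection_of_mem_of_inner_eq_zero (Submodule.zero_mem _) fun y hy => ?_
        rw [sub_zero]
        refine C.E_orth H.p (Submodule.sub_mem _ w.2 (Submodule.smul_mem _ _ O.xY)) w.2 (fun h' => h ⟨hq, ?_⟩)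
          (C.E_inv O hs H.p.qe hexx hu) hy
        have h4 := (div_eq_zero_iff.1 ((smul_eq_zero.1 (sub_eq_self.1 h')).resolve_right
          fun hx0 => O.qx (by rw [hx0, map_zero]))).resolve_right O.qx
        rw [b_comm]; exact h4
      · rw [S.nons _ w.2 hq, Submodule.mem_bot] at hu
        simp [hu]
  rw [Finset.sum_congr rfl hterm, ← Finset.sum_filter, Finset.sum_const, nsmul_eq_mul, mul_comm]
  push_cast
  congr 2
  refine Finset.card_bij (fun z _ => (z : V)) ?_ ?_ ?_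
  · intro z hz
    simp only [Finset.mem_filter, Finset.mem_erase] at hz
    exact mem_sgF.2 ⟨⟨z.2, hz.2.2⟩, fun h => hz.1.1 (Subtype.ext h), hz.2.1⟩
  · exact fun _ _ _ _ h => Subtype.ext h
  · intro v hv
    obtain ⟨⟨h1, h2'⟩, h3, h4⟩ := mem_sgF.1 hv
    exact ⟨⟨v, h1⟩, by
      simp only [Finset.mem_filter, Finset.mem_erase, Finset.mem_univ, and_true]
      exact ⟨fun h => h3 (congrArg Subtype.val h), h4, h2'⟩, rfl⟩

omit hs in
/-- Singular vectors in the anisotropic or split plane. -/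
theorem plane_count (h2 : (2 : F) ≠ 0) [DecidableEq F]
    [DecidablePred (· ∈ Z4 Q e d f g ⊓ orth1 Q x)] :
    ((sgF Q (Z4 Q e d f g ⊓ orth1 Q x)).card = 0 ∨
      ((sgF Q (Z4 Q e d f g ⊓ orth1 Q x)).card : ℤ) = 2 * ((Nat.card F : ℤ) - 1)) ∧
    (Finset.univ.filter (· ∈ Z4 Q e d f g ⊓ orth1 Q x)).card = Nat.card F ^ 2 := by
  classical
  have hba : polar Q b a = 0 := by rw [b_comm, O.ab]
  obtain ⟨φ, hφ⟩ : ∃ φ : F × F → V, ∀ p, φ p = p.1 • a + p.2 • b := ⟨_, fun _ => rfl⟩
  have hco : ∀ p, polar Q (φ p) a = 2 * p.1 ∧ polar Q (φ p) b = 2 * p.2 := fun p => by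
    rw [hφ, b_add_left, b_add_left, b_smul_left, b_smul_left, b_smul_left, b_smul_left, b_self, b_self, O.qa,
      O.qb, O.ab, hba]
    constructor <;> ring
  have hinj : Function.Injective φ := fun p p' h => by
    obtain ⟨h1, h1'⟩ := hco p
    obtain ⟨h3, h3'⟩ := hco p'
    rw [h] at h1 h1'
    exact Prod.ext (mul_left_cancel₀ h2 (h1.symm.trans h3)) (mul_left_cancel₀ h2 (h1'.symm.trans h3'))
  have hmem : ∀ v, v ∈ Z4 Q e d f g ⊓ orth1 Q x ↔ ∃ p, φ p = v := by
    intro v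
    constructor
    · rintro ⟨hv, hvx⟩
      refine ⟨(polar Q v a / 2, polar Q v b / 2), ?_⟩
      have h1 := O.expand h2 v
      rw [b_comm v d, O.H.zd hv, b_comm v e, O.H.ze hv, b_comm v g, O.H.zg hv, b_comm v f, O.H.zf hv,
        show polar Q v x = 0 by rw [b_comm]; exact hvx] at h1
      rw [hφ]
      linear_combination (norm := module) -h1
    · rintro ⟨p, rfl⟩
      rw [hφ]
      refine ⟨Submodule.add_mem _ (Submodule.smul_mem _ _ O.ha) (Submodule.smul_mem _ _ O.hb), ?_⟩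
      show polar Q x _ = 0
      rw [b_add_right, b_smul_right, b_smul_right, b_comm x a, b_comm x b, O.ax, O.bx]
      ring
  have hq : ∀ p, Q (φ p) = p.1 * p.1 + p.2 * p.2 := fun p => by
    rw [hφ, q_add, q_smul, q_smul, b_smul_left, b_smul_right, O.qa, O.qb, O.ab]
    ring
  have hset : sgF Q (Z4 Q e d f g ⊓ orth1 Q x) =
      (Finset.univ.filter fun p : F × F => p ≠ 0 ∧ p.1 * p.1 + p.2 * p.2 = 0).image φ := by
    ext v
    simp only [mem_sgF, hmem, Finset.mem_image, Finset.mem_filter, Finset.mem_univ, true_and]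
    constructor
    · rintro ⟨⟨p, rfl⟩, h0, h1⟩
      exact ⟨p, ⟨fun hp => h0 (by rw [hφ, hp]; simp), by rw [← hq]; exact h1⟩, rfl⟩
    · rintro ⟨p, ⟨h0, h1⟩, rfl⟩
      exact ⟨⟨p, rfl⟩, fun hp => h0 (hinj (hp.trans (by rw [hφ]; simp))), by rw [hq]; exact h1⟩
  refine ⟨?_, ?_⟩
  · rw [hset, Finset.card_image_of_injective _ hinj]
    by_cases hi : ∃ i : F, i * i = -1
    · obtain ⟨i, hi⟩ := hi
      right
      have hi0 : i ≠ 0 := fun h => by rw [h, mul_zero, eq_comm, neg_eq_zero] at hi; exact one_ne_zero hi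
      have hs' : (Finset.univ.filter fun p : F × F => p ≠ 0 ∧ p.1 * p.1 + p.2 * p.2 = 0) =
          (Finset.univ.erase (0 : F)).image (fun t => (i * t, t)) ∪
            (Finset.univ.erase (0 : F)).image (fun t => (-(i * t), t)) := by
        ext ⟨r, t⟩
        simp only [Finset.mem_filter, Finset.mem_univ, true_and, Finset.mem_union, Finset.mem_image,
          Finset.mem_erase, and_true, Prod.ext_iff, ne_eq]
        constructor
        · rintro ⟨h0, h1⟩
          have ht : t ≠ 0 := fun ht => h0 ⟨by rw [ht, mul_zero, add_zero] at h1; simpa using h1, ht⟩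
          rcases mul_self_eq_mul_self_iff.1 (show r * r = (i * t) * (i * t) by
            linear_combination h1 - t * t * hi) with h | h
          · exact Or.inl ⟨t, ht, h.symm, rfl⟩
          · exact Or.inr ⟨t, ht, h.symm, rfl⟩
        · rintro (⟨u, hu, rfl, rfl⟩ | ⟨u, hu, rfl, rfl⟩) <;>
            exact ⟨fun h => hu h.2, by linear_combination u * u * hi⟩
      rw [hs', Finset.card_union_of_disjoint, Finset.card_image_of_injective, Finset.card_image_of_injective,
        Finset.card_erase_of_mem (Finset.mem_univ _), Finset.card_univ, ← Nat.card_eq_fintype_card,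
        Nat.cast_add, Nat.cast_sub (Nat.card_pos (α := F)), Nat.cast_one]
      · ring
      · exact fun u u' h => congrArg Prod.snd h
      · exact fun u u' h => congrArg Prod.snd h
      · rw [Finset.disjoint_left]
        simp only [Finset.mem_image, Finset.mem_erase, Finset.mem_univ, and_true]
        rintro p ⟨u, hu, rfl⟩ ⟨u', -, h⟩
        obtain ⟨h1, h3⟩ := Prod.mk.inj h
        rw [h3] at h1
        have h4 : (2 : F) * (i * u) = 0 := by linear_combination -h1
        exact mul_ne_zero hi0 hu ((mul_eq_zero.1 h4).resolve_left h2)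
    · left
      rw [Finset.card_eq_zero, Finset.filter_eq_empty_iff]
      rintro ⟨r, t⟩ - ⟨h0, h1⟩
      rcases eq_or_ne t 0 with rfl | ht
      · exact h0 (Prod.ext (by simpa using h1) rfl)
      · exact hi ⟨r / t, by field_simp; linear_combination h1⟩
  · rw [show Finset.univ.filter (· ∈ Z4 Q e d f g ⊓ orth1 Q x) = Finset.univ.image φ by
      ext v; simp [hmem], Finset.card_image_of_injective _ hinj, Finset.card_univ, Fintype.card_prod,
      ← Nat.card_eq_fintype_card, pow_two]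

omit hs in
/-- Singular vectors of the four-space. -/
theorem four_count (h2 : (2 : F) ≠ 0) [DecidableEq F] :
    ((sgF Q (pperp Q e d ⊓ orth1 Q x)).card : ℤ) = ((Nat.card F : ℤ) - 1) +
      (Nat.card F : ℤ) * (sgF Q (Z4 Q e d f g ⊓ orth1 Q x)).card +
      ((Nat.card F : ℤ) - 1) * (Nat.card F : ℤ) ^ 2 := by
  classical
  have hinf : pperp Q e d ⊓ orth1 Q x ⊓ pperp Q f g = Z4 Q e d f g ⊓ orth1 Q x := by
    rw [Z4]; exact inf_right_comm _ _ _
  have hsum := sum_sgF O.H.p' (X := pperp Q e d ⊓ orth1 Q x) ⟨O.H.hf, O.xf⟩ ⟨O.H.hg, O.xg⟩ (fun _ => (1 : ℝ))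
  simp only [Finset.sum_const, nsmul_eq_mul, mul_one, Finset.card_erase_of_mem (Finset.mem_univ (0 : F)),
    Finset.card_univ, hinf, ← Nat.card_eq_fintype_card] at hsum
  rw [(C.plane_count O h2).2] at hsum
  have h3 := congrArg (fun r : ℝ => r) hsum
  have hq := Nat.card_pos (α := F)
  have h4 : ((sgF Q (pperp Q e d ⊓ orth1 Q x)).card : ℝ) = (((Nat.card F : ℤ) - 1) +
      (Nat.card F : ℤ) * (sgF Q (Z4 Q e d f g ⊓ orth1 Q x)).card +
      ((Nat.card F : ℤ) - 1) * (Nat.card F : ℤ) ^ 2 : ℤ) := by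
    rw [hsum]
    push_cast [Nat.cast_sub hq]
    ring
  exact_mod_cast h4

/-- The degree divides the trace times the class size. -/
theorem class_dvd (hirr : Irred ρ) (hne : ∃ g x, ρ g x ≠ x) {χ : ℤ}
    (hχ : LinearMap.trace ℂ W (ρ s) = (χ : ℂ)) :
    (finrank ℂ W : ℤ) ∣ (Nat.card {v // Q v = Q x} : ℤ) * χ := by
  classical
  haveI : Nontrivial W := Module.nontrivial_of_finrank_pos (C.finrank_pos_rep hne)
  obtain ⟨S, hS⟩ : ∃ S, (Finset.univ.filter fun y : V => Q y = Q x) = S := ⟨_, rfl⟩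
  have hmem : ∀ y ∈ S, Q y = Q x := fun y hy => by rw [← hS, Finset.mem_filter] at hy; exact hy.2
  have hg : ∀ y, ∃ h : omg Q, y ∈ S → app h x = y := by
    intro y
    by_cases hy : y ∈ S
    · obtain ⟨h, hh, hxy⟩ := siegel_transitive C.good.nd C.good.dim O.qx (hmem y hy).symm
      rw [siegelGroup_eq C.good.nd C.good.dim] at hh
      exact ⟨⟨h, hh⟩, fun _ => hxy⟩
    · exact ⟨1, fun h => absurd h hy⟩
  choose gy hgy using hg
  have hsy : ∀ y ∈ S, ∀ v, app (gy y * s * (gy y)⁻¹) v = -v + (polar Q v y / Q y) • y := by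
    intro y hy v
    obtain ⟨v', rfl⟩ : ∃ v', app (gy y) v' = v := ⟨app (gy y)⁻¹ v, app_app_inv _ v⟩
    rw [app_mul, app_mul, app_inv_app, hs v', show ∀ (u : V) (c : F), app (gy y) (-u + c • x) =
      -app (gy y) u + c • app (gy y) x from fun u c => by
        rw [show ∀ z, app (gy y) z = (gy y).1.1 z from fun _ => rfl, map_add, map_neg, map_smul], hgy y hy,
      hmem y hy]
    have hb : polar Q (app (gy y) v') y = polar Q v' x :=
      (congrArg (polar Q (app (gy y) v')) (hgy y hy)).symm.trans (b_app _ _ _)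
    rw [hb]
  obtain ⟨T, hT⟩ : ∃ T : W →ₗ[ℂ] W, ∑ y ∈ S, ρ (gy y * s * (gy y)⁻¹) = T := ⟨_, rfl⟩
  obtain ⟨c, hc⟩ := schur_on (ρ := ρ) (MonoidHom.id (omg Q)) (K := ⊤) (fun L _ h => hirr L h)
    (fun _ _ _ => Submodule.mem_top) T (fun _ _ => Submodule.mem_top) fun h u _ => by
      rw [MonoidHom.id_apply, ← hT, LinearMap.sum_apply, LinearMap.sum_apply, map_sum]
      refine Finset.sum_nbij' (fun y => app h⁻¹ y) (fun y => app h y) ?_ ?_ ?_ ?_ ?_
      · intro y hy
        rw [← hS, Finset.mem_filter]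
        exact ⟨Finset.mem_univ _, by rw [q_app, hmem y hy]⟩
      · intro y hy
        rw [← hS, Finset.mem_filter]
        exact ⟨Finset.mem_univ _, by rw [q_app, hmem y hy]⟩
      · exact fun y _ => app_app_inv h y
      · exact fun y _ => app_inv_app h y
      · intro y hy
        have hy' : app h⁻¹ y ∈ S := by
          rw [← hS, Finset.mem_filter]
          exact ⟨Finset.mem_univ _, by rw [q_app, hmem y hy]⟩
        rw [← rho_conj (ρ := ρ) h (gy (app h⁻¹ y) * s * (gy (app h⁻¹ y))⁻¹) u]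
        congr 2
        refine omg_ext fun v => ?_
        obtain ⟨v', rfl⟩ : ∃ v', app h v' = v := ⟨app h⁻¹ v, app_app_inv _ v⟩
        rw [hsy y hy, app_mul _ h⁻¹, app_inv_app, app_mul h, hsy _ hy']
        obtain ⟨y', rfl⟩ : ∃ y', app h y' = y := ⟨app h⁻¹ y, app_app_inv _ y⟩
        rw [app_inv_app, b_app, q_app, show ∀ (u : V) (c : F), app h (-u + c • y') =
          -app h u + c • app h y' from fun u c => by
            rw [show ∀ z, app h z = h.1.1 z from fun _ => rfl, map_add, map_neg, map_smul]]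
  have hsum : ∀ u, ∑ y ∈ S, ρ (gy y * s * (gy y)⁻¹) u = c • u := fun u => by
    rw [← LinearMap.sum_apply, hT, hc u Submodule.mem_top]
  have htr := trace_conj_sum S gy s hsum
  have hcard : S.card = Nat.card {v // Q v = Q x} := by
    rw [Nat.card_eq_fintype_card, Fintype.card_subtype, hS]
  haveI : Finite (omg Q) := finite_omg
  refine dvd_of_scalar ρ S (fun y => gy y * s * (gy y)⁻¹) hsum (C.finrank_pos_rep hne) ?_
  rw [htr, hχ, hcard]
  push_cast
  ring

end Ctx

end Cfsg.Agent.OrthDeg
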