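/-
The seven-dimensional base case with two core fixed lines.
-/
import Cfsg.Agent.Lib.OrthDeg.OddTrace
import Cfsg.Agent.Lib.OrthDeg.Scalar
import Cfsg.Agent.Lib.OrthDeg.Bases

set_option autoImplicit false

namespace Cfsg.Agent.OrthDeg

open QuadraticMap Module Cfsg.Agent.Orth
open scoped InnerProductSpace

universe u v

/-- The two inequalities exclude each other. -/
theorem base_odd_real {q X π : ℝ} (hq : 5 ≤ q) (hX : 0 ≤ X) (hπ : X ≤ π)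
    (hu : (q - 1) * X * (1 + q * π) ≤ 1) (hz : q ^ 4 - q ^ 3 - 1 ≤ q ^ 5 * X) : False := by
  obtain ⟨y, hy⟩ : ∃ y, q * X = y := ⟨_, rfl⟩
  have hq4 : (625 : ℝ) ≤ q ^ 4 := le_trans (by norm_num) (pow_le_pow_left₀ (by norm_num) hq 4)
  have h1 : q ^ 3 ≤ q ^ 4 / 5 := by nlinarith [mul_le_mul_of_nonneg_left hq (show (0 : ℝ) ≤ q ^ 3 by positivity)]
  have h2 : q ^ 4 * (79 / 100) ≤ q ^ 4 * y := by
    rw [← hy]
    nlinarith
  have hy1 : (79 / 100 : ℝ) ≤ y := le_of_mul_le_mul_left h2 (by positivity)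
  have h3 : (q - 1) * (y * (1 + y)) ≤ q := by
    have h4 := mul_le_mul_of_nonneg_left hu (show (0 : ℝ) ≤ q by linarith)
    have h5 : (0 : ℝ) ≤ (q - 1) * (q * X) * (q * (π - X)) :=
      mul_nonneg (mul_nonneg (by linarith) (mul_nonneg (by linarith) hX)) (mul_nonneg (by linarith) (by linarith))
    rw [← hy]
    nlinarith
  have h6 : (14 / 10 : ℝ) ≤ y * (1 + y) := by nlinarith
  nlinarith [mul_le_mul_of_nonneg_left h6 (show (0 : ℝ) ≤ q - 1 by linarith)]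

variable {F : Type u} {V : Type v} [Field F] [Fintype F] [AddCommGroup V] [Module F V] [FiniteDimensional F V]
  [Fintype V] {Q : QuadraticForm F V}
  {W : Type} [NormedAddCommGroup W] [InnerProductSpace ℂ W] [FiniteDimensional ℂ W]
  {ρ : omg Q →* (W →ₗ[ℂ] W)} {ψ : AddChar F ℂ}

omit [Fintype V] in
/-- An equivariant projection to a space with one line of the given sign. -/
theorem proj_line (hu : IsUnitary ρ) {s : omg Q} (hs : s * s = 1) {K : Submodule ℂ W}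
    (hK : ∀ x ∈ K, ρ s x ∈ K) {η : ℂ} {k : W} (hk : k ∈ K) (hk1 : ‖k‖ = 1)
    (hline : ∀ x ∈ sgS ρ s K η, ∃ μ : ℂ, x = μ • k) {y : W} (hy : ρ s y = η • y) :
    K.starProjection y = ⟪k, y⟫_ℂ • k := by
  have h1 := hu.proj_map (K := K) (K' := K) (g := s) (fun x => ⟨fun h => by
    have h2 := hK _ h
    rwa [← rho_mul, hs, rho_one] at h2, hK x⟩) y
  rw [hy, map_smul] at h1
  obtain ⟨μ, hμ⟩ := hline _ ⟨K.starProjection_apply_mem y, h1.symm⟩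
  have h3 : ⟪k, K.starProjection y⟫_ℂ = ⟪k, y⟫_ℂ := by
    rw [← Submodule.inner_starProjection_left_eq_right, Submodule.starProjection_eq_self_iff.2 hk]
  rw [hμ, inner_smul_right, inner_self_eq_norm_sq_to_K, hk1] at h3
  rw [hμ, ← h3]
  simp

namespace Ctx

variable (C : Ctx Q ρ ψ) {e d f g : V} (H : Frame Q e d f g)

include C H

/-- Vectors of the first kind with a component at g. -/
theorem norm_proj_side {u : W} (hu : u ∈ KK Q ρ ψ e f) {z : V} (hz : z ∈ Z4 Q e d f g) {r : F} (hr : r ≠ 0)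
    (t : F) :
    ‖(Fx Q ρ ψ (t • e + ((-Q z / r) • f + r • g + z))).starProjection u‖ =
      ‖(Fx Q ρ ψ g).starProjection u‖ := by
  obtain ⟨T₁, hT₁, h01, hrep⟩ := C.sing_repr H.p' (y := z) hz.2 hr
  have h02 : polar Q e ((-(t / r)) • f) = 0 := by rw [b_smul_right, H.ef, mul_zero]
  obtain ⟨T₂, hT₂⟩ : ∃ T₂, tr Q e ((-(t / r)) • f) = T₂ := ⟨_, rfl⟩
  have hT₁e : app T₁ e = e :=
    hT₁ ▸ tr_fix C.good H.p'.qe h01 H.ef (by rw [b_smul_right, H.ze hz, mul_zero])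
  have hT₂g : app T₂ g = g + (t / r) • e := by
    rw [← hT₂, tr_apply C.good H.p.qe h02, H.ge, b_smul_right, b_comm g f, H.p'.ed]
    module
  have hv : t • e + ((-Q z / r) • f + r • g + z) = r • app (T₁ * T₂) g := by
    rw [hrep, app_mul, hT₂g, show app T₁ (g + (t / r) • e) = app T₁ g + (t / r) • app T₁ e by
      show T₁.1.1 _ = _; rw [map_add, map_smul], hT₁e, smul_add, smul_smul, mul_div_cancel₀ _ hr]
    abel
  obtain ⟨h1, h2⟩ := mem_KK.1 hu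
  have hfix : ρ (T₁ * T₂) u = (1 : ℂ) • u := by
    rw [one_smul, rho_mul, ← hT₂, mem_Fx.1 h1 _ h02, hT₁]
    exact h2 _ (by rw [b_smul_right, H.ze hz, mul_zero]) h01
  simp only [hv, C.Fx_scale (e := app (T₁ * T₂) g) (by rw [q_app, H.p'.qd]) hr]
  exact C.norm_proj_move (fun w => C.Fx_map H.p'.qd (T₁ * T₂)) hfix norm_one

/-- A lower bound for the sum at a vector fixed by the small roots. -/
theorem le_sum_u [DecidableEq F] {u : W} (hu : u ∈ KK Q ρ ψ e f) :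
    ((Nat.card F : ℝ) - 1) * (Nat.card (Z4 Q e d f g) * (Nat.card F * ‖(Fx Q ρ ψ g).starProjection u‖ ^ 2)) +
      ((Nat.card F : ℝ) - 1) * (Nat.card (pperp Q e d) * ‖(Fx Q ρ ψ d).starProjection u‖ ^ 2) ≤
      ∑ v ∈ sgF Q ⊤, ‖(Fx Q ρ ψ v).starProjection u‖ ^ 2 := by
  classical
  rw [sum_sgF H.p (X := ⊤) Submodule.mem_top Submodule.mem_top, top_inf_eq]
  have hc1 : ((Finset.univ.erase (0 : F)).card : ℝ) = (Nat.card F : ℝ) - 1 := by
    rw [Finset.card_erase_of_mem (Finset.mem_univ _), Finset.card_univ, ← Nat.card_eq_fintype_card,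
      Nat.cast_sub (Nat.card_pos (α := F)), Nat.cast_one]
  have hnn : ∀ v, 0 ≤ ‖(Fx Q ρ ψ v).starProjection u‖ ^ 2 := fun v => sq_nonneg _
  refine add_le_add (le_add_of_nonneg_of_le (Finset.sum_nonneg fun a _ => hnn _) ?_) (le_of_eq ?_)
  · have hinf : pperp Q e d ⊓ pperp Q f g = Z4 Q e d f g := rfl
    rw [sum_sgF H.p' H.hf H.hg (fun y => ∑ t : F, ‖(Fx Q ρ ψ (t • e + y)).starProjection u‖ ^ 2), hinf]
    refine le_add_of_nonneg_of_le (add_nonneg (Finset.sum_nonneg fun a _ => Finset.sum_nonneg fun t _ => hnn _)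
      (Finset.sum_nonneg fun a _ => Finset.sum_nonneg fun b _ => Finset.sum_nonneg fun t _ => hnn _)) (le_of_eq ?_)
    rw [Finset.sum_congr rfl (g := fun _ => (Nat.card (Z4 Q e d f g) : ℝ) *
        ((Nat.card F : ℝ) * ‖(Fx Q ρ ψ g).starProjection u‖ ^ 2)) fun r hr => ?_, Finset.sum_const, nsmul_eq_mul,
      hc1]
    rw [Finset.sum_congr rfl (g := fun _ => (Nat.card F : ℝ) * ‖(Fx Q ρ ψ g).starProjection u‖ ^ 2) fun z hz => ?_,
      Finset.sum_const, nsmul_eq_mul, Nat.card_eq_fintype_card (α := Z4 Q e d f g), Fintype.card_subtype]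
    rw [Finset.sum_congr rfl fun t _ => by
        rw [C.norm_proj_side H hu (Finset.mem_filter.1 hz).2 (Finset.ne_of_mem_erase hr) t],
      Finset.sum_const, Finset.card_univ, nsmul_eq_mul, Nat.card_eq_fintype_card (α := F)]
  · have h2 : ∀ b ∈ Finset.univ.erase (0 : F), ∑ y ∈ Finset.univ.filter (· ∈ pperp Q e d),
        ‖(Fx Q ρ ψ ((-Q y / b) • e + b • d + y)).starProjection u‖ ^ 2 =
        Nat.card (pperp Q e d) * ‖(Fx Q ρ ψ d).starProjection u‖ ^ 2 := by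
      intro b hb
      rw [Finset.sum_congr rfl fun y hy => by
          rw [C.norm_proj_big H.p (Finset.mem_filter.1 hy).2 (Finset.ne_of_mem_erase hb) (mem_KK.1 hu).1],
        Finset.sum_const, nsmul_eq_mul, Nat.card_eq_fintype_card (α := pperp Q e d), Fintype.card_subtype]
    rw [Finset.sum_congr rfl h2, Finset.sum_const, nsmul_eq_mul, hc1]

theorem base_odd (hirr : Irred ρ) (hne : ∃ g x, ρ g x ≠ x) (hT : HasType Q 1 3) (hq : 5 ≤ Nat.card F)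
    (h2 : (2 : F) ≠ 0) (S : Small Q ρ ψ e d f g 1 1) : False := by
  classical
  have hδ1 := C.base_odd_small H hirr hne hT S
  obtain ⟨a, b, x, O⟩ := exists_oddFrame C.good h2 hT H
  obtain ⟨s, hs⟩ := O.exists_inv C.good h2
  obtain ⟨η, hη1, hη⟩ := C.line_sign O hs h2 S
  obtain ⟨q, hqdef⟩ : ∃ q, Nat.card F = q := ⟨_, rfl⟩
  rw [hqdef] at hq
  -- dimensions
  have hz1 : (zc q 1 1 : ℤ) = q ^ 2 := by
    simp only [zc]
    push_cast [Nat.cast_sub (show 1 ≤ q by omega)]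
    ring
  have hz2 : (zc q 1 2 : ℤ) = q ^ 4 := by
    simp only [zc]
    push_cast [Nat.cast_sub (show 1 ≤ q by omega)]
    ring
  have hz3 : (zc q 1 3 : ℤ) = q ^ 6 := by
    simp only [zc]
    push_cast [Nat.cast_sub (show 1 ≤ q by omega)]
    ring
  have e1 : (finrank ℂ (Fx Q ρ ψ e) : ℤ) = q ^ 2 + 1 := by
    have := S.fx
    rw [hqdef] at this
    omega
  have e2 : (finrank ℂ W : ℤ) = q ^ 2 * (q ^ 2 + 1) := by
    have := S.dim
    rw [hqdef] at this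
    simp only [Nat.reduceAdd] at this
    rw [show (q : ℤ) ^ 2 * (q ^ 2 + 1) = q ^ 4 + q ^ 2 by ring]
    omega
  have e4 : ((sgF Q ⊤).card : ℤ) = q ^ 6 - 1 := by
    have h := card_sgF hT.top
    rw [hqdef] at h
    have := zc_pos q 1 (by omega) 3
    omega
  -- the trace and the class sum
  have hss := O.inv_sq hs
  have hKs : ∀ u ∈ KK Q ρ ψ e f, ρ s u ∈ KK Q ρ ψ e f := fun u hu => C.KK_inv O hs hu
  obtain ⟨hsplit, htU⟩ := C.unit.sgn_split hss hKs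
  obtain ⟨np, hnp⟩ : ∃ n, finrank ℂ (sgS ρ s (KK Q ρ ψ e f) 1) = n := ⟨_, rfl⟩
  obtain ⟨nm, hnm⟩ : ∃ n, finrank ℂ (sgS ρ s (KK Q ρ ψ e f) (-1)) = n := ⟨_, rfl⟩
  rw [hδ1, hnp, hnm] at hsplit
  rw [hnp, hnm] at htU
  obtain ⟨F', hF'⟩ : ∃ F' : ℤ, ((sgF Q (Z4 Q e d f g ⊓ orth1 Q x)).card : ℤ) = F' := ⟨_, rfl⟩
  obtain ⟨χ, hχdef⟩ : ∃ χ : ℤ, ((np : ℤ) - nm) + η * (((q : ℤ) - 1) + q * F' + (q - 1) * (q : ℤ) ^ 2 + F') = χ :=
    ⟨_, rfl⟩
  have hχ : LinearMap.trace ℂ W (ρ s) = (χ : ℂ) := by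
    rw [C.trace_inv O hs S hη, C.trace_Fx O hs h2 hT S hη, htU, ← hχdef, C.four_count O h2, hqdef, hF']
    push_cast
    ring
  have hdvd := C.class_dvd O hs hirr hne hχ
  obtain ⟨L0, hL0, hlev⟩ := level_card_odd h2 3 C.good.nd hT O.qx
  rw [hlev, e2, hqdef] at hdvd
  have hFcases : F' = 0 ∨ F' = 2 * ((q : ℤ) - 1) := by
    rcases (C.plane_count O h2).1 with h | h
    · exact Or.inl (by rw [← hF', h]; rfl)
    · exact Or.inr (by rw [← hF', h, hqdef])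
  obtain ⟨-, ht0⟩ := odd_class_arith (q := (q : ℤ)) (t := (np : ℤ) - nm) (η := η) (F' := F') (L0 := L0) (χ := χ)
    (by exact_mod_cast hq) hL0 hχdef.symm hη1 (by omega) hFcases (by
      refine hdvd.trans (dvd_of_eq ?_)
      ring)
  -- the line of sign η in the core
  obtain ⟨ηc, hηc⟩ : ∃ ηc : ℂ, ((η : ℤ) : ℂ) = ηc := ⟨_, rfl⟩
  simp only [hηc] at hη
  have hUη : finrank ℂ (sgS ρ s (KK Q ρ ψ e f) ηc) = 1 := by
    rcases hη1 with rfl | rfl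
    · rw [← hηc, Int.cast_one, hnp]; omega
    · rw [← hηc, Int.cast_neg, Int.cast_one, hnm]; omega
  haveI : Nontrivial (sgS ρ s (KK Q ρ ψ e f) ηc) := Module.nontrivial_of_finrank_pos (R := ℂ) (by omega)
  obtain ⟨⟨u₀, hu₀⟩, hu₀0⟩ := exists_ne (0 : sgS ρ s (KK Q ρ ψ e f) ηc)
  have hu₀0' : u₀ ≠ 0 := fun h => hu₀0 (Subtype.ext h)
  obtain ⟨u, hudef⟩ : ∃ u, (‖u₀‖ : ℂ)⁻¹ • u₀ = u := ⟨_, rfl⟩
  have huS : u ∈ sgS ρ s (KK Q ρ ψ e f) ηc := hudef ▸ Submodule.smul_mem _ _ hu₀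
  have hu1 : ‖u‖ = 1 := hudef ▸ norm_smul_inv_norm hu₀0'
  have hline : ∀ y ∈ sgS ρ s (KK Q ρ ψ e f) ηc, ∃ μ : ℂ, y = μ • u := by
    intro y hy
    have hu0 : (⟨u, huS⟩ : sgS ρ s (KK Q ρ ψ e f) ηc) ≠ 0 := fun h => by
      have h1 : u = 0 := congrArg Subtype.val h
      rw [h1, norm_zero] at hu1
      exact zero_ne_one hu1
    obtain ⟨μ, hμ⟩ := (finrank_eq_one_iff_of_nonzero' _ hu0).1 hUη ⟨y, hy⟩
    exact ⟨μ, (congrArg Subtype.val hμ).symm⟩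
  -- images of the line
  have himg : ∀ (T : omg Q) (e' f' : V), app T e = e' → app T f = f' → app T x = x →
      ρ T u ∈ KK Q ρ ψ e' f' ∧ ‖ρ T u‖ = 1 ∧ ρ s (ρ T u) = ηc • ρ T u ∧
      (∀ y ∈ KK Q ρ ψ e' f', ρ s y ∈ KK Q ρ ψ e' f') ∧
      ∀ y ∈ sgS ρ s (KK Q ρ ψ e' f') ηc, ∃ μ : ℂ, y = μ • ρ T u := by
    intro T e' f' h1 h3 h4
    have hc := O.inv_comm hs h4
    have hmap : ∀ y, ρ T y ∈ KK Q ρ ψ e' f' ↔ y ∈ KK Q ρ ψ e f := fun y => by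
      rw [← h1, ← h3]; exact C.KK_map H.p.qe H.p'.qe T
    have hc' : ∀ y, ρ s (ρ T y) = ρ T (ρ s y) := fun y => by rw [← rho_mul, ← hc, rho_mul]
    refine ⟨(hmap u).2 huS.1, by rw [C.unit.norm_eq, hu1], by rw [hc', huS.2, map_smul], fun y hy => ?_,
      fun y hy => ?_⟩
    · rw [← rho_apply_inv (ρ := ρ) T y, hc']
      exact (hmap _).2 (hKs _ ((hmap _).1 (by rwa [rho_apply_inv])))
    · obtain ⟨y', rfl⟩ : ∃ y', ρ T y' = y := ⟨ρ T⁻¹ y, rho_apply_inv T y⟩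
      have h5 : ρ s y' = ηc • y' := rho_inj T (by rw [← hc', hy.2, map_smul])
      obtain ⟨μ, rfl⟩ := hline y' ⟨(hmap y').1 hy.1, h5⟩
      exact ⟨μ, map_smul _ _ _⟩
  obtain ⟨T, t1, t2, t3, t4, t5⟩ := O.exists_swap C.good h2
  obtain ⟨T', r1, r2, r3, r4, r5⟩ := O.exists_flip C.good h2
  obtain ⟨hu'K, hu'1, hu's, hK's, hline'⟩ := himg T f e t1 t2 t5
  obtain ⟨hvK, hv1, hvs, hK''s, hline''⟩ := himg (T' * T) f d (by rw [app_mul, t1, r3]) (by rw [app_mul, t2, r1])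
    (by rw [app_mul, t5, r5])
  obtain ⟨u', hu'def⟩ : ∃ u', ρ T u = u' := ⟨_, rfl⟩
  obtain ⟨v, hvdef⟩ : ∃ v, ρ (T' * T) u = v := ⟨_, rfl⟩
  rw [hu'def] at hu'K hu'1 hu's hline'
  rw [hvdef] at hvK hv1 hvs hline''
  -- projections of the test vectors
  have hPf : ∀ y ∈ MM Q ρ e f, ρ s y = ηc • y → (Fx Q ρ ψ f).starProjection y = ⟪u', y⟫_ℂ • u' := by
    intro y hy hys
    have h1 := C.proj_f_mem (ψ := ψ) hy H.p.qe H.p'.qe H.ef
    have h3 := proj_comp_le (inf_le_left : KK Q ρ ψ f e ≤ Fx Q ρ ψ f) y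
    rw [Submodule.starProjection_eq_self_iff.2 h1] at h3
    rw [h3, proj_line C.unit hss hK's hu'K hu'1 hline' hys]
  have hPd : ∀ y ∈ MM Q ρ e f, ρ s y = ηc • y →
      ‖(Fx Q ρ ψ f).starProjection y‖ ^ 2 = ‖⟪u', y⟫_ℂ‖ ^ 2 ∧
      ‖(Fx Q ρ ψ d).starProjection y‖ ^ 2 = ‖⟪u', y⟫_ℂ‖ ^ 2 * ‖(Fx Q ρ ψ d).starProjection u'‖ ^ 2 := by
    intro y hy hys
    refine ⟨by rw [hPf y hy hys, norm_smul, hu'1, mul_one], ?_⟩
    rw [← C.proj_d_f H hy, hPf y hy hys, map_smul, norm_smul, mul_pow]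
  obtain ⟨X, hX⟩ : ∃ X, ‖(Fx Q ρ ψ d).starProjection u'‖ ^ 2 = X := ⟨_, rfl⟩
  obtain ⟨π0, hπ0⟩ : ∃ p, ‖⟪u', u⟫_ℂ‖ ^ 2 = p := ⟨_, rfl⟩
  obtain ⟨huf, hud⟩ := hPd u huS.1.2 huS.2
  rw [hπ0] at huf hud
  rw [hX] at hud
  have hXg : ‖(Fx Q ρ ψ g).starProjection u‖ ^ 2 = X := by
    rw [← hX, ← hu'def, C.unit.proj_map (K := Fx Q ρ ψ g) (K' := Fx Q ρ ψ d) (fun z => by
      have h := C.Fx_map (ψ := ψ) H.p'.qd T (x := z)
      rwa [t4] at h) u, C.unit.norm_eq]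
  have hXπ : X ≤ π0 := by
    rw [← hX, ← huf, ← C.proj_eq_KK (e := f) (v := d) H.p'.qe H.p.qd H.fd hu'K.1,
      proj_line C.unit hss hK''s hvK hv1 hline'' hu's, map_smul, norm_smul, ← hvdef,
      C.unit.proj_map (K := Fx Q ρ ψ f) (K' := Fx Q ρ ψ d) (fun z => by
        have h := C.Fx_map (ψ := ψ) H.p'.qe (T' * T) (x := z)
        rwa [app_mul, t2, r1] at h) u, C.unit.norm_eq, mul_pow]
    refine mul_le_of_le_one_left (sq_nonneg _) (pow_le_one₀ (norm_nonneg _) ?_)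
    refine (norm_inner_le_norm (𝕜 := ℂ) _ _).trans (le_of_eq ?_)
    rw [C.unit.norm_eq, hu1, hu'1, mul_one]
  -- the labelled lines
  have hz : ∀ c : {c : F // c ≠ 0}, ∃ z ∈ E Q ρ ψ e (c.1 • f), ‖z‖ = 1 := by
    intro c
    have h1 := S.sing (c.1 • f) (Submodule.smul_mem _ _ H.hf) (smul_ne_zero c.2 H.p'.ne)
      (by rw [q_smul, H.p'.qe, mul_zero])
    have hne : E Q ρ ψ e (c.1 • f) ≠ ⊥ := fun h => by rw [h, finrank_bot] at h1; exact zero_ne_one h1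
    obtain ⟨z, hz, hz0⟩ := (Submodule.ne_bot_iff _).1 hne
    exact ⟨(‖z‖ : ℂ)⁻¹ • z, Submodule.smul_mem _ _ hz, norm_smul_inv_norm hz0⟩
  choose z hz hz1 using hz
  have hzY : ∀ c : {c : F // c ≠ 0}, c.1 • f ∈ pperp Q e d := fun c => Submodule.smul_mem _ _ H.hf
  have hzs : ∀ c, ρ s (z c) = ηc • z c := fun c =>
    hη _ (hzY c) (smul_ne_zero c.2 H.p'.ne) (by rw [q_smul, H.p'.qe, mul_zero])
      (by rw [b_smul_right, O.xf, mul_zero]) _ (hz c)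
  let y : Option {c : F // c ≠ 0} → W := fun o => o.elim u z
  have hy : Orthonormal ℂ y := by
    refine ⟨fun o => by rcases o with _ | c; exacts [hu1, hz1 c], fun o o' hne' => ?_⟩
    rcases o with _ | c <;> rcases o' with _ | c'
    · exact absurd rfl hne'
    · exact C.E_orth H.p (Submodule.zero_mem _) (hzY c') (smul_ne_zero c'.2 H.p'.ne).symm huS.1.1 (hz c')
    · exact C.E_orth H.p (hzY c) (Submodule.zero_mem _) (smul_ne_zero c.2 H.p'.ne) (hz c) huS.1.1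
    · refine C.E_orth H.p (hzY c) (hzY c') (fun h => hne' ?_) (hz c) (hz c')
      rw [Subtype.ext (smul_left_injective F H.p'.ne h : c.1 = c'.1)]
  have hbes : π0 + ∑ c, ‖⟪u', z c⟫_ℂ‖ ^ 2 ≤ 1 := by
    have h := hy.sum_inner_products_le u' (s := Finset.univ)
    rw [hu'1, one_pow, Fintype.sum_option] at h
    simp only [y, Option.elim, norm_inner_symm _ u'] at h
    rw [hπ0] at h
    exact h
  haveI : Nonempty {c : F // c ≠ 0} := ⟨⟨1, one_ne_zero⟩⟩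
  obtain ⟨c, hc⟩ : ∃ c, ((q : ℝ) - 1) * ‖⟪u', z c⟫_ℂ‖ ^ 2 ≤ 1 := by
    by_contra! hall
    have h1 := Finset.sum_lt_sum_of_nonempty Finset.univ_nonempty fun c _ => hall c
    have hcard : Fintype.card {c : F // c ≠ 0} = q - 1 := by
      rw [Fintype.card_subtype_compl, Fintype.card_subtype_eq, ← Nat.card_eq_fintype_card, hqdef]
    rw [← Finset.mul_sum, Finset.sum_const, Finset.card_univ, hcard, nsmul_one, Nat.cast_sub (by omega),
      Nat.cast_one] at h1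
    have hq1 : (0 : ℝ) ≤ (q : ℝ) - 1 := by
      have : (5 : ℝ) ≤ q := by exact_mod_cast hq
      linarith
    have hπnn : 0 ≤ π0 := hπ0 ▸ sq_nonneg _
    have h3 := mul_le_mul_of_nonneg_left (show ∑ c, ‖⟪u', z c⟫_ℂ‖ ^ 2 ≤ 1 by linarith) hq1
    linarith
  -- the sums
  have rδ : (finrank ℂ (Fx Q ρ ψ e) : ℝ) = (q : ℝ) ^ 2 + 1 := by exact_mod_cast e1
  have rk : (finrank ℂ W : ℝ) = (q : ℝ) ^ 2 * ((q : ℝ) ^ 2 + 1) := by exact_mod_cast e2
  have rS : ((sgF Q ⊤).card : ℝ) = (q : ℝ) ^ 6 - 1 := by exact_mod_cast e4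
  have hpos : (0 : ℝ) < (q : ℝ) ^ 2 + 1 := by positivity
  have hsum : ∀ w, ‖w‖ = 1 → (q : ℝ) ^ 2 * ∑ v ∈ sgF Q ⊤, ‖(Fx Q ρ ψ v).starProjection w‖ ^ 2 = (q : ℝ) ^ 6 - 1 := by
    intro w hw
    have h := C.proj_sum hirr H.p.ne H.p.qe w
    rw [hw, one_pow, mul_one, rδ, rk, rS] at h
    exact mul_right_cancel₀ hpos.ne' (by rw [← h]; ring)
  have hY5 : Nat.card (pperp Q e d) = q ^ 5 := by
    rw [card_submodule, (hT.restrict H.p).1, hqdef]
  have hZ3 : Nat.card (Z4 Q e d f g) = q ^ 3 := by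
    rw [card_submodule, (z4_type (i := 1) C.good.nd hT H).1, hqdef]
  have hsZ : ((sgF Q (Z4 Q e d f g)).card : ℝ) = (q : ℝ) ^ 2 - 1 := by
    have h := card_sgF (z4_type (i := 1) C.good.nd hT H)
    rw [hqdef] at h
    have hp := zc_pos q 1 (by omega) 1
    have h3 : ((sgF Q (Z4 Q e d f g)).card : ℤ) = (q : ℤ) ^ 2 - 1 := by omega
    exact_mod_cast h3
  have hqR : (5 : ℝ) ≤ q := by exact_mod_cast hq
  have hXnn : 0 ≤ X := hX ▸ sq_nonneg _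
  have hlow := C.le_sum_u H huS.1
  rw [hud, hXg, hY5, hZ3, hqdef] at hlow
  push_cast at hlow
  have hu2 : ((q : ℝ) - 1) * X * (1 + q * π0) ≤ 1 := by
    refine le_of_mul_le_mul_left ?_ (show (0 : ℝ) < (q : ℝ) ^ 6 by positivity)
    have h5 := mul_le_mul_of_nonneg_left hlow (show (0 : ℝ) ≤ (q : ℝ) ^ 2 by positivity)
    rw [hsum u hu1] at h5
    linear_combination h5
  obtain ⟨hzf, hzd⟩ := hPd (z c) (C.line_le_MM H S.line c.2 (hz c)) (hzs c)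
  have hup := C.sum_le_z H c.2 (hz c) (hz1 c)
  rw [hzf, hzd, hX, hY5, hsZ, hqdef] at hup
  push_cast at hup
  refine base_odd_real hqR hXnn hXπ hu2 ?_
  have h5 := mul_le_mul_of_nonneg_left hup (show (0 : ℝ) ≤ (q : ℝ) ^ 2 by positivity)
  rw [hsum (z c) (hz1 c)] at h5
  have h6 := mul_le_mul_of_nonneg_left hc (show (0 : ℝ) ≤ (q : ℝ) by linarith)
  have h7 := mul_le_mul_of_nonneg_left hc (show (0 : ℝ) ≤ (q : ℝ) ^ 5 * X by positivity)
  refine le_of_mul_le_mul_left ?_ (show (0 : ℝ) < (q : ℝ) ^ 2 by positivity)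
  nlinarith

end Ctx

end Cfsg.Agent.OrthDeg
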