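/-
The six-dimensional hyperbolic case, through SL_4.
-/
import Cfsg.Agent.Lib.OrthDeg.Supp
import Cfsg.Agent.Lib.Orthogonal.LowSix
import Cfsg.Agent.Lib.Orthogonal.POmega
import Cfsg.Agent.S2332

set_option autoImplicit false

namespace Cfsg.Agent.OrthDeg

open QuadraticMap Module Cfsg.Agent.Orth Cfsg.Agent.OrthLow Matrix
open scoped commutatorElement

universe u v

variable {F : Type u} [Field F] [Fintype F]

theorem exists_iso_pad : ∀ (m : ℕ) {V : Type v} [AddCommGroup V] [Module F V] [FiniteDimensional F V]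
    {Q : QuadraticForm F V}, (polarBilin Q).Nondegenerate → HasType Q 0 m →
    ∃ e : V ≃ₗ[F] ((Fin m ⊕ Fin m) ⊕ Fin 0 → F), ∀ x, qPad F m (0 : QuadraticForm F (Fin 0 → F)) (e x) = Q x
  | 0, V, _, _, _, Q, _, h => by
    haveI : Subsingleton V := Module.finrank_zero_iff.1 h.1
    refine ⟨LinearEquiv.ofFinrankEq _ _ (by rw [Module.finrank_fintype_fun_eq_card]; exact h.1), fun x => ?_⟩
    rw [Subsingleton.elim x 0, map_zero, map_zero, map_zero]
  | m + 1, V, _, _, _, Q, hQ, h => by
    obtain ⟨e, d, p⟩ := h.exists_pair hQ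
    obtain ⟨e', he'⟩ := exists_iso_pad m (pperp_nondeg hQ p) (h.restrict p)
    refine ⟨((pairSplit p).trans ((LinearEquiv.refl F F).prodCongr ((LinearEquiv.refl F F).prodCongr e'))).trans
      (padSucc m (Fin 0)).symm, fun x => ?_⟩
    rw [← padSucc_spec, ← pairSplit_spec p x]
    simp only [LinearEquiv.trans_apply, LinearEquiv.apply_symm_apply, hyp_apply, LinearEquiv.prodCongr_apply,
      LinearEquiv.refl_apply, he']

/-- SL_4 maps onto Omega of the six-dimensional hyperbolic form. -/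
theorem rho6_range : (rho6 (F := F)).range = Cfsg.Omega F (⇑(qPlus F 3)) := by
  have hperf : commutator (Matrix.SpecialLinearGroup (Fin 4) F) = ⊤ := ClassicalSL.isPerfect_sl (by simp)
  have hn : 2 ≤ Fintype.card (Fin 3 ⊕ Fin 3) := by simp
  have hne : Fintype.card F ≠ 2 ∨ Fintype.card (Fin 3 ⊕ Fin 3) ≠ 4 := Or.inr (by simp)
  have hker : Nat.card (rho6 (F := F)).ker = Nat.gcd 2 (Nat.card F - 1) := by
    refine card_sign_group (mat := fun g : Matrix.SpecialLinearGroup (Fin 4) F => g.1) Subtype.val_injective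
      mem_ker_rho6 fun c hc => ?_
    refine ⟨⟨c • 1, ?_⟩, rfl⟩
    rw [Matrix.det_smul, Matrix.det_one, mul_one, Fintype.card_fin,
      show c ^ 4 = (c * c) * (c * c) by ring, hc, one_mul]
  have hcard : Nat.card (rho6 (F := F)).range * Nat.card (SpinVal F) =
      Nat.card (Cfsg.isometryGroup F (⇑(qPlus F 3))) := by
    rw [card_isometryGroup _ rfl, card_oGroup_qPlus 2, card_spinVal_eq]
    have h1 := card_range_mul (rho6 (F := F))
    rw [hker] at h1
    rw [mul_comm 2 (Nat.gcd _ _), ← mul_assoc, h1]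
    have h2 := ClassicalSL.card_sl_mul (ι := Fin 4) (F := F)
    rw [ClassicalSL.card_gl_fin rfl 4, Fin.prod_univ_four] at h2
    have hq := Finite.one_lt_card (α := F)
    refine Nat.eq_of_mul_eq_mul_left (show 0 < Nat.card F - 1 by omega) ?_
    rw [← mul_assoc, h2, Finset.prod_range_succ, Finset.prod_range_one]
    generalize Nat.card F = q
    simp only [Fin.val_zero, Fin.val_one, Fin.val_two, (by decide : ((3 : Fin 4) : ℕ) = 3), Nat.reduceAdd,
      Nat.reduceMul]
    have e : ∀ n k : ℕ, q ^ (n + k) - q ^ k = q ^ k * (q ^ n - 1) := fun n k => by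
      rw [Nat.mul_sub_one, ← pow_add, add_comm k]
    rw [e 4 0, e 3 1, e 2 2, e 1 3]
    ring
  exact omega_eq_range (qPlus_nondeg 3) hn hne _ (range_le_omega_of_perfect _ hperf) hcard

/-- The plus type with three planes. -/
theorem low_plus_three (hq : 4 ≤ Nat.card F) : Low.{u, v} F 0 3 := by
  intro V _ _ _ Q hQ hT W _ _ _ ρ hu hne
  classical
  obtain ⟨e₁, he₁⟩ := exists_iso_pad 3 hQ hT
  have he : ∀ x, qPlus F 3 (e₁.trans (plusPad 3) x) = Q x := fun x => by
    rw [LinearEquiv.trans_apply, plusPad_spec, he₁]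
  have hmap : (omg Q).map (oCongr (e₁.trans (plusPad 3)) he).toMonoidHom = omg (qPlus F 3) := by
    show (commutator _).map _ = commutator _
    rw [commutator_def, commutator_def, Subgroup.map_commutator,
      Subgroup.map_top_of_surjective _ (oCongr _ he).surjective]
  let I : omg Q ≃* omg (qPlus F 3) :=
    ((oCongr (e₁.trans (plusPad 3)) he).subgroupMap (omg Q)).trans (MulEquiv.subgroupCongr hmap)
  let φ : Matrix.SpecialLinearGroup (Fin 4) F →* omg Q :=
    I.symm.toMonoidHom.comp ((omegaEquiv (qPlus F 3)).toMonoidHom.comp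
      ((MonoidHom.codRestrict (rho6 (F := F)) _ fun g => by rw [← rho6_range]; exact ⟨g, rfl⟩)))
  have hsurj : Function.Surjective φ := by
    refine I.symm.surjective.comp ((omegaEquiv (qPlus F 3)).surjective.comp fun t => ?_)
    obtain ⟨g, hg⟩ : t.1 ∈ (rho6 (F := F)).range := by rw [rho6_range]; exact t.2
    exact ⟨g, Subtype.ext hg⟩
  obtain ⟨g, x, hgx⟩ := hne
  obtain ⟨g', rfl⟩ := hsurj g
  have hex : (4, Fintype.card F) ≠ (3, 2) ∧ (4, Fintype.card F) ≠ (3, 4) ∧ (4, Fintype.card F) ≠ (4, 2) ∧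
      (4, Fintype.card F) ≠ (4, 3) := by
    rw [Nat.card_eq_fintype_card] at hq
    simp only [ne_eq, Prod.mk.injEq, not_and]
    omega
  refine le_of_irred (H := Matrix.SpecialLinearGroup (Fin 4) F) (mdeg (Nat.card F) 0 3) ?_ _ W (ρ.comp φ) rfl
    (hu.restrict φ) ⟨g', x, hgx⟩
  intro W' _ _ _ σ hσu hσ hσne
  obtain ⟨b⟩ : Nonempty (W' ≃ₗ[ℂ] (Fin (finrank ℂ W') → ℂ)) := ⟨(Module.finBasis ℂ W').equivFun⟩
  let τ : Representation ℂ (Matrix.SpecialLinearGroup (Fin 4) F) (Fin (finrank ℂ W') → ℂ) :=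
    { toFun := fun a => b.toLinearMap ∘ₗ σ a ∘ₗ b.symm.toLinearMap
      map_one' := LinearMap.ext fun y => by simp
      map_mul' := fun a a' => LinearMap.ext fun y => by simp }
  obtain ⟨a, y, hay⟩ := hσne
  have hk : 2 ≤ finrank ℂ W' := by
    by_contra hk
    apply hay
    have hcomm : ∀ (p r : Matrix.SpecialLinearGroup (Fin 4) F) (w : W'), σ p (σ r w) = σ r (σ p w) := by
      intro p r w
      obtain ⟨v, hv⟩ := finrank_le_one_iff.1 (show finrank ℂ W' ≤ 1 by omega)
      obtain ⟨c₁, h1⟩ := hv (σ p v)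
      obtain ⟨c₂, h2⟩ := hv (σ r v)
      obtain ⟨c₃, rfl⟩ := hv w
      simp only [map_smul, ← h1, ← h2, smul_smul]
      ring_nf
    have hle : commutator (Matrix.SpecialLinearGroup (Fin 4) F) ≤ stabOf σ y := by
      rw [commutator_def, Subgroup.commutator_le]
      intro p _ r _
      show σ ⁅p, r⁆ y = y
      rw [commutatorElement_def, rho_mul, rho_mul, rho_mul, hcomm r p⁻¹, rho_apply_inv, rho_apply_inv]
    rw [ClassicalSL.isPerfect_sl (by simp)] at hle
    exact hle (Subgroup.mem_top a)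
  have hirr : τ.IsIrreducible := by
    haveI : Nontrivial (Fin (finrank ℂ W') → ℂ) := Module.nontrivial_of_finrank_pos (R := ℂ) (by
      rw [Module.finrank_fin_fun]; omega)
    haveI : Nontrivial (Subrepresentation τ) := ⟨⊥, ⊤, fun h => by
      have h1 : (⊥ : Submodule ℂ (Fin (finrank ℂ W') → ℂ)) = ⊤ := congrArg Subrepresentation.toSubmodule h
      exact bot_ne_top h1⟩
    refine ⟨fun K => ?_⟩
    rcases hσ (K.toSubmodule.comap b.toLinearMap) (fun p w hw => by
      have h1 := K.apply_mem_toSubmodule p hw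
      simpa [τ] using h1) with h | h
    · left
      apply Subrepresentation.ext
      show K.toSubmodule = ⊥
      rw [eq_bot_iff]
      intro w hw
      have h1 : b.symm w ∈ K.toSubmodule.comap b.toLinearMap := by simpa using hw
      rw [h, Submodule.mem_bot] at h1
      simpa using congrArg b h1
    · right
      apply Subrepresentation.ext
      show K.toSubmodule = ⊤
      rw [eq_top_iff]
      intro w _
      have h1 : b.symm w ∈ K.toSubmodule.comap b.toLinearMap := h ▸ Submodule.mem_top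
      simpa using h1
  have h := (Cfsg.Agent.S2332.result (F := F) 4 (by norm_num) hex).1 _ τ hirr hk
  refine le_trans (le_of_eq ?_) h
  rw [← Nat.card_eq_fintype_card]
  generalize Nat.card F = q at hq ⊢
  rw [eq_comm, Nat.div_eq_of_eq_mul_left (by omega)]
  simp only [mdeg, dd, zc, Nat.zero_div, Nat.sub_zero]
  obtain ⟨p, rfl⟩ : ∃ p, q = p + 1 := ⟨q - 1, by omega⟩
  rw [Nat.add_sub_cancel, Nat.sub_eq_iff_eq_add (by nlinarith [Nat.one_le_pow 3 (p + 1) (by omega)])]
  ring

end Cfsg.Agent.OrthDeg
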