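/-
The two numerical inequalities of the inductive step.
-/
import Cfsg.Agent.Lib.OrthDeg.Arith
import Mathlib.Analysis.SpecialFunctions.Pow.Real

set_option autoImplicit false

namespace Cfsg.Agent.OrthDeg

/-- q times the zero count, in closed form. -/
def zR (q : ℝ) (c : ℕ) (x : ℝ) : ℝ := q * x + x * x * q ^ c - x * q ^ c

/-- q(q² - 1) times the partial sums of zero counts, in closed form. -/
def dR (q : ℝ) : ℕ → ℝ → ℝ
  | 0, x => (x - 1) * (x + q * q)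
  | 1, x => q * (x * x - 1)
  | _, x => (1 - x) * q * (q * q - 1) + q * q * (x * x - 1)

theorem zR_eq (q c m : ℕ) (hq : 0 < q) : (q : ℝ) * zc q c m = zR q c ((q : ℝ) ^ m) := by
  have h : (q : ℝ) * zc q c m + (q : ℝ) ^ (m + c) = (q : ℝ) ^ (m + 1) + (q : ℝ) ^ (2 * m + c) := by
    exact_mod_cast zc_spec q c hq m
  simp only [zR, pow_add, two_mul, pow_one] at h ⊢
  linear_combination h

theorem dR_eq (q c : ℕ) (hq : 0 < q) (hc : c ≤ 2) :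
    ∀ m, (q : ℝ) * ((q : ℝ) * q - 1) * dd q c m = dR q c ((q : ℝ) ^ m)
  | 0 => by interval_cases c <;> simp [dd, dR]
  | m + 1 => by
    have ih := dR_eq q c hq hc m
    have hz := zR_eq q c m hq
    show (q : ℝ) * ((q : ℝ) * q - 1) * ((zc q c m + dd q c m : ℕ) : ℝ) = _
    rw [Nat.cast_add, mul_add, ih, show (q : ℝ) * ((q : ℝ) * q - 1) * zc q c m = ((q : ℝ) * q - 1) * ((q : ℝ) * zc q c m) by ring, hz]
    interval_cases c <;> simp only [zR, dR, pow_succ, pow_zero] <;> ring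

theorem step_core (c : ℕ) (hc : c ≤ 2) (q x : ℝ)
    (hx : (c = 0 ∧ 4 ≤ q ∧ q ^ 3 ≤ x) ∨ (c = 1 ∧ 5 ≤ q ∧ q ^ 2 ≤ x) ∨ (c = 2 ∧ 2 ≤ q ∧ q ^ 2 ≤ x)) :
    0 < 2 * (zR q c (q * q * x) - q) * ((dR q c (q * x) - (c / 2 : ℕ) * (q * (q * q - 1))) ^ 2) -
      ((zR q c (q * x) - q) * (q * q - 1) + (dR q c (q * x) - (c / 2 : ℕ) * (q * (q * q - 1)))) *
        (2 * (q - 1) * (dR q c (q * x) - (c / 2 : ℕ) * (q * (q * q - 1))) * q +
          (zR q c (q * x) - q) * (dR q c x - (c / 2 : ℕ) * (q * (q * q - 1)) + q * (q * q - 1)) * (2 * q + q * q)) ∧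
    0 < 2 * (zR q c (q * q * x) - q) * ((dR q c (q * x) - (c / 2 : ℕ) * (q * (q * q - 1))) ^ 2) -
      ((zR q c (q * x) - q) * (q * q - 1) + (dR q c (q * x) - (c / 2 : ℕ) * (q * (q * q - 1)))) *
        ((dR q c (q * x) - (c / 2 : ℕ) * (q * (q * q - 1))) * q * q * (q - 1) +
          2 * (dR q c (q * x) - (c / 2 : ℕ) * (q * (q * q - 1))) * q * (zR q c x - q) +
          q * q * (zR q c (q * x) - q) * (dR q c x - (c / 2 : ℕ) * (q * (q * q - 1)) + q * (q * q - 1))) := by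
  interval_cases c
  · obtain ⟨-, hq, hx⟩ : (0 : ℕ) = 0 ∧ 4 ≤ q ∧ q ^ 3 ≤ x := by simpa using hx
    obtain ⟨s, hs, rfl⟩ : ∃ s, 0 ≤ s ∧ x = q ^ 3 + s := ⟨x - q ^ 3, by linarith, by ring⟩
    obtain ⟨t, ht, rfl⟩ : ∃ t, 0 ≤ t ∧ q = 4 + t := ⟨q - 4, by linarith, by ring⟩
    simp only [zR, dR, Nat.reduceDiv, Nat.cast_zero]
    constructor <;> · ring_nf; positivity
  · obtain ⟨-, hq, hx⟩ : (1 : ℕ) = 1 ∧ 5 ≤ q ∧ q ^ 2 ≤ x := by simpa using hx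
    obtain ⟨s, hs, rfl⟩ : ∃ s, 0 ≤ s ∧ x = q ^ 2 + s := ⟨x - q ^ 2, by linarith, by ring⟩
    obtain ⟨t, ht, rfl⟩ : ∃ t, 0 ≤ t ∧ q = 5 + t := ⟨q - 5, by linarith, by ring⟩
    simp only [zR, dR, Nat.reduceDiv, Nat.cast_zero]
    constructor <;> · ring_nf; positivity
  · obtain ⟨-, hq, hx⟩ : (2 : ℕ) = 2 ∧ 2 ≤ q ∧ q ^ 2 ≤ x := by simpa using hx
    obtain ⟨s, hs, rfl⟩ : ∃ s, 0 ≤ s ∧ x = q ^ 2 + s := ⟨x - q ^ 2, by linarith, by ring⟩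
    obtain ⟨t, ht, rfl⟩ : ∃ t, 0 ≤ t ∧ q = 2 + t := ⟨q - 2, by linarith, by ring⟩
    simp only [zR, dR, Nat.reduceDiv, Nat.cast_one]
    constructor <;> · ring_nf; positivity

end Cfsg.Agent.OrthDeg
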