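/-
The inductive step.
-/
import Cfsg.Agent.Lib.OrthDeg.Scalar
import Cfsg.Agent.Lib.OrthDeg.Ineq

set_option autoImplicit false

namespace Cfsg.Agent.OrthDeg

open QuadraticMap Module Cfsg.Agent.Orth
open scoped InnerProductSpace

universe u v

variable {F : Type u} {V : Type v} [Field F] [Fintype F] [AddCommGroup V] [Module F V] [FiniteDimensional F V]
  [Fintype V] {Q : QuadraticForm F V}
  {W : Type} [NormedAddCommGroup W] [InnerProductSpace ℂ W] [FiniteDimensional ℂ W]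
  {ρ : omg Q →* (W →ₗ[ℂ] W)} {ψ : AddChar F ℂ}

theorem exists_le_half {ι κ : Type*} [Fintype ι] [Fintype κ] [Nonempty κ] (A : ι → ℝ) (B : κ → ℝ)
    (hcard : Fintype.card ι ≤ Fintype.card κ) (h : ∑ i, A i + ∑ j, B j ≤ Fintype.card ι) :
    (∃ i, A i ≤ 1 / 2) ∨ ∃ j, B j ≤ 1 / 2 := by
  by_contra! hall
  obtain ⟨hA, hB⟩ := hall
  have h1 : ∑ _i : ι, (1 / 2 : ℝ) ≤ ∑ i, A i := Finset.sum_le_sum fun i _ => (hA i).le
  have h2 : ∑ _j : κ, (1 / 2 : ℝ) < ∑ j, B j :=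
    Finset.sum_lt_sum_of_nonempty Finset.univ_nonempty fun j _ => hB j
  simp only [Finset.sum_const, Finset.card_univ, nsmul_eq_mul] at h1 h2
  have h3 : (Fintype.card ι : ℝ) ≤ Fintype.card κ := by exact_mod_cast hcard
  linarith

/-- The numbers attached to a frame. -/
structure Num (Q : QuadraticForm F V) (e d f g : V) (q c i : ℕ) : Prop where
  v : (sgF Q ⊤).card = zc q c (i + 2) - 1
  y : (sgF Q (pperp Q e d)).card = zc q c (i + 1) - 1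
  y' : (sgF Q (pperp Q f g)).card = zc q c (i + 1) - 1
  z : (sgF Q (Z4 Q e d f g)).card = zc q c i - 1
  sY : Nat.card (pperp Q e d) = q * q * Nat.card (Z4 Q e d f g)

namespace Ctx

variable (C : Ctx Q ρ ψ) {c i : ℕ}

include C

theorem num (hT : HasType Q c (i + 2)) {e d f g : V} (H : Frame Q e d f g) :
    Num Q e d f g (Nat.card F) c i := by
  refine ⟨card_sgF hT.top, card_sgF (hT.restrict H.p), card_sgF (hT.restrict H.p'),
    card_sgF (z4_type C.good.nd hT H), ?_⟩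
  rw [card_submodule, card_submodule, ← pow_two, ← pow_add]
  congr 1
  have := finrank_pperp H.p
  have := C.finrank_z4 H
  omega

omit [Fintype V] in
/-- Below the bound, the fixed spaces are irreducible once the smaller bound is known. -/
theorem fxIrred (hcond : Cond (Nat.card F) c i) (hT : HasType Q c (i + 2))
    (hk : finrank ℂ W < mdeg (Nat.card F) c (i + 2)) (hne : ∃ g x, ρ g x ≠ x)
    (hlow : Low.{u, v} F c (i + 1)) : FxIrred Q ρ ψ := by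
  intro e d p L hL hinv
  obtain ⟨f, g, p', hf, hg, -, -⟩ := exists_pair_avoid C.good.nd C.dim7 p (w := (0 : V)) (Submodule.zero_mem _)
  have H : Frame Q e d f g := ⟨p, p', hf, hg⟩
  have S := C.small H hcond hT hk hne fun h _ => by subst h; exact hlow
  obtain ⟨h, x, hx, hne'⟩ := S.moved
  have hmv : ∃ h : omg (restr Q (pperp Q e d)), ∃ x ∈ Fx Q ρ ψ e, ρ (extW p h) x ≠ x := ⟨h, x, hx, hne' p⟩
  by_contra! hcon
  have hlt : finrank ℂ L < finrank ℂ (Fx Q ρ ψ e) :=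
    Submodule.finrank_lt_finrank_of_lt (lt_of_le_of_ne hL hcon.2)
  have hsum := Submodule.finrank_add_inf_finrank_orthogonal hL
  have hpos : 0 < finrank ℂ L := Nat.pos_of_ne_zero fun h => hcon.1 (Submodule.finrank_eq_zero.1 h)
  have hfxle := S.fxle
  rcases moved_or_perp_moved C.unit hL (extW p) (fun h x hx => C.extW_stable p h hx) hinv hmv with h1 | ⟨h1, h2⟩
  · have := C.low_Fx p (j := i + 1) hT hlow hmv hinv h1
    omega
  · have := C.low_Fx p (j := i + 1) hT hlow hmv h1 h2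
    omega

set_option maxHeartbeats 1000000 in
/-- No irreducible representation sits below the bound when the smaller bound is known. -/
theorem step (hirrW : Irred ρ) (hne : ∃ g x, ρ g x ≠ x)
    (hc : (c = 0 ∧ 4 ≤ Nat.card F ∧ 3 ≤ i) ∨ (c = 1 ∧ 5 ≤ Nat.card F ∧ Odd (Nat.card F) ∧ 2 ≤ i) ∨
      (c = 2 ∧ 2 ≤ i))
    (hT : HasType Q c (i + 2)) (hlow : Low.{u, v} F c (i + 1)) :
    mdeg (Nat.card F) c (i + 2) ≤ finrank ℂ W := by
  classical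
  by_contra! hk
  have hcond : Cond (Nat.card F) c i := by
    rcases hc with ⟨a1, a2, a3⟩ | ⟨a1, a2, a3, a4⟩ | ⟨a1, a2⟩
    exacts [Or.inl ⟨a1, a2, by omega⟩, Or.inr (Or.inl ⟨a1, a2, a3, by omega⟩), Or.inr (Or.inr ⟨a1, by omega⟩)]
  have hc2 := hcond.c_le
  obtain ⟨e, d, f, g, H⟩ := exists_frame C.good C.dim7
  have S := C.small H hcond hT hk hne fun h _ => by subst h; exact hlow
  have hFI := C.fxIrred hcond hT hk hne hlow
  obtain ⟨hmv, xm, hxm, hnem⟩ := S.moved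
  have hge := C.low_Fx H.p (j := i + 1) hT hlow ⟨hmv, xm, hxm, hnem H.p⟩
    (fun h x hx => C.extW_stable H.p h hx) ⟨hmv, xm, hxm, hnem H.p⟩
  have hline : ∀ a : F, a ≠ 0 → finrank ℂ (E Q ρ ψ e (a • f)) = 1 := fun a ha =>
    S.sing _ (Submodule.smul_mem _ _ H.hf) (smul_ne_zero ha H.p'.ne) (by rw [q_smul, H.p'.qe, mul_zero])
  have N := C.num hT H
  have hffx : finrank ℂ (Fx Q ρ ψ f) = finrank ℂ (Fx Q ρ ψ e) := C.finrank_Fx_eq H.p'.ne H.p.ne H.p'.qe H.p.qe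
  -- the real quantities
  obtain ⟨q, hqdef⟩ : ∃ q, Nat.card F = q := ⟨_, rfl⟩
  have hq2 : 2 ≤ q := hqdef ▸ Finite.one_lt_card
  have hfxle := S.fxle
  have hdim := S.dim
  have hfx := S.fx
  rw [hqdef] at hfxle hdim hfx hge hk hc N
  have hqR : (2 : ℝ) ≤ q := by exact_mod_cast hq2
  obtain ⟨δ, hδ⟩ : ∃ δ : ℝ, (finrank ℂ (Fx Q ρ ψ e) : ℝ) = δ := ⟨_, rfl⟩
  obtain ⟨δ1, hδ1⟩ : ∃ δ1 : ℝ, (finrank ℂ (KK Q ρ ψ e f) : ℝ) = δ1 := ⟨_, rfl⟩
  obtain ⟨k, hkR⟩ : ∃ k : ℝ, (finrank ℂ W : ℝ) = k := ⟨_, rfl⟩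
  obtain ⟨SV, hSV⟩ : ∃ s : ℝ, ((sgF Q ⊤).card : ℝ) = s := ⟨_, rfl⟩
  obtain ⟨SY, hSY⟩ : ∃ s : ℝ, ((sgF Q (pperp Q e d)).card : ℝ) = s := ⟨_, rfl⟩
  obtain ⟨SZ, hSZ⟩ : ∃ s : ℝ, ((sgF Q (Z4 Q e d f g)).card : ℝ) = s := ⟨_, rfl⟩
  obtain ⟨x, hxdef⟩ : ∃ x : ℝ, (q : ℝ) ^ i = x := ⟨_, rfl⟩
  have hz := zc_pos q c (by omega)
  have e1 : (q : ℝ) * SV = zR q c (q * q * x) - q := by
    rw [← hSV, N.v, Nat.cast_sub (hz _), Nat.cast_one, mul_sub, zR_eq q c _ (by omega), pow_add, mul_one, hxdef,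
      show (q : ℝ) ^ 2 = q * q by ring, mul_comm x]
  have e2 : (q : ℝ) * SY = zR q c (q * x) - q := by
    rw [← hSY, N.y, Nat.cast_sub (hz _), Nat.cast_one, mul_sub, zR_eq q c _ (by omega), pow_succ', mul_one, hxdef]
  have e3 : (q : ℝ) * SZ = zR q c x - q := by
    rw [← hSZ, N.z, Nat.cast_sub (hz _), Nat.cast_one, mul_sub, zR_eq q c _ (by omega), mul_one, hxdef]
  have hdd1 := dd_pos q c (by omega) i
  obtain ⟨i', hi'⟩ : ∃ i', i = i' + 1 := ⟨i - 1, by omega⟩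
  have hdd0 : 1 ≤ dd q c i := hi' ▸ dd_pos q c (by omega) i'
  have hmsucc : mdeg q c (i + 1) = zc q c i + mdeg q c i := hi' ▸ mdeg_succ q c (by omega) (by omega) i'
  have hδnat : finrank ℂ (Fx Q ρ ψ e) = mdeg q c (i + 1) := le_antisymm hfxle hge
  have hmd : ∀ j, 1 ≤ dd q c j → ((mdeg q c j : ℕ) : ℝ) = (dd q c j : ℝ) - (c / 2 : ℕ) := fun j hj => by
    rw [mdeg, Nat.cast_sub (by omega)]
  have e4 : (q : ℝ) * (q * q - 1) * δ = dR q c (q * x) - (c / 2 : ℕ) * ((q : ℝ) * (q * q - 1)) := by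
    rw [← hδ, hδnat, hmd _ hdd1, mul_sub, dR_eq q c (by omega) hc2, pow_succ', hxdef]; ring
  have hδ1nat : finrank ℂ (KK Q ρ ψ e f) = mdeg q c i + 1 := by
    have := hz i
    omega
  have e5 : (q : ℝ) * (q * q - 1) * δ1 =
      dR q c x - (c / 2 : ℕ) * ((q : ℝ) * (q * q - 1)) + (q : ℝ) * (q * q - 1) := by
    rw [← hδ1, hδ1nat, Nat.cast_add, Nat.cast_one, hmd _ hdd0, mul_add, mul_sub, dR_eq q c (by omega) hc2, hxdef]
    ring
  have e6 : k = SY + δ := by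
    rw [← hkR, ← hSY, ← hδ, N.y, Nat.cast_sub (hz _), Nat.cast_one]
    have : (finrank ℂ W : ℝ) + 1 = (finrank ℂ (Fx Q ρ ψ e) : ℝ) + (zc q c (i + 1) : ℝ) := by exact_mod_cast hdim
    linarith
  have hxb : (c = 0 ∧ (4 : ℝ) ≤ q ∧ (q : ℝ) ^ 3 ≤ x) ∨ (c = 1 ∧ (5 : ℝ) ≤ q ∧ (q : ℝ) ^ 2 ≤ x) ∨
      (c = 2 ∧ (2 : ℝ) ≤ q ∧ (q : ℝ) ^ 2 ≤ x) := by
    rcases hc with ⟨h1, h2, h3⟩ | ⟨h1, h2, -, h3⟩ | ⟨h1, h3⟩
    · exact Or.inl ⟨h1, by exact_mod_cast h2, hxdef ▸ pow_le_pow_right₀ (by linarith) h3⟩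
    · exact Or.inr (Or.inl ⟨h1, by exact_mod_cast h2, hxdef ▸ pow_le_pow_right₀ (by linarith) h3⟩)
    · exact Or.inr (Or.inr ⟨h1, hqR, hxdef ▸ pow_le_pow_right₀ (by linarith) h3⟩)
  obtain ⟨hU, hZ⟩ := step_core c hc2 q x hxb
  rw [← e1, ← e2, ← e4, ← e5] at hU
  rw [← e1, ← e2, ← e3, ← e4, ← e5] at hZ
  obtain ⟨P, hP⟩ : ∃ P : ℝ, (q : ℝ) * (q * q - 1) = P := ⟨_, rfl⟩
  have hPpos : 0 < P := by rw [← hP]; nlinarith
  have hU' : k * ((q - 1) * δ + q * SY * δ1 + q ^ 2 * SY * δ1 / 2) < SV * δ ^ 2 := by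
    by_contra! hcon
    have h1 := mul_le_mul_of_nonneg_left hcon (show 0 ≤ 2 * (q : ℝ) * P ^ 2 by positivity)
    rw [e6, ← hP] at h1
    ring_nf at h1 hU
    linarith
  have hZ' : k * (δ * q * (q - 1) / 2 + δ * q * SZ + q ^ 2 * SY * δ1 / 2) < SV * δ ^ 2 := by
    by_contra! hcon
    have h1 := mul_le_mul_of_nonneg_left hcon (show 0 ≤ 2 * (q : ℝ) * P ^ 2 by positivity)
    rw [e6, ← hP] at h1
    ring_nf at h1 hZ
    linarith
  -- the test vectors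
  haveI : Nonempty {a : F // a ≠ 0} := ⟨⟨1, one_ne_zero⟩⟩
  obtain ⟨ε, u, z, -, hε, hu, hz', hsum⟩ := C.exists_test H S.line hline
  rcases exists_le_half (fun j => ‖(Fx Q ρ ψ f).starProjection (u j)‖ ^ 2)
    (fun a => ‖(Fx Q ρ ψ f).starProjection (z a)‖ ^ 2)
    (by
      rw [Fintype.card_fin, Fintype.card_subtype_compl, Fintype.card_subtype_eq, ← Nat.card_eq_fintype_card]
      exact hε)
    (by rw [Fintype.card_fin]; exact hsum) with ⟨j, hj⟩ | ⟨a, ha⟩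
  · obtain ⟨huK, hu1⟩ := hu j
    have h1 := C.sum_le_u H.p huK.1
    have h2 := C.nu_le hFI H H huK.2
    have h3 := C.proj_sum hirrW H.p.ne H.p.qe (u j)
    have h4 := C.cscal hFI H H.p huK.1
    rw [N.sY, hqdef, hu1] at h1
    rw [hffx, N.y', ← N.y, hqdef, hδ, hδ1, hSY] at h2
    rw [hu1, hkR, hSV, hδ] at h3
    rw [hu1, hδ, hδ1, hSY] at h4
    push_cast at h1 h2
    rw [one_pow, mul_one] at h1 h3 h4
    have hSδ : (0 : ℝ) ≤ SY * δ1 := mul_nonneg (hSY ▸ Nat.cast_nonneg _) (hδ1 ▸ Nat.cast_nonneg _)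
    have hk0 : (0 : ℝ) ≤ k := hkR ▸ Nat.cast_nonneg _
    have hδ0 : (0 : ℝ) ≤ δ := hδ ▸ Nat.cast_nonneg _
    have h5 := mul_le_mul_of_nonneg_left h1 (mul_nonneg hk0 hδ0)
    have h6 := mul_le_mul_of_nonneg_left (h2.trans (mul_le_mul_of_nonneg_left hj hSδ))
      (mul_nonneg hk0 (sq_nonneg (q : ℝ)))
    exact absurd hU' (not_lt.2 (by linear_combination h5 + h6 - δ * h3 + k * q * h4))
  · obtain ⟨hzE, hz1⟩ := hz' a
    have h1 := C.sum_le_z H a.2 hzE hz1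
    have h2 := C.nu_le hFI H H (C.line_le_MM H S.line a.2 hzE)
    have h3 := C.proj_sum hirrW H.p.ne H.p.qe (z a)
    rw [N.sY, hqdef, hSZ] at h1
    rw [hffx, N.y', ← N.y, hqdef, hδ, hδ1, hSY] at h2
    rw [hz1, hkR, hSV, hδ] at h3
    push_cast at h1 h2
    rw [one_pow, mul_one] at h3
    have hSδ : (0 : ℝ) ≤ SY * δ1 := mul_nonneg (hSY ▸ Nat.cast_nonneg _) (hδ1 ▸ Nat.cast_nonneg _)
    have hk0 : (0 : ℝ) ≤ k := hkR ▸ Nat.cast_nonneg _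
    have hδ0 : (0 : ℝ) ≤ δ := hδ ▸ Nat.cast_nonneg _
    have h5 := mul_le_mul_of_nonneg_left h1 (mul_nonneg hk0 hδ0)
    have h6 := mul_le_mul_of_nonneg_left (h2.trans (mul_le_mul_of_nonneg_left ha hSδ))
      (mul_nonneg hk0 (sq_nonneg (q : ℝ)))
    have h7 := mul_le_mul_of_nonneg_left ha (show (0 : ℝ) ≤ k * δ * (q * (q - 1)) by
      have : (0 : ℝ) ≤ (q : ℝ) - 1 := by linarith
      positivity)
    exact absurd hZ' (not_lt.2 (by linear_combination h5 + h6 + h7 - δ * h3))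

end Ctx

end Cfsg.Agent.OrthDeg
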