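/-
The lower bounds by induction on the number of hyperbolic planes.
-/
import Cfsg.Agent.Lib.OrthDeg.Step
import Cfsg.Agent.Lib.OrthDeg.BaseOdd
import Cfsg.Agent.Lib.OrthDeg.BasePlus

set_option autoImplicit false

namespace Cfsg.Agent.OrthDeg

open QuadraticMap Module Cfsg.Agent.Orth

universe u v

variable {F : Type u} [Field F] [Fintype F]

/-- It suffices to treat irreducible representations in a standing context. -/
theorem low_of_ctx {c i : ℕ} (hdim : 7 ≤ 2 * (i + 2) + c)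
    (h : ∀ (V : Type v) [AddCommGroup V] [Module F V] [FiniteDimensional F V] [Fintype V] (Q : QuadraticForm F V),
      HasType Q c (i + 2) → ∀ (W : Type) [NormedAddCommGroup W] [InnerProductSpace ℂ W] [FiniteDimensional ℂ W]
      (ρ : omg Q →* (W →ₗ[ℂ] W)) (ψ : AddChar F ℂ), Ctx Q ρ ψ → Irred ρ → (∃ g x, ρ g x ≠ x) →
        mdeg (Nat.card F) c (i + 2) ≤ finrank ℂ W) :
    Low.{u, v} F c (i + 2) := by
  intro V _ _ _ Q hQ hT W _ _ _ ρ hu hne
  haveI : Finite V := Module.finite_of_finite F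
  haveI := Fintype.ofFinite V
  refine le_of_irred (H := omg Q) _ ?_ _ W ρ rfl hu hne
  intro W' _ _ _ σ hσu hσ hσne
  obtain ⟨ψ, hψ⟩ := exists_psi F
  have hd : 7 ≤ finrank F V := by rw [hT.1]; exact hdim
  exact h V Q hT W' σ ψ ⟨⟨hQ, by omega⟩, hd, hσu, hψ⟩ hσ hσne

theorem two_ne_of_odd (hodd : Odd (Nat.card F)) : (2 : F) ≠ 0 := by
  intro h2
  haveI : CharP F 2 := CharTwo.of_one_ne_zero_of_two_eq_zero one_ne_zero h2
  have h := FiniteField.even_card_of_char_two (F := F) (ringChar.eq F 2)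
  rw [Nat.card_eq_fintype_card, Nat.odd_iff] at hodd
  omega

theorem low_minus : ∀ i, 1 ≤ i → Low.{u, v} F 2 (i + 2) := by
  intro i hi
  induction i, hi using Nat.le_induction with
  | base =>
    refine low_of_ctx (by omega) fun V _ _ _ _ Q hT W _ _ _ ρ ψ C hirr hne => ?_
    by_contra! hk
    obtain ⟨e, d, f, g, H⟩ := exists_frame C.good C.dim7
    exact C.base_minus H hirr hne hT
      (C.small H (Or.inr (Or.inr ⟨rfl, le_rfl⟩)) hT hk hne fun _ h => absurd h (by omega))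
  | succ i hi ih =>
    exact low_of_ctx (by omega) fun V _ _ _ _ Q hT W _ _ _ ρ ψ C hirr hne =>
      C.step hirr hne (Or.inr (Or.inr ⟨rfl, by omega⟩)) hT ih

theorem low_odd (hq : 5 ≤ Nat.card F) (hodd : Odd (Nat.card F)) : ∀ i, 1 ≤ i → Low.{u, v} F 1 (i + 2) := by
  intro i hi
  induction i, hi using Nat.le_induction with
  | base =>
    refine low_of_ctx (by omega) fun V _ _ _ _ Q hT W _ _ _ ρ ψ C hirr hne => ?_
    by_contra! hk
    obtain ⟨e, d, f, g, H⟩ := exists_frame C.good C.dim7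
    exact C.base_odd H hirr hne hT hq (two_ne_of_odd hodd)
      (C.small H (Or.inr (Or.inl ⟨rfl, hq, hodd, le_rfl⟩)) hT hk hne fun h => absurd h (by omega))
  | succ i hi ih =>
    exact low_of_ctx (by omega) fun V _ _ _ _ Q hT W _ _ _ ρ ψ C hirr hne =>
      C.step hirr hne (Or.inr (Or.inl ⟨rfl, hq, hodd, by omega⟩)) hT ih

theorem low_plus (hq : 4 ≤ Nat.card F) : ∀ i, 2 ≤ i → Low.{u, v} F 0 (i + 2) := by
  intro i hi
  induction i, hi using Nat.le_induction with
  | base =>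
    refine low_of_ctx (by omega) fun V _ _ _ _ Q hT W _ _ _ ρ ψ C hirr hne => ?_
    by_contra! hk
    obtain ⟨e, d, f, g, H⟩ := exists_frame C.good C.dim7
    have S := C.small H (Or.inl ⟨rfl, hq, le_rfl⟩) hT hk hne fun h => absurd h (by omega)
    obtain ⟨h, x, hx, hmv⟩ := S.moved
    exact C.base_plus H hirr hne hT hq S (C.low_Fx H.p (j := 3) hT (low_plus_three hq) ⟨h, x, hx, hmv H.p⟩
      (fun h x hx => C.extW_stable H.p h hx) ⟨h, x, hx, hmv H.p⟩)
  | succ i hi ih =>
    exact low_of_ctx (by omega) fun V _ _ _ _ Q hT W _ _ _ ρ ψ C hirr hne =>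
      C.step hirr hne (Or.inl ⟨rfl, hq, by omega⟩) hT ih

end Cfsg.Agent.OrthDeg
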