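/-
The standard forms: types, closed forms of the bound, and the passage from matrix groups.
-/
import Cfsg.Agent.Lib.OrthDeg.Induction
import Cfsg.Agent.Lib.Orthogonal.POmega

set_option autoImplicit false

namespace Cfsg.Agent.OrthDeg

open QuadraticMap Module Cfsg.Agent.Orth

universe u

variable {F : Type u} [Field F] [Fintype F]

theorem hasType_qPlus (m : ℕ) (hm : 1 ≤ m) : HasType (qPlus F m) 0 m := by
  obtain ⟨k, rfl⟩ : ∃ k, m = k + 1 := ⟨m - 1, by omega⟩
  refine ⟨by simp [two_mul], ?_⟩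
  refine Nat.eq_of_mul_eq_mul_left (Nat.card_pos (α := F))
    (Nat.add_right_cancel (m := Nat.card F ^ (k + 1)) ?_)
  have h1 := zeros_qPlus (F := F) k
  have h2 := zc_spec (Nat.card F) 0 Nat.card_pos (k + 1)
  rw [add_zero, add_zero] at h2
  rw [h2]
  linear_combination (Nat.card F) * h1

theorem hasType_qMinus {a b : F} (hab : ∀ z₁ z₂ : F, z₁ ^ 2 + a * z₁ * z₂ + b * z₂ ^ 2 = 0 → z₁ = 0 ∧ z₂ = 0)
    (m : ℕ) : HasType (qMinus F m a b) 2 m := by
  refine ⟨by simp [two_mul], ?_⟩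
  refine Nat.eq_of_mul_eq_mul_left (Nat.card_pos (α := F))
    (Nat.add_right_cancel (m := Nat.card F ^ (m + 2)) ?_)
  have h1 := zeros_qMinus hab m
  rw [zc_spec (Nat.card F) 2 Nat.card_pos m]
  linear_combination (Nat.card F) * h1

theorem hasType_qOdd (m : ℕ) : HasType (qOdd F m) 1 m := by
  refine ⟨by simp [two_mul]; ring, ?_⟩
  refine Nat.eq_of_mul_eq_mul_left (Nat.card_pos (α := F))
    (Nat.add_right_cancel (m := Nat.card F ^ (m + 1)) ?_)
  rw [zc_spec (Nat.card F) 1 Nat.card_pos m, zeros_qOdd]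
  ring

theorem div_eq_of_real {N D d : ℕ} (hD : 0 < D) (h : (N : ℝ) = d * D) : N / D = d :=
  Nat.div_eq_of_eq_mul_left hD (by exact_mod_cast h)

theorem closed_plus (q n : ℕ) (hq : 2 ≤ q) (hn : 1 ≤ n) :
    (q ^ n - 1) * (q ^ (n - 1) + q) / (q ^ 2 - 1) = mdeg q 0 n := by
  have hq2 : 1 < q ^ 2 := Nat.one_lt_pow two_ne_zero (by omega)
  refine div_eq_of_real (Nat.sub_pos_of_lt hq2) ?_
  obtain ⟨j, rfl⟩ : ∃ j, n = j + 1 := ⟨n - 1, by omega⟩
  have h := dR_eq q 0 (by omega) (by omega) (j + 1)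
  simp only [dR, pow_succ] at h
  rw [Nat.add_sub_cancel]
  simp only [mdeg, Nat.zero_div, Nat.sub_zero]
  push_cast [Nat.cast_sub hq2.le, Nat.cast_sub (Nat.one_le_pow (j + 1) q (by omega))]
  refine mul_left_cancel₀ (show (q : ℝ) ≠ 0 by positivity) ?_
  simp only [pow_succ, pow_zero, one_mul]
  linear_combination -h

theorem closed_odd (q n : ℕ) (hq : 2 ≤ q) : (q ^ (2 * n) - 1) / (q ^ 2 - 1) = mdeg q 1 n := by
  have hq2 : 1 < q ^ 2 := Nat.one_lt_pow two_ne_zero (by omega)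
  refine div_eq_of_real (Nat.sub_pos_of_lt hq2) ?_
  have h := dR_eq q 1 (by omega) (by omega) n
  simp only [dR] at h
  simp only [mdeg, Nat.reduceDiv, Nat.sub_zero]
  push_cast [Nat.cast_sub hq2.le, Nat.cast_sub (Nat.one_le_pow (2 * n) q (by omega))]
  refine mul_left_cancel₀ (show (q : ℝ) ≠ 0 by positivity) ?_
  rw [two_mul, pow_add, pow_two]
  linear_combination -h

theorem closed_minus (q n : ℕ) (hq : 2 ≤ q) (hn : 2 ≤ n) :
    (q ^ n + 1) * (q ^ (n - 1) - q) / (q ^ 2 - 1) = mdeg q 2 (n - 1) := by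
  have hq2 : 1 < q ^ 2 := Nat.one_lt_pow two_ne_zero (by omega)
  refine div_eq_of_real (Nat.sub_pos_of_lt hq2) ?_
  obtain ⟨j, rfl⟩ : ∃ j, n = j + 2 := ⟨n - 2, by omega⟩
  have h := dR_eq q 2 (by omega) (by omega) (j + 1)
  simp only [dR, pow_succ] at h
  rw [show j + 2 - 1 = j + 1 by omega]
  have hqj : q ≤ q ^ (j + 1) := Nat.le_self_pow (by omega) q
  have hpos := dd_pos q 2 (by omega) j
  simp only [mdeg, Nat.reduceDiv]
  push_cast [Nat.cast_sub hq2.le, Nat.cast_sub hqj, Nat.cast_sub hpos]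
  refine mul_left_cancel₀ (show (q : ℝ) ≠ 0 by positivity) ?_
  simp only [pow_succ, pow_zero, one_mul]
  linear_combination -h

/-- A bound for all nontrivial unitary representations bounds the irreducible matrix ones. -/
theorem bound_of_low {ι : Type} [Fintype ι] [DecidableEq ι] {Q : QuadraticForm F (ι → F)} {c m : ℕ}
    (hQ : (polarBilin Q).Nondegenerate) (hT : HasType Q c m) (hlow : Low.{u, u} F c m) (k : ℕ)
    (ρ : Representation ℂ (Cfsg.Omega F (⇑Q)) (Fin k → ℂ)) (hρ : ρ.IsIrreducible) (hk : 2 ≤ k) :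
    mdeg (Nat.card F) c m ≤ k := by
  haveI : Finite (ι → F) := Pi.finite
  haveI : Finite (omg Q) := finite_omg
  obtain ⟨g, x, hgx⟩ := exists_ne_of_irreducible ρ hρ hk
  let σ : Representation ℂ (omg Q) (Fin k → ℂ) := ρ.comp (omegaEquiv Q).symm.toMonoidHom
  obtain ⟨W, _, _, τ, e, hu, he⟩ := exists_unitary σ
  haveI : FiniteDimensional ℂ W := Module.Finite.equiv e.symm
  have h := hlow (ι → F) Q hQ hT W τ hu ⟨omegaEquiv Q g, e.symm x, fun h => hgx (by
    have h1 := congrArg e h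
    rwa [he, e.apply_symm_apply, show σ (omegaEquiv Q g) = ρ g by simp [σ]] at h1)⟩
  rwa [e.finrank_eq, Module.finrank_fin_fun] at h

end Cfsg.Agent.OrthDeg
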